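import Cfsg.Agent.Lib.SelfCentSix.Layer
import Cfsg.Agent.Lib.SelfCentThree.Act

/-!
# A central four group forces an elementary abelian Sylow subgroup

`Inner h S` : the normalizer of `S` in `C_G(u)` induces on `S` only inner automorphisms times powers of `x`.
`elementary_of_central` : then `S` is elementary abelian if it has a central involution other than `u`.
-/

set_option autoImplicit false
set_option linter.unusedSectionVars false
set_option linter.style.haveILetI false

namespace Cfsg.Agent.SelfCentSix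

open Subgroup SelfCentThree
open scoped commutatorElement

variable {G : Type*} [Group G] [Finite G] {u x : G}

/-- The normalizer of `S` in `C_G(u)` induces on `S` only inner automorphisms times powers of `x`. -/
def Inner (_h : Hyp u x) (S : Sylow 2 G) : Prop :=
  ∀ g ∈ Cu u, g ∈ normalizer ((S : Subgroup G) : Set G) →
    ∃ i : ℕ, ∃ s ∈ (S : Subgroup G), ∀ a ∈ (S : Subgroup G),
      g * a * g⁻¹ = s * (x ^ i * a * (x ^ i)⁻¹) * s⁻¹

/-- The central elements of square one. -/
def omegaCenter (S : Subgroup G) : Subgroup G where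
  carrier := {z | z ∈ S ∧ z * z = 1 ∧ ∀ s ∈ S, Commute s z}
  one_mem' := ⟨one_mem _, one_mul 1, fun s _ => Commute.one_right s⟩
  mul_mem' := by
    rintro a b ⟨a1, a2, a3⟩ ⟨b1, b2, b3⟩
    exact ⟨mul_mem a1 b1, by rw [(b3 a a1).symm.mul_mul_mul_comm, a2, b2, one_mul],
      fun s hs => (a3 s hs).mul_right (b3 s hs)⟩
  inv_mem' := by
    rintro a ⟨a1, a2, a3⟩
    exact ⟨inv_mem a1, by rw [← mul_inv_rev, a2, inv_one], fun s hs => (a3 s hs).inv_right⟩

theorem mem_omegaCenter {S : Subgroup G} {z : G} :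
    z ∈ omegaCenter S ↔ z ∈ S ∧ z * z = 1 ∧ ∀ s ∈ S, Commute s z := Iff.rfl

theorem omegaCenter_conj {S : Subgroup G} {g z : G} (hg : g ∈ normalizer (S : Set G))
    (hz : z ∈ omegaCenter S) : g * z * g⁻¹ ∈ omegaCenter S := by
  obtain ⟨z1, z2, z3⟩ := hz
  refine ⟨(mem_normalizer_iff.1 hg z).1 z1, ?_, fun s hs => ?_⟩
  · rw [show g * z * g⁻¹ * (g * z * g⁻¹) = g * (z * z) * g⁻¹ by group, z2, mul_one, mul_inv_cancel]
  · have hs' : g⁻¹ * s * g ∈ S := (mem_normalizer_iff''.1 hg s).1 hs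
    have := (z3 _ hs').map (MulAut.conj g).toMonoidHom
    simpa [mul_assoc] using this

theorem mem_normalizer_of_invar {S : Subgroup G} {x : G} (hx : Invar x S) :
    x ∈ normalizer (S : Set G) :=
  mem_normalizer_iff.2 fun a => ⟨fun ha => hx a ha, fun ha => by
    have := invar_le_conj hx ha
    rwa [show x⁻¹ * (x * a * x⁻¹) * x = a by group] at this⟩

/-- An element whose power prime to its order's 2-part is `k`. -/
theorem exists_odd_lift {N A : Type*} [Group N] [Finite N] [Group A] (α : N →* A) {n : N}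
    (hk : Odd (orderOf (α n))) : ∃ f : N, α f = α n ∧ Odd (orderOf f) := by
  obtain ⟨a, m, hm, hn⟩ := Nat.exists_eq_two_pow_mul_odd (orderOf_pos n).ne'
  obtain ⟨i, hi⟩ := exists_pow_eq_self_of_coprime (x := α n) (n := 2 ^ a)
    (Nat.Coprime.pow_left a (Nat.coprime_two_left.2 hk))
  refine ⟨(n ^ 2 ^ a) ^ i, by rw [map_pow, map_pow]; exact hi, hm.of_dvd_nat ?_⟩
  rw [orderOf_dvd_iff_pow_eq_one, ← pow_mul, ← pow_mul, ← orderOf_dvd_iff_pow_eq_one, hn]
  exact ⟨i, by ring⟩

/-- A 2-element is a power of each of its odd powers. -/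
theorem exists_pow_of_odd {K : Type*} [Group K] {b : K} {j n : ℕ} (hb : b ^ 2 ^ j = 1) (hn : Odd n) :
    ∃ i : ℕ, (b ^ n) ^ i = b := by
  obtain ⟨k, -, hk⟩ := (Nat.dvd_prime_pow Nat.prime_two).1 (orderOf_dvd_of_pow_eq_one hb)
  exact exists_pow_eq_self_of_coprime (hk ▸ Nat.Coprime.pow_right k (Nat.coprime_two_right.2 hn))

theorem elementary_of_central (h : Hyp u x) (S : Sylow 2 G) (hSC : (S : Subgroup G) ≤ Cu u)
    (hinv : Invar x (S : Subgroup G)) (huS : u ∈ (S : Subgroup G)) (HC : Inner h S) {z : G}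
    (hz : z ∈ omegaCenter (S : Subgroup G)) (hzu : z ∉ zpowers u) :
    ∀ a ∈ (S : Subgroup G), a * a = 1 := by
  classical
  haveI : Fact (Nat.Prime 2) := ⟨Nat.prime_two⟩
  set W := omegaCenter (S : Subgroup G) with hWdef
  set N := normalizer ((S : Subgroup G) : Set G) with hN
  have h3S := not_three_dvd_of_two S.isPGroup'
  have hWS : W ≤ (S : Subgroup G) := fun _ ha => ha.1
  have hWN : W ≤ N := fun _ ha => le_normalizer ha.1
  have hxN : x ∈ N := mem_normalizer_of_invar hinv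
  have huW : u ∈ W := ⟨huS, h.u2, fun s hs => mem_Cu.1 (hSC hs)⟩
  haveI hWn : (W.subgroupOf N).Normal := ⟨fun a ha g => omegaCenter_conj g.2 ha⟩
  set α : N →* MulAut (W.subgroupOf N) := MulAut.conjNormal with hα
  have hα1 : ∀ n m : N, α n = α m ↔ ∀ w ∈ W, (n : G) * w * (n : G)⁻¹ = m * w * (m : G)⁻¹ := by
    intro n m
    constructor
    · intro e w hw
      have := congrArg (fun φ : MulAut (W.subgroupOf N) => ((φ ⟨⟨w, hWN hw⟩, hw⟩ : N) : G)) e
      simpa [hα] using this
    · intro e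
      refine MulEquiv.ext fun w => Subtype.ext (Subtype.ext ?_)
      simpa [hα] using e _ w.2
  set A := α.range
  let xb : A := α.rangeRestrict ⟨x, hxN⟩
  have hstab : ∀ n : N, (n : G) * u * (n : G)⁻¹ = u → α.rangeRestrict n ∈ zpowers xb := by
    intro n hn
    obtain ⟨i, s, hs, e⟩ := HC n (mem_Cu.2 (mul_inv_eq_iff_eq_mul.1 hn)) n.2
    refine mem_zpowers_iff.2 ⟨i, ?_⟩
    rw [zpow_natCast, ← map_pow]
    refine Subtype.ext ((hα1 _ n).2 fun w hw => ?_)
    rw [e w hw.1, SubmonoidClass.coe_pow]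
    have hw' : x ^ i * w * (x ^ i)⁻¹ ∈ W := omegaCenter_conj (pow_mem hxN i) hw
    rw [(hw'.2.2 s hs).eq, mul_inv_cancel_right]
  have hxb : orderOf xb = 3 := by
    refine orderOf_eq_prime (hp := ⟨Nat.prime_three⟩) ?_ fun e => ?_
    · rw [← map_pow, show (⟨x, hxN⟩ : N) ^ 3 = 1 from Subtype.ext h.x3, map_one]
    · refine hzu (h.fixed hSC h3S hinv hz.1 ?_)
      have := (hα1 ⟨x, hxN⟩ 1).1 (by rw [map_one]; exact congrArg Subtype.val e) z hz
      simp only [OneMemClass.coe_one, one_mul, inv_one, mul_one] at this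
      rw [this, mul_inv_cancel]; exact one_mem _
  have hcent : ∀ a : A, Commute a xb → a ∈ zpowers xb := by
    intro a ha
    obtain ⟨n, rfl⟩ := α.rangeRestrict_surjective a
    refine hstab n ?_
    set w := (n : G) * u * (n : G)⁻¹ with hwd
    have hwW : w ∈ W := omegaCenter_conj n.2 huW
    have hwx : x * w * x⁻¹ = w := by
      have e := (hα1 (⟨x, hxN⟩ * n) (n * ⟨x, hxN⟩)).1 (by
        have := congrArg Subtype.val ha.symm.eq
        simpa [xb, map_mul] using this) u huW
      simp only [Subgroup.coe_mul, mul_inv_rev] at e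
      calc x * w * x⁻¹ = x * (n : G) * u * ((n : G)⁻¹ * x⁻¹) := by rw [hwd]; group
        _ = (n : G) * x * u * (x⁻¹ * (n : G)⁻¹) := e
        _ = (n : G) * (x * u * x⁻¹) * (n : G)⁻¹ := by group
        _ = w := by rw [h.x_conj_u]
    have := h.eq_of_commute hSC h3S hinv hwW.1 (show w * x = x * w from (mul_inv_eq_iff_eq_mul.1 hwx).symm)
    rcases h.mem_Z_iff.1 this with e | e
    · exact absurd (conj_eq_one_iff.1 (hwd ▸ e)) h.u_ne
    · exact e
  have hoddA : Odd (Nat.card A) := by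
    rw [← index_ker]
    refine (odd_relIndex S (le_normalizer : (S : Subgroup G) ≤ N)).of_dvd_nat (index_dvd_of_le ?_)
    intro s hs
    rw [MonoidHom.mem_ker, ← map_one α]
    refine (hα1 s 1).2 fun w hw => ?_
    rw [OneMemClass.coe_one, one_mul, inv_one, mul_one, (hw.2.2 s hs).eq, mul_inv_cancel_right]
  obtain ⟨K, hKmem, hKcard⟩ := SelfCentThree.exists_complement hoddA hxb hcent
  have hKconj : ∀ (a : A) (k : A), k ∈ K → a * k * a⁻¹ ∈ K := fun a k hk => by
    rw [hKmem] at hk ⊢; rwa [Involution.orderOf_conj]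
  -- fusion
  have hfus : ∀ w ∈ W, w ≠ 1 → ∃ n : N, (n : G) * u * (n : G)⁻¹ = w := by
    intro w hw hw1
    obtain ⟨n, hn, e⟩ := exists_normalizer_conj S (fun s hs => huW.2.2 s hs) (fun s hs => hw.2.2 s hs)
      (h.fused u w h.ordu (Involution.orderOf_of_sq hw.2.1 hw1))
    exact ⟨⟨n, hn⟩, e⟩
  obtain ⟨k, hk, hk1⟩ : ∃ k ∈ K, k ≠ 1 := by
    by_contra hne
    push Not at hne
    have hK1 : Nat.card K = 1 := card_eq_one.2 ((Subgroup.eq_bot_iff_forall K).2 hne)
    rw [hK1, mul_one] at hKcard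
    have htop : zpowers xb = ⊤ := eq_top_of_card_eq _ (by rw [Nat.card_zpowers, hxb, hKcard])
    obtain ⟨n, hn⟩ := hfus z hz (fun e => hzu (e ▸ one_mem _))
    obtain ⟨i, hi⟩ := mem_zpowers_iff.1 (htop ▸ mem_top (α.rangeRestrict n) : α.rangeRestrict n ∈ zpowers xb)
    have := (hα1 n (⟨x, hxN⟩ ^ i)).1 (by
      have := congrArg Subtype.val hi.symm
      simpa [xb] using this) u huW
    rw [hn, SubgroupClass.coe_zpow, ((mem_Cu.1 (zpow_mem h.x_mem i))).eq, mul_inv_cancel_right] at this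
    exact hzu (this ▸ mem_zpowers u)
  obtain ⟨n0, hn0⟩ := α.rangeRestrict_surjective k
  obtain ⟨f, hf, hfodd⟩ := exists_odd_lift α.rangeRestrict (n := n0) (by
    rw [hn0]; exact hoddA.of_dvd_nat (orderOf_dvd_natCard _))
  rw [hn0] at hf
  -- `f` fixes no nontrivial element of `W`
  have hfW : ∀ w ∈ W, (f : G) * w * (f : G)⁻¹ = w → w = 1 := by
    intro w hw e
    by_contra hw1
    obtain ⟨n, hn⟩ := hfus w hw hw1
    have hk' : α.rangeRestrict n⁻¹ * k * α.rangeRestrict n ∈ K := by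
      have := hKconj (α.rangeRestrict n⁻¹) k hk
      rwa [← map_inv, inv_inv] at this
    have hst := hstab (n⁻¹ * f * n) (by
      simp only [Subgroup.coe_mul, InvMemClass.coe_inv]
      calc (n : G)⁻¹ * (f : G) * n * u * ((n : G)⁻¹ * f * n)⁻¹
          = (n : G)⁻¹ * ((f : G) * ((n : G) * u * (n : G)⁻¹) * (f : G)⁻¹) * n := by group
        _ = u := by rw [hn, e, ← hn]; group)
    rw [map_mul, map_mul, hf] at hst
    have hcon : α.rangeRestrict n⁻¹ * k * α.rangeRestrict n = 1 := by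
      by_contra hne'
      rw [hKmem] at hk'
      refine hk' ?_
      have hd := orderOf_dvd_of_mem_zpowers hst
      rw [hxb] at hd
      rcases (Nat.dvd_prime Nat.prime_three).1 hd with e' | e'
      · exact absurd (orderOf_eq_one_iff.1 e') hne'
      · exact e' ▸ dvd_rfl
    rw [map_inv, mul_eq_one_iff_eq_inv, inv_mul_eq_iff_eq_mul, mul_inv_cancel] at hcon
    exact hk1 hcon
  -- the good subgroups
  let Good : Subgroup G → Prop := fun U => W ≤ U ∧ U ≤ (S : Subgroup G) ∧
    (∀ n ∈ N, ∀ a ∈ U, n * a * n⁻¹ ∈ U) ∧ ∀ a ∈ U, (f : G) * a * (f : G)⁻¹ * a⁻¹ ∈ W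
  have hgW : Good W := ⟨le_rfl, hWS, fun n hn a ha => omegaCenter_conj hn ha,
    fun a ha => mul_mem (omegaCenter_conj f.2 ha) (inv_mem ha)⟩
  haveI : Finite (Subgroup G) := inferInstance
  obtain ⟨U, hU, hUmax⟩ := Set.Finite.exists_maximalFor (fun U : Subgroup G => Nat.card U) {U | Good U}
    (Set.toFinite _) ⟨W, hgW⟩
  obtain ⟨hWU, hUS, hUn, hUf⟩ := hU
  have hUS' : U = (S : Subgroup G) := by
    by_contra hne
    have hUN : U ≤ N := hUS.trans le_normalizer
    haveI : (U.subgroupOf N).Normal := ⟨fun a ha g => hUn g g.2 a ha⟩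
    haveI : ((S : Subgroup G).subgroupOf N).Normal := normal_in_normalizer
    -- the next layer
    let U' : Subgroup G :=
      { carrier := {a | a ∈ (S : Subgroup G) ∧ ∀ g ∈ (S : Subgroup G), ⁅a, g⁆ ∈ U}
        one_mem' := ⟨one_mem _, fun g _ => by rw [commutatorElement_one_left]; exact one_mem _⟩
        mul_mem' := by
          rintro a b ⟨a1, a2⟩ ⟨b1, b2⟩
          refine ⟨mul_mem a1 b1, fun g hg => ?_⟩
          rw [show ⁅a * b, g⁆ = a * ⁅b, g⁆ * a⁻¹ * ⁅a, g⁆ by simp only [commutatorElement_def]; group]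
          exact mul_mem (hUn a (le_normalizer a1) _ (b2 g hg)) (a2 g hg)
        inv_mem' := by
          rintro a ⟨a1, a2⟩
          refine ⟨inv_mem a1, fun g hg => ?_⟩
          rw [show ⁅a⁻¹, g⁆ = a⁻¹ * ⁅a, g⁆⁻¹ * a⁻¹⁻¹ by simp only [commutatorElement_def]; group]
          exact hUn _ (le_normalizer (inv_mem a1)) _ (inv_mem (a2 g hg)) }
    have hU'S : U' ≤ (S : Subgroup G) := fun _ ha => ha.1
    have hU'n : ∀ n ∈ N, ∀ a ∈ U', n * a * n⁻¹ ∈ U' := by
      rintro n hn a ⟨a1, a2⟩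
      refine ⟨(mem_normalizer_iff.1 hn a).1 a1, fun g hg => ?_⟩
      have hg' : n⁻¹ * g * n ∈ (S : Subgroup G) := (mem_normalizer_iff''.1 hn g).1 hg
      rw [show ⁅n * a * n⁻¹, g⁆ = n * ⁅a, n⁻¹ * g * n⁆ * n⁻¹ by simp only [commutatorElement_def]; group]
      exact hUn n hn _ (a2 _ hg')
    have hUU' : U ≤ U' := fun a ha => ⟨hUS ha, fun g hg => by
      rw [show ⁅a, g⁆ = a * (g * a⁻¹ * g⁻¹) by rw [commutatorElement_def]; group]
      exact mul_mem ha (hUn g (le_normalizer hg) _ (inv_mem ha))⟩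
    set π := QuotientGroup.mk' (U.subgroupOf N)
    set E : Subgroup (N ⧸ U.subgroupOf N) := (U'.subgroupOf N).map π with hE
    haveI : (U'.subgroupOf N).Normal := ⟨fun a ha g => hU'n g g.2 a ha⟩
    haveI hEn : E.Normal := Normal.map inferInstance π (QuotientGroup.mk'_surjective _)
    haveI : IsMulCommutative E := ⟨⟨by
      rintro ⟨_, a, ha, rfl⟩ ⟨_, b, hb, rfl⟩
      refine Subtype.ext ?_
      show π a * π b = π b * π a
      rw [← commutatorElement_eq_one_iff_mul_comm, ← map_commutatorElement]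
      refine (QuotientGroup.eq_one_iff _).2 ?_
      show ((⁅a, b⁆ : N) : G) ∈ U
      exact (mem_subgroupOf.1 ha).2 (b : G) (hU'S (mem_subgroupOf.1 hb))⟩⟩
    letI : CommGroup E :=
      { (inferInstance : Group E) with mul_comm := fun a b => mul_comm' a b }
    let β : N →* MulAut E := (MulAut.conjNormal (H := E)).comp π
    have hβ : ∀ n : N, ∀ a (ha : a ∈ U'.subgroupOf N),
        ((β n ⟨π a, mem_map_of_mem _ ha⟩ : E) : N ⧸ U.subgroupOf N) = π (n * a * n⁻¹) := by
      intro n a ha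
      show π n * π a * (π n)⁻¹ = _
      rw [map_mul, map_mul, map_inv]
    have hker : α.rangeRestrict.ker ≤ β.ker := by
      intro n hn
      rw [MonoidHom.ker_rangeRestrict, MonoidHom.mem_ker, ← map_one α] at hn
      have hnW := (hα1 n 1).1 hn
      have hnu : (n : G) * u * (n : G)⁻¹ = u := by simpa using hnW u huW
      obtain ⟨i, s, hs, e⟩ := HC n (mem_Cu.2 (mul_inv_eq_iff_eq_mul.1 hnu)) n.2
      have hxi : x ^ i = 1 := by
        have h1 : x ^ i * z * (x ^ i)⁻¹ = z := by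
          have hzz : (n : G) * z * (n : G)⁻¹ = z := by simpa using hnW z hz
          have hw' : x ^ i * z * (x ^ i)⁻¹ ∈ W := omegaCenter_conj (pow_mem hxN i) hz
          rw [e z hz.1, (hw'.2.2 s hs).eq, mul_inv_cancel_right] at hzz
          exact hzz
        rcases mem_zpowers_three h.ordx (pow_mem (mem_zpowers x) i) with e' | e' | e'
        · exact e'
        · rw [e'] at h1
          exact absurd (h.eq_of_commute hSC h3S hinv hz.1 (mul_inv_eq_iff_eq_mul.1 h1).symm) hzu
        · rw [e', inv_inv] at h1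
          refine absurd (h.eq_of_commute hSC h3S hinv hz.1 ?_) hzu
          exact Commute.inv_right_iff.1
            (show z * x⁻¹ = x⁻¹ * z by conv_lhs => rw [← h1, mul_assoc, mul_inv_cancel, mul_one])
      refine MonoidHom.mem_ker.2 (MulEquiv.ext fun b => Subtype.ext ?_)
      obtain ⟨_, a, ha, rfl⟩ := b
      rw [hβ n a ha]
      show π (n * a * n⁻¹) = π a
      rw [eq_comm, QuotientGroup.mk'_apply, QuotientGroup.mk'_apply, QuotientGroup.eq, mem_subgroupOf]
      have ha' := mem_subgroupOf.1 ha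
      simp only [Subgroup.coe_mul, InvMemClass.coe_inv]
      rw [e _ (hU'S ha'), hxi, one_mul, inv_one, mul_one]
      have := ha'.2 s hs
      have h2 := hUn ((a : G)⁻¹) (le_normalizer (inv_mem (hU'S ha'))) _ (inv_mem this)
      convert h2 using 1
      rw [commutatorElement_def]; group
    let φ : A →* MulAut E := α.rangeRestrict.liftOfSurjective α.rangeRestrict_surjective ⟨β, hker⟩
    have hφ : ∀ n : N, φ (α.rangeRestrict n) = β n := fun n => MonoidHom.liftOfRightInverse_comp_apply _ _ _ _ _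
    have hxE : ∀ b : E, b * φ xb b * φ (xb * xb) b = 1 := by
      rintro ⟨_, a, ha, rfl⟩
      rw [show xb * xb = α.rangeRestrict (⟨x, hxN⟩ * ⟨x, hxN⟩) from (map_mul _ _ _).symm, hφ, hφ]
      refine Subtype.ext ?_
      simp only [Subgroup.coe_mul, OneMemClass.coe_one]
      erw [hβ _ a ha, hβ _ a ha]
      rw [← map_mul, ← map_mul, QuotientGroup.mk'_apply, QuotientGroup.eq_one_iff, mem_subgroupOf]
      simp only [Subgroup.coe_mul, InvMemClass.coe_inv]
      have hm := h.cube hSC h3S hinv (hU'S (mem_subgroupOf.1 ha))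
      have e : (a : G) * (x * a * x⁻¹) * (x * x * a * (x * x)⁻¹) =
          (a : G) * (x * a * x⁻¹) * (x * (x * a * x⁻¹) * x⁻¹) := by group
      rw [e]
      exact hWU (zpowers_le.2 huW hm)
    have hKfpf : ∀ j ∈ K, Commute j xb → j = 1 := fun j hj hc => by
      rw [hKmem] at hj
      have hd := orderOf_dvd_of_mem_zpowers (hcent j hc)
      rw [hxb] at hd
      rcases (Nat.dvd_prime Nat.prime_three).1 hd with e | e
      · exact orderOf_eq_one_iff.1 e
      · exact absurd (e ▸ dvd_rfl) hj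
    have hfix : ∀ b : E, φ k b = b := by
      intro b
      have hxb3 : xb ^ 3 = 1 := by rw [← hxb, pow_orderOf_eq_one]
      have hb' := SelfCentThree.pow_card_fixed φ hxb3 K (fun j hj => hKconj xb j hj) hKfpf hxE b k hk
      obtain ⟨j, hj⟩ : ∃ j, b ^ 2 ^ j = 1 := by
        obtain ⟨_, a, ha, rfl⟩ := b
        obtain ⟨j, hj⟩ := S.isPGroup' ⟨(a : G), hU'S (mem_subgroupOf.1 ha)⟩
        refine ⟨j, Subtype.ext ?_⟩
        rw [SubmonoidClass.coe_pow]
        show π a ^ 2 ^ j = 1
        rw [← map_pow, show a ^ 2 ^ j = 1 from Subtype.ext (by simpa using congrArg Subtype.val hj),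
          map_one]
      obtain ⟨i, hi⟩ := exists_pow_of_odd (n := Nat.card K) hj (hoddA.of_dvd_nat (card_subgroup_dvd_card K))
      rw [← hi, map_pow, hb']
    have hU'f : ∀ a ∈ U', (f : G) * a * (f : G)⁻¹ * a⁻¹ ∈ W := by
      intro a ha
      have haN : a ∈ N := le_normalizer (hU'S ha)
      set c := (f : G) * a * (f : G)⁻¹ * a⁻¹ with hc
      have hcU : c ∈ U := by
        have e := hfix ⟨π ⟨a, haN⟩, mem_map_of_mem _ (mem_subgroupOf.2 ha)⟩
        rw [← hf, hφ] at e
        have e' := congrArg Subtype.val e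
        rw [hβ f ⟨a, haN⟩ (mem_subgroupOf.2 ha)] at e'
        have e'' : π (f * ⟨a, haN⟩ * f⁻¹ * ⟨a, haN⟩⁻¹) = 1 := by
          rw [map_mul, e', map_inv, mul_inv_cancel]
        exact mem_subgroupOf.1 ((QuotientGroup.eq_one_iff _).1 e'')
      have hcf := hUf c hcU
      have key : ∀ j : ℕ, (f : G) ^ j * a * ((f : G) ^ j)⁻¹ * (c ^ j * a)⁻¹ ∈ W := by
        intro j
        induction j with
        | zero => simp
        | succ j ih =>
          set w := (f : G) ^ j * a * ((f : G) ^ j)⁻¹ * (c ^ j * a)⁻¹ with hw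
          set w1 := (f : G) * c * (f : G)⁻¹ * c⁻¹ with hw1
          have e1 : (f : G) * c * (f : G)⁻¹ = w1 * c := by rw [hw1]; group
          have e2 : ((f : G) * c * (f : G)⁻¹) ^ j = w1 ^ j * c ^ j := by
            rw [e1, (hcf.2.2 c (hUS hcU)).symm.mul_pow]
          have e3 : (f : G) ^ (j + 1) * a * ((f : G) ^ (j + 1))⁻¹ * (c ^ (j + 1) * a)⁻¹ =
              (f : G) * w * (f : G)⁻¹ * w1 ^ j := by
            rw [conj_pow] at e2
            have ef : (f : G) ^ j * a * ((f : G) ^ j)⁻¹ = w * (c ^ j * a) := by rw [hw]; group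
            calc (f : G) ^ (j + 1) * a * ((f : G) ^ (j + 1))⁻¹ * (c ^ (j + 1) * a)⁻¹
                = (f : G) * ((f : G) ^ j * a * ((f : G) ^ j)⁻¹) * (f : G)⁻¹ * (c ^ (j + 1) * a)⁻¹ := by
                  rw [pow_succ' (f : G)]; group
              _ = ((f : G) * w * (f : G)⁻¹) * ((f : G) * c ^ j * (f : G)⁻¹) *
                  ((f : G) * a * (f : G)⁻¹) * (c ^ (j + 1) * a)⁻¹ := by rw [ef]; group
              _ = ((f : G) * w * (f : G)⁻¹) * (w1 ^ j * c ^ j) * (c * a) * (c ^ (j + 1) * a)⁻¹ := by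
                  rw [e2, show (f : G) * a * (f : G)⁻¹ = c * a by rw [hc]; group]
              _ = _ := by rw [pow_succ]; group
          rw [e3]
          exact mul_mem (omegaCenter_conj f.2 ih) (pow_mem hcf j)
      have := key (orderOf f)
      have hfo : (f : G) ^ orderOf f = 1 := by
        rw [← SubmonoidClass.coe_pow, pow_orderOf_eq_one]; rfl
      rw [hfo, one_mul, inv_one, mul_one, mul_inv_rev, mul_inv_cancel_left, inv_mem_iff] at this
      obtain ⟨j, hj⟩ := S.isPGroup' ⟨c, hUS hcU⟩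
      obtain ⟨i, hi⟩ := exists_pow_of_odd (b := c) (j := j) (by simpa using congrArg Subtype.val hj) hfodd
      rw [← hi]; exact pow_mem this i
    -- `U'` is larger
    obtain ⟨s, hsS, hsU, hsU'⟩ : ∃ s ∈ (S : Subgroup G), s ∉ U ∧ s ∈ U' := by
      haveI : (((S : Subgroup G).subgroupOf N).map π).Normal :=
        Normal.map inferInstance π (QuotientGroup.mk'_surjective _)
      set Sb := ((S : Subgroup G).subgroupOf N).map π
      have hp : IsPGroup 2 Sb :=
        (IsPGroup.of_equiv S.isPGroup' (subgroupOfEquivOfLe le_normalizer).symm).map π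
      obtain ⟨q, hq, hqU⟩ : ∃ q ∈ (S : Subgroup G), q ∉ U := by
        by_contra hno
        push Not at hno
        exact hne (le_antisymm hUS hno)
      haveI : Nontrivial Sb := ⟨⟨π ⟨q, le_normalizer hq⟩, mem_map_of_mem _ (mem_subgroupOf.2 hq)⟩, 1,
        fun e => hqU (mem_subgroupOf.1 ((QuotientGroup.eq_one_iff _).1 (congrArg Subtype.val e)))⟩
      haveI := hp.center_nontrivial
      obtain ⟨b, hb⟩ := exists_ne (1 : center Sb)
      obtain ⟨s, hs, hse⟩ := (b : Sb).2
      refine ⟨s, mem_subgroupOf.1 hs, fun e => hb (Subtype.ext (Subtype.ext ?_)), mem_subgroupOf.1 hs,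
        fun g hg => ?_⟩
      · rw [← hse]
        exact (QuotientGroup.eq_one_iff s).2 (mem_subgroupOf.2 e)
      · have hc := mem_center_iff.1 b.2 ⟨π ⟨g, le_normalizer hg⟩, mem_map_of_mem _ (mem_subgroupOf.2 hg)⟩
        have hc' : π ⟨g, le_normalizer hg⟩ * π s = π s * π ⟨g, le_normalizer hg⟩ := by
          rw [hse]; exact congrArg Subtype.val hc
        have e := commutatorElement_eq_one_iff_mul_comm.2 hc'.symm
        rw [← map_commutatorElement] at e
        exact mem_subgroupOf.1 ((QuotientGroup.eq_one_iff _).1 e)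
    have hgood : Good U' := ⟨hWU.trans hUU', hU'S, hU'n, hU'f⟩
    have hle := hUmax hgood (card_le_of_le hUU')
    exact hsU ((eq_of_le_of_card_ge hUU' hle) ▸ hsU')
  subst hUS'
  -- the centralizer of `f` meets `W` trivially
  intro a ha
  by_contra ha2
  have hsplit : ∀ s ∈ (S : Subgroup G), ∃ c ∈ W, (f : G) * (s * c) * (f : G)⁻¹ = s * c := by
    intro s hs
    set b := (f : G) * s * (f : G)⁻¹ * s⁻¹
    have hbW : b ∈ W := hUf s hs
    let g : W → W := fun c => ⟨c * ((f : G) * c * (f : G)⁻¹)⁻¹,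
      mul_mem c.2 (inv_mem (omegaCenter_conj f.2 c.2))⟩
    have hg : Function.Injective g := by
      rintro ⟨c, hc⟩ ⟨d, hd⟩ e
      have e' : c * ((f : G) * c * (f : G)⁻¹)⁻¹ = d * ((f : G) * d * (f : G)⁻¹)⁻¹ := congrArg Subtype.val e
      refine Subtype.ext (inv_mul_eq_one.1 (hfW _ (mul_mem (inv_mem hd) hc) ?_)).symm
      calc (f : G) * (d⁻¹ * c) * (f : G)⁻¹
          = ((f : G) * d * (f : G)⁻¹)⁻¹ * ((f : G) * c * (f : G)⁻¹) := by group
        _ = d⁻¹ * (d * ((f : G) * d * (f : G)⁻¹)⁻¹) * ((f : G) * c * (f : G)⁻¹) := by group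
        _ = d⁻¹ * (c * ((f : G) * c * (f : G)⁻¹)⁻¹) * ((f : G) * c * (f : G)⁻¹) := by rw [e']
        _ = d⁻¹ * c := by group
    obtain ⟨⟨c, hc⟩, e⟩ := Finite.surjective_of_injective hg ⟨b, hbW⟩
    have e' : c * ((f : G) * c * (f : G)⁻¹)⁻¹ = b := congrArg Subtype.val e
    refine ⟨c, hc, ?_⟩
    calc (f : G) * (s * c) * (f : G)⁻¹ = b * s * ((f : G) * c * (f : G)⁻¹) := by simp only [b]; group
      _ = s * b * ((f : G) * c * (f : G)⁻¹) := by rw [(hbW.2.2 s hs).eq]
      _ = s * c := by rw [← e']; group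
  obtain ⟨c, hc, hac⟩ := hsplit a ha
  set C0 : Subgroup G := (S : Subgroup G) ⊓ centralizer ({(f : G)} : Set G)
  have hC0 : a * c ∈ C0 := ⟨mul_mem ha hc.1, mem_centralizer_singleton_iff.2
    (mul_inv_eq_iff_eq_mul.1 hac).symm⟩
  haveI : Nontrivial C0 := ⟨⟨a * c, hC0⟩, 1, fun e => ha2 (by
    have e' : a * c = 1 := congrArg Subtype.val e
    rw [eq_inv_of_mul_eq_one_left e', ← mul_inv_rev, hc.2.1, inv_one])⟩
  have hC0p : IsPGroup 2 C0 := IsPGroup.to_le S.isPGroup' inf_le_left
  haveI := hC0p.center_nontrivial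
  obtain ⟨b, hb⟩ := exists_prime_orderOf_dvd_card' (G := center C0) 2 (by
    obtain ⟨k, hk0, hk'⟩ := ((hC0p.to_subgroup (center C0)).nontrivial_iff_card).1 inferInstance
    rw [hk']; exact dvd_pow_self 2 hk0.ne')
  have hb2 : orderOf ((b : C0) : G) = 2 := by rw [orderOf_coe, orderOf_coe, hb]
  have hbW : ((b : C0) : G) ∈ W := by
    refine ⟨(b : C0).2.1, Involution.mul_self hb2, fun s hs => ?_⟩
    obtain ⟨c', hc', hs'⟩ := hsplit s hs
    have h1 : Commute (s * c') ((b : C0) : G) :=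
      congrArg Subtype.val (mem_center_iff.1 b.2 ⟨s * c', mul_mem hs hc'.1,
        mem_centralizer_singleton_iff.2 (mul_inv_eq_iff_eq_mul.1 hs').symm⟩)
    have h2 : Commute c' ((b : C0) : G) := (hc'.2.2 _ (b : C0).2.1).symm
    have := h1.mul_left h2.inv_left
    rwa [mul_inv_cancel_right] at this
  refine Involution.ne_one hb2 (hfW _ hbW ?_)
  have : Commute ((b : C0) : G) (f : G) := mem_centralizer_singleton_iff.1 (b : C0).2.2
  rw [← this.eq, mul_inv_cancel_right]

end Cfsg.Agent.SelfCentSix
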