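import Cfsg.Agent.Lib.SelfCentSix.Frame
import Cfsg.Agent.Lib.SelfCentSix.Central

/-!
# An invariant Sylow 2-subgroup is elementary abelian

`Hyp.elementary` : a Sylow 2-subgroup `S` of `G` in `C_G(u)` normalized by `x`, whose normalizer in
`C_G(u)` acts on it through inner automorphisms and powers of `x`, is elementary abelian.
-/

set_option autoImplicit false
set_option linter.unusedSectionVars false
set_option linter.style.haveILetI false

namespace Cfsg.Agent.SelfCentSix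

open Subgroup SelfCentThree
open scoped commutatorElement

variable {G : Type*} [Group G] [Finite G] {u x : G}

theorem Hyp.elementary (h : Hyp u x) (S : Sylow 2 G) (hSC : (S : Subgroup G) ≤ Cu u)
    (hinv : Invar x (S : Subgroup G)) (huS : u ∈ (S : Subgroup G)) (HC : Inner h S) :
    ∀ a ∈ (S : Subgroup G), a * a = 1 := by
  by_cases hW : ∃ z ∈ omegaCenter (S : Subgroup G), z ∉ zpowers u
  · obtain ⟨z, hz, hzu⟩ := hW
    exact elementary_of_central h S hSC hinv huS HC hz hzu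
  push Not at hW
  exfalso
  obtain ⟨v, hv, hv2, hvu, hvp⟩ :=
    exists_plane h S.isPGroup' hSC hinv huS (h.no_unique S huS)
  have hcen : ∀ z ∈ (S : Subgroup G), orderOf z = 2 →
      (∀ g ∈ (S : Subgroup G), Commute g z) → z = u := fun z hz hz2 hc =>
    (h.mem_Z_iff.1 (hW z ⟨hz, Involution.mul_self hz2, hc⟩)).resolve_left (Involution.ne_one hz2)
  have F : Frame h (S : Subgroup G) S v :=
    ⟨le_rfl, hSC, hinv, huS, hv2, hv, hvu, hvp, hvp, hcen, hcen⟩
  obtain ⟨y, y3, yu, yv, -, yR⟩ := F.exists_cycle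
  obtain ⟨⟨r0, hr0, v0, w0⟩, -⟩ := F.exists_rep
  set w := x * v * x⁻¹ with hw
  set w1 := y * w * y⁻¹ with hw1
  have yback : ∀ r ∈ F.R, y⁻¹ * r * y ∈ F.R := by
    intro r hr
    have := yR _ (yR r hr)
    have e : y⁻¹ = y * y := inv_eq_of_mul_eq_one_right (by rw [← mul_assoc, ← pow_three', y3])
    have e2 : y⁻¹ * r * y = y * (y * r * y⁻¹) * y⁻¹ := by
      calc y⁻¹ * r * y = y⁻¹ * r * (y⁻¹)⁻¹ := by group
        _ = (y * y) * r * (y * y)⁻¹ := by rw [e]
        _ = y * (y * r * y⁻¹) * y⁻¹ := by group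
    rwa [e2]
  have hw1R : w1 ∈ F.R := yR _ (F.D_le_R F.w_mem_D)
  have hval : ∀ r ∈ F.R, ⁅w1, r⁆ = 1 ∨ ⁅w1, r⁆ = v := by
    intro r hr
    have hz := F.planeW (F.mem_R.1 (yback r hr)).1
    have e : ⁅w1, r⁆ = y * ⁅w, y⁻¹ * r * y⁆ * y⁻¹ := by rw [conj_comm]; simp only [w1]; group
    rcases h.mem_Z_iff.1 hz with e' | e' <;> rw [e, e']
    · exact Or.inl (by group)
    · exact Or.inr yu
  have hone : ∀ r ∈ F.R, ⁅w1, r⁆ ∈ zpowers u → ⁅w1, r⁆ = 1 := fun r hr hz =>
    (hval r hr).resolve_right fun e => F.v_not_Z (e ▸ hz)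
  have hw1S := (F.mem_R.1 hw1R).1
  have hw1D : w1 ∈ F.D := F.mem_D.2 ⟨hw1S, (F.mem_R.1 hw1R).2,
    commutatorElement_eq_one_iff_commute.1 (hone _ (F.D_le_R F.w_mem_D) (by
      rw [← commutatorElement_inv]; exact inv_mem (F.planeW hw1S)))⟩
  have hw12 : w1 * w1 = 1 := by
    rw [hw1, show y * w * y⁻¹ * (y * w * y⁻¹) = y * (w * w) * y⁻¹ by group, hw, F.w2, mul_one,
      mul_inv_cancel]
  have hc : ∀ d ∈ F.D, Commute d w1 := fun d hd =>
    (commutatorElement_eq_one_iff_commute.1 (hone d (F.D_le_R hd)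
      (F.mem_Z_of_inV F.D_le F.D_invar hw1S (fun e he => by
        rcases hval e (F.D_le_R he) with e' | e' <;> rw [e']
        · exact Or.inl (one_mem _)
        · exact Or.inr (by rw [inv_mul_cancel]; exact one_mem _)) hd))).symm
  have hE := (F.isE_plane (F.isE_of_central hw1D hw12 hc)).2
  have hr0R : r0 ∈ F.R :=
    F.mem_R.2 ⟨hr0, (commutatorElement_eq_one_iff_commute.1 v0).symm⟩
  have := hE _ (F.mem_R.1 (yR r0 hr0R)).1
  rw [hw1, ← conj_comm, w0, yu] at this
  exact F.v_not_Z this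

end Cfsg.Agent.SelfCentSix
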