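import Cfsg.Agent.Lib.SelfCentSix.Quot
import Cfsg.Agent.Lib.SelfCentSix.Three
import Cfsg.Agent.S1644
import Mathlib.GroupTheory.Transfer
import Mathlib.GroupTheory.SpecificGroups.Alternating

/-!
# The quotient `A₅`

* `fourSub` : the four group of two commuting involutions
* `Hyp.alt_five` : a quotient `A₅` by an elementary abelian 2-group gives the first Janko group
-/

set_option autoImplicit false
set_option linter.unusedSectionVars false
set_option linter.style.haveILetI false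

namespace Cfsg.Agent.SelfCentSix

open Subgroup SelfCentThree
open scoped commutatorElement

/-- The four group of two commuting involutions. -/
def fourSub {F : Type*} [Group F] (a b : F) (ha : a * a = 1) (hb : b * b = 1) (hab : a * b = b * a) :
    Subgroup F where
  carrier := {1, a, b, a * b}
  one_mem' := Set.mem_insert _ _
  mul_mem' := by
    have h1 : a * (a * b) = b := by rw [← mul_assoc, ha, one_mul]
    have h2 : a * b * a = b := by rw [hab, mul_assoc, ha, mul_one]
    have h3 : b * (a * b) = a := by rw [hab, ← mul_assoc, hb, one_mul]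
    have h4 : a * b * b = a := by rw [mul_assoc, hb, mul_one]
    have h5 : a * b * (a * b) = 1 := by rw [← mul_assoc, h2, hb]
    rintro p q (rfl | rfl | rfl | rfl) (rfl | rfl | rfl | rfl) <;>
      simp only [Set.mem_insert_iff, Set.mem_singleton_iff, one_mul, mul_one, ha, hb, ← hab, h1, h2,
        h3, h4, h5, true_or, or_true]
  inv_mem' := by
    rintro p (rfl | rfl | rfl | rfl)
    · simp
    · rw [inv_eq_of_mul_eq_one_right ha]; simp
    · rw [inv_eq_of_mul_eq_one_right hb]; simp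
    · rw [mul_inv_rev, inv_eq_of_mul_eq_one_right ha, inv_eq_of_mul_eq_one_right hb, ← hab]; simp

theorem mem_fourSub {F : Type*} [Group F] {a b : F} {ha : a * a = 1} {hb : b * b = 1}
    {hab : a * b = b * a} {p : F} :
    p ∈ fourSub a b ha hb hab ↔ p = 1 ∨ p = a ∨ p = b ∨ p = a * b := Iff.rfl

theorem card_fourSub {F : Type*} [Group F] {a b : F} {ha : a * a = 1} {hb : b * b = 1}
    {hab : a * b = b * a} (ha1 : a ≠ 1) (hb1 : b ≠ 1) (hne : a ≠ b) :
    Nat.card (fourSub a b ha hb hab) = 4 := by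
  have h4 : a * b ≠ 1 := fun e => hne (by
    rw [← inv_eq_of_mul_eq_one_right e, inv_eq_of_mul_eq_one_right ha])
  rw [show Nat.card (fourSub a b ha hb hab) = ({1, a, b, a * b} : Set F).ncard from
    (Nat.card_coe_set_eq _)]
  rw [Set.ncard_insert_of_notMem (by simp [ha1.symm, hb1.symm, h4.symm]),
    Set.ncard_insert_of_notMem (by simp [hne, hb1]),
    Set.ncard_insert_of_notMem (by simp [ha1]), Set.ncard_singleton]

/-- The data in `A₅`. -/
theorem alt_five_data : ∃ a b τ : alternatingGroup (Fin 5), a * a = 1 ∧ b * b = 1 ∧ a * b = b * a ∧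
    a ≠ 1 ∧ b ≠ 1 ∧ a ≠ b ∧ τ ^ 3 = 1 ∧ τ ≠ 1 ∧ τ * a * τ⁻¹ = b ∧ τ * b * τ⁻¹ = a * b ∧
    ∀ g : alternatingGroup (Fin 5),
      ((g * a * g⁻¹ = 1 ∨ g * a * g⁻¹ = a ∨ g * a * g⁻¹ = b ∨ g * a * g⁻¹ = a * b) ∧
        (g * b * g⁻¹ = 1 ∨ g * b * g⁻¹ = a ∨ g * b * g⁻¹ = b ∨ g * b * g⁻¹ = a * b)) →
      ∃ i : Fin 3, g * τ ^ i.val = 1 ∨ g * τ ^ i.val = a ∨ g * τ ^ i.val = b ∨ g * τ ^ i.val = a * b := by
  refine ⟨⟨Equiv.swap 0 1 * Equiv.swap 2 3, Equiv.Perm.mem_alternatingGroup.2 (by decide +kernel)⟩,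
    ⟨Equiv.swap 0 3 * Equiv.swap 1 2, Equiv.Perm.mem_alternatingGroup.2 (by decide +kernel)⟩,
    ⟨Equiv.swap 0 2 * Equiv.swap 0 1, Equiv.Perm.mem_alternatingGroup.2 (by decide +kernel)⟩, by decide +kernel, by decide +kernel,
    by decide +kernel, by decide +kernel, by decide +kernel, by decide +kernel, by decide +kernel,
    by decide +kernel, by decide +kernel, by decide +kernel, ?_⟩
  decide +kernel

variable {G : Type*} [Group G] [Finite G] {u x : G}

theorem Hyp.alt_five (h : Hyp u x) (N : Subgroup (Cu u ⧸ Zc u)) [N.Normal]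
    (hN : ∀ n ∈ N, n ^ 2 = 1) (e : (Cu u ⧸ Zc u) ⧸ N ≃* alternatingGroup (Fin 5)) :
    Cfsg.Spor.IsoJ1 G := by
  classical
  haveI : Fact (Nat.Prime 2) := ⟨Nat.prime_two⟩
  haveI := h.simple
  set θ : Cu u →* alternatingGroup (Fin 5) :=
    e.toMonoidHom.comp ((QuotientGroup.mk' N).comp (pr u))
  have hθ : Function.Surjective θ :=
    e.surjective.comp ((QuotientGroup.mk'_surjective N).comp (QuotientGroup.mk'_surjective (Zc u)))
  have hmem : ∀ a : Cu u, a ∈ θ.ker ↔ pr u a ∈ N := fun a => by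
    rw [MonoidHom.mem_ker, ← QuotientGroup.eq_one_iff]
    exact map_eq_one_iff e e.injective
  have huker : (⟨u, h.u_mem⟩ : Cu u) ∈ θ.ker := by
    rw [hmem, pr_eq_one.2 (mem_zpowers u)]; exact one_mem N
  have hk2 : IsPGroup 2 θ.ker := by
    intro a
    have h1 : pr u ((a : Cu u) ^ 2) = 1 := by rw [map_pow]; exact hN _ ((hmem _).1 a.2)
    refine ⟨2, Subtype.ext (Subtype.ext ?_)⟩
    have hz := pr_eq_one.1 h1
    simp only [SubmonoidClass.coe_pow] at hz
    simp only [SubmonoidClass.coe_pow, OneMemClass.coe_one]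
    rw [show 2 ^ 2 = 2 * 2 from rfl, pow_mul, sq]
    rcases h.mem_Z_iff.1 hz with e' | e' <;> rw [e']
    · exact one_mul 1
    · exact h.u2
  obtain ⟨a, b, τ, ha, hb, hab, ha1, hb1, hne, hτ3, hτ1, hτa, hτb, hnorm⟩ := alt_five_data
  set V := fourSub a b ha hb hab
  have hV4 : Nat.card V = 4 := card_fourSub ha1 hb1 hne
  have hconjV : ∀ g v, g * a * g⁻¹ ∈ V → g * b * g⁻¹ ∈ V → v ∈ V → g * v * g⁻¹ ∈ V := by
    intro g v h1 h2 hv
    rcases mem_fourSub.1 hv with rfl | rfl | rfl | rfl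
    · rw [mul_one, mul_inv_cancel]; exact one_mem V
    · exact h1
    · exact h2
    · rw [← conj_mul]; exact mul_mem h1 h2
  obtain ⟨g, hg3, hgτ⟩ := lift_three hθ (not_three_dvd_of_two hk2)
    (orderOf_eq_prime (hp := ⟨Nat.prime_three⟩) hτ3 hτ1)
  have hx' := h.of_three g.2 hg3
  -- the Sylow subgroup
  have hS0 : IsPGroup 2 (pre θ V) := by
    obtain ⟨k, hk⟩ := IsPGroup.iff_card.1 hk2
    exact IsPGroup.of_card (n := k + 2) (by rw [card_pre hθ, hk, hV4, pow_add]; norm_num)
  obtain ⟨S, hS0S, hSC⟩ := h.exists_sylow_above h.ordu hS0 pre_le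
  have hS : (S : Subgroup G) = pre θ V := by
    refine le_antisymm (fun s hs => ?_) hS0S
    set W := ((S : Subgroup G).subgroupOf (Cu u)).map θ
    have hW : IsPGroup 2 W := (S.isPGroup'.of_equiv (subgroupOfEquivOfLe hSC).symm).map θ
    have hVW : V ≤ W := fun v hv => by
      obtain ⟨c, rfl⟩ := hθ v
      exact ⟨c, mem_subgroupOf.2 (hS0S (coe_mem_pre.2 hv)), rfl⟩
    have hWV : W = V := by
      refine (eq_of_le_of_card_ge hVW ?_).symm
      obtain ⟨k, hk⟩ := IsPGroup.iff_card.1 hW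
      have h60 : Nat.card W ∣ 60 := (card_subgroup_dvd_card W).trans (by
        rw [nat_card_alternatingGroup, Nat.card_fin]; decide)
      rw [hk, hV4] at *
      by_contra hlt
      have hk3 : 3 ≤ k := by
        by_contra hk3
        interval_cases k <;> norm_num at hlt
      exact absurd ((pow_dvd_pow 2 hk3).trans h60) (by norm_num)
    exact mem_pre.2 ⟨hSC hs, hWV ▸ ⟨⟨s, hSC hs⟩, mem_subgroupOf.2 hs, rfl⟩⟩
  have hinv : Invar (g : G) (S : Subgroup G) := by
    intro c hc
    rw [hS] at hc ⊢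
    refine pre_conj (fun v hv => ?_) hc
    rw [hgτ]
    exact hconjV τ v (by rw [hτa]; simp [V, mem_fourSub]) (by rw [hτb]; simp [V, mem_fourSub]) hv
  have huS : u ∈ (S : Subgroup G) := hS ▸ ker_le_pre huker
  have HC : Inner hx' S := by
    intro c hcC hcN
    set c' : Cu u := ⟨c, hcC⟩
    have hv : ∀ v ∈ V, θ c' * v * (θ c')⁻¹ ∈ V := by
      intro v hv
      obtain ⟨w, rfl⟩ := hθ v
      have h1 := (mem_normalizer_iff.1 hcN (w : G)).1 (hS ▸ coe_mem_pre.2 hv)
      rw [hS] at h1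
      have := coe_mem_pre (a := c' * w * c'⁻¹).1 h1
      rwa [map_mul, map_mul, map_inv] at this
    obtain ⟨i, hi⟩ := hnorm (θ c') ⟨mem_fourSub.1 (hv a (by simp [V, mem_fourSub])),
      mem_fourSub.1 (hv b (by simp [V, mem_fourSub]))⟩
    have hs : c * (g : G) ^ i.val ∈ (S : Subgroup G) := by
      rw [hS]
      refine coe_mem_pre (a := c' * g ^ i.val).2 ?_
      rw [map_mul, map_pow, hgτ]
      exact mem_fourSub.2 hi
    refine ⟨2 * i.val, c * (g : G) ^ i.val, hs, fun z _ => ?_⟩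
    have h3 : (g : G) ^ i.val * (g : G) ^ (2 * i.val) = 1 := by
      rw [← pow_add, show i.val + 2 * i.val = 3 * i.val by ring, pow_mul, hx'.x3, one_pow]
    calc c * z * c⁻¹ = c * ((g : G) ^ i.val * (g : G) ^ (2 * i.val)) * z *
        (c * ((g : G) ^ i.val * (g : G) ^ (2 * i.val)))⁻¹ := by rw [h3, mul_one]
      _ = _ := by group
  have he := hx'.elementary S hSC hinv huS HC
  have hcomm : ∀ p ∈ (S : Subgroup G), ∀ q ∈ (S : Subgroup G), Commute p q := fun p hp q hq => by
    show p * q = q * p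
    have hh := he _ (mul_mem hp hq)
    calc p * q = p * (p * q * (p * q)) * q := by rw [hh, mul_one]
      _ = (p * p) * (q * p) * (q * q) := by group
      _ = _ := by rw [he p hp, he q hq, one_mul, mul_one]
  -- the kernel is `⟨u⟩`
  have hkerS : ∀ k ∈ θ.ker, ((k : Cu u) : G) ∈ (S : Subgroup G) := fun k hk => hS ▸ ker_le_pre hk
  set P : Subgroup (Cu u) := centralizer (θ.ker : Set (Cu u))
  haveI hPn : P.Normal := ⟨fun p hp c => mem_centralizer_iff.2 fun k hk => by
    have hm := mem_centralizer_iff.1 hp (c⁻¹ * k * c) (by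
      simpa using θ.normal_ker.conj_mem k hk c⁻¹)
    calc k * (c * p * c⁻¹) = c * (c⁻¹ * k * c * p) * c⁻¹ := by group
      _ = c * (p * (c⁻¹ * k * c)) * c⁻¹ := by rw [hm]
      _ = _ := by group⟩
  haveI : (P.map θ).Normal := hPn.map θ hθ
  have hPtop : P.map θ = ⊤ := by
    haveI := (alternatingGroup.isSimpleGroup (α := Fin 5) (by simp))
    refine (Normal.eq_bot_or_eq_top (inferInstance : (P.map θ).Normal)).resolve_left fun e' => ha1 ?_
    obtain ⟨c, hc⟩ := hθ a
    have hcS : (c : G) ∈ (S : Subgroup G) :=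
      hS ▸ coe_mem_pre.2 (by rw [hc]; simp [V, mem_fourSub])
    have hcP : c ∈ P := mem_centralizer_iff.2 fun k hk =>
      Subtype.ext (hcomm _ (hkerS k hk) _ hcS).eq
    have := mem_map_of_mem θ hcP
    rw [e', mem_bot, hc] at this
    exact this
  have hkerZ : ∀ k ∈ θ.ker, ((k : Cu u) : G) ∈ zpowers u := by
    intro k hk
    obtain ⟨p, hp, hpe⟩ : θ g ∈ P.map θ := hPtop ▸ mem_top _
    have hpk : p⁻¹ * g ∈ θ.ker := by rw [MonoidHom.mem_ker, map_mul, map_inv, hpe, inv_mul_cancel]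
    refine hx'.eq_of_commute hSC (not_three_dvd_of_two S.isPGroup') hinv (hkerS k hk) ?_
    have h1 : Commute ((k : Cu u) : G) (p : G) := congrArg Subtype.val (mem_centralizer_iff.1 hp k hk)
    have h2 := hcomm _ (hkerS k hk) _ (hkerS _ hpk)
    have := h1.mul_right h2
    rwa [show (p : G) * ((p⁻¹ * g : Cu u) : G) = (g : G) by simp] at this
  have hker2 : Nat.card θ.ker = 2 := by
    refine le_antisymm ?_ ?_
    · rw [← show Nat.card (zpowers u) = 2 by rw [Nat.card_zpowers, h.ordu]]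
      exact Nat.card_le_card_of_injective (fun k : θ.ker => (⟨_, hkerZ k k.2⟩ : zpowers u))
        fun p q e' => Subtype.ext (Subtype.ext (congrArg (fun z : zpowers u => (z : G)) e'))
    · haveI : Nontrivial θ.ker := ⟨⟨⟨u, h.u_mem⟩, huker⟩, 1, fun e' =>
        h.u_ne (congrArg (fun z : θ.ker => ((z : Cu u) : G)) e')⟩
      exact Finite.one_lt_card
  have hS8 : Nat.card S = 8 := by
    show Nat.card (S : Subgroup G) = 8
    rw [hS, card_pre hθ, hker2, hV4]
  have hC : Nat.card (Cu u) = 120 := by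
    rw [card_cu hθ, hker2, nat_card_alternatingGroup, Nat.card_fin]; rfl
  -- the splitting by the transfer
  set H := (S : Subgroup G).subgroupOf (Cu u)
  letI : CommGroup H :=
    { (inferInstance : Group H) with
      mul_comm := fun p q => Subtype.ext (Subtype.ext
        (hcomm _ (mem_subgroupOf.1 p.2) _ (mem_subgroupOf.1 q.2)).eq) }
  set φ := MonoidHom.transfer (MonoidHom.id H) with hφ
  have hidx : H.index = 15 := by
    have h1 := H.card_mul_index
    rw [hC, show Nat.card H = 8 from (Nat.card_congr (subgroupOfEquivOfLe hSC).toEquiv).trans hS8] at h1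
    omega
  have hφu : φ ⟨u, h.u_mem⟩ ≠ 1 := by
    rw [hφ, MonoidHom.transfer_eq_pow _ _ fun k c _ => by
      have hc : Commute c (⟨u, h.u_mem⟩ : Cu u) := Subtype.ext (mem_Cu.1 c.2).eq
      rw [mul_assoc, ← (hc.pow_right k).eq, inv_mul_cancel_left]]
    intro e'
    have e'' : u ^ H.index = 1 := congrArg (fun z : H => ((z : Cu u) : G)) e'
    rw [hidx, show 15 = 2 * 7 + 1 from rfl, pow_succ, pow_mul, sq, h.u2, one_pow, one_mul] at e''
    exact h.u_ne e''
  set K1 := φ.ker
  have hK1Z : ∀ k ∈ K1, θ k = 1 → k = 1 := fun k hk hk' => by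
    rcases h.mem_Z_iff.1 (hkerZ k hk') with e' | e'
    · exact Subtype.ext e'
    · exact absurd (MonoidHom.mem_ker.1 (show (⟨u, h.u_mem⟩ : Cu u) ∈ K1 from
        (show k = ⟨u, h.u_mem⟩ from Subtype.ext e') ▸ hk)) hφu
  haveI : (K1.map θ).Normal := (inferInstance : K1.Normal).map θ hθ
  have hK1top : K1.map θ = ⊤ := by
    haveI := (alternatingGroup.isSimpleGroup (α := Fin 5) (by simp))
    refine (Normal.eq_bot_or_eq_top (inferInstance : (K1.map θ).Normal)).resolve_left fun e' => ?_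
    obtain ⟨p, hp⟩ := hθ a
    obtain ⟨q, hq⟩ := hθ τ
    have hm : ⁅p, q⁆ ∈ K1 := by
      rw [MonoidHom.mem_ker, map_commutatorElement, commutatorElement_eq_one_iff_commute]
      exact Commute.all _ _
    have := mem_map_of_mem θ hm
    rw [e', mem_bot, map_commutatorElement, hp, hq, commutatorElement_eq_one_iff_commute] at this
    apply hne
    rw [← hτa, ← this.eq, mul_inv_cancel_right]
  set j : K1 →* alternatingGroup (Fin 5) := θ.comp K1.subtype
  have hj : Function.Bijective j := by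
    refine ⟨(injective_iff_map_eq_one j).2 fun k hk => Subtype.ext (hK1Z k k.2 hk), fun y => ?_⟩
    obtain ⟨k, hk, rfl⟩ : y ∈ K1.map θ := hK1top ▸ mem_top y
    exact ⟨⟨k, hk⟩, rfl⟩
  let e2 := (MulEquiv.ofBijective j hj).symm
  have e1 : Multiplicative (ZMod 2) ≃* θ.ker :=
    mulEquivOfPrimeCardEq (p := 2) (by simp) hker2
  let μ : Multiplicative (ZMod 2) × alternatingGroup (Fin 5) →* Cu u :=
    MonoidHom.noncommCoprod (θ.ker.subtype.comp e1.toMonoidHom) (K1.subtype.comp e2.toMonoidHom)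
      fun p q => Subtype.ext (h.Z_comm ((e2 q : Cu u)).2 (hkerZ _ (e1 p).2)).symm.eq
  have hμinj : Function.Injective μ := by
    refine (injective_iff_map_eq_one μ).2 fun ⟨p, q⟩ hpq => ?_
    have hpq' : (e1 p : Cu u) * (e2 q : Cu u) = 1 := hpq
    have hq : q = 1 := by
      have := congrArg θ hpq'
      rw [map_mul, MonoidHom.mem_ker.1 (e1 p).2, one_mul, map_one,
        show θ (e2 q : Cu u) = q from (MulEquiv.ofBijective j hj).apply_symm_apply q] at this
      exact this
    subst hq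
    rw [map_one, OneMemClass.coe_one, mul_one] at hpq'
    have hp : e1 p = 1 := Subtype.ext hpq'
    rw [map_eq_one_iff e1 e1.injective] at hp
    rw [hp]; rfl
  have hμ : Function.Bijective μ := by
    refine hμinj.bijective_of_nat_card_le (le_of_eq ?_)
    rw [hC, Nat.card_prod, nat_card_alternatingGroup, Nat.card_fin]
    simp [Nat.factorial]
  exact S1644.result S ⟨⟨fun p q => Subtype.ext (hcomm p p.2 q q.2).eq⟩⟩ hS8 u h.ordu
    (MulEquiv.ofBijective μ hμ).symm

end Cfsg.Agent.SelfCentSix
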