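import Cfsg.Agent.Lib.SelfCentThree.Basic
import Cfsg.Agent.Lib.Involution.Basic
import Cfsg.Agent.Lib.ZStar.Unique
import Cfsg.Agent.Lib.Cores.Basic
import Mathlib.GroupTheory.Sylow
import Mathlib.GroupTheory.PGroup

/-!
# Simple groups with one class of involutions and a self-centralizing element of order six

`Hyp u x` : `u` an involution, `x` of order three commuting with it, `C_G(u) ∩ C_G(x) = ⟨u, x⟩`,
all involutions conjugate, `G` nonabelian simple.  `x` acts on `C_G(u) / ⟨u⟩` as a self-centralizing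
element of order three; `Hyp.fixed`, `Hyp.cube`, `Hyp.comm_self`, `Hyp.swap` are the resulting
congruences modulo `⟨u⟩` in `x`-invariant subgroups of `C_G(u)` of order prime to three.
-/

set_option autoImplicit false
set_option linter.unusedSectionVars false

namespace Cfsg.Agent.SelfCentSix

open Subgroup
open scoped commutatorElement

variable {G : Type*} [Group G]

/-- The centralizer of `u`. -/
abbrev Cu (u : G) : Subgroup G := centralizer ({u} : Set G)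

theorem mem_Cu {u g : G} : g ∈ Cu u ↔ Commute g u := mem_centralizer_singleton_iff

/-- The hypotheses. -/
structure Hyp [Finite G] (u x : G) : Prop where
  simple : IsSimpleGroup G
  nonab : ¬ IsMulCommutative G
  fused : ∀ a b : G, orderOf a = 2 → orderOf b = 2 → IsConj a b
  ordu : orderOf u = 2
  ordx : orderOf x = 3
  comm : Commute u x
  cent : ∀ g : G, Commute g u → Commute g x → ∃ a ∈ zpowers u, ∃ b ∈ zpowers x, g = a * b

theorem mem_zpowers_two {u g : G} (hu : orderOf u = 2) (h : g ∈ zpowers u) : g = 1 ∨ g = u := by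
  obtain ⟨i, rfl⟩ := mem_zpowers_iff.1 h
  rw [← zpow_mod_orderOf, hu]
  have : i % ((2 : ℕ) : ℤ) = 0 ∨ i % ((2 : ℕ) : ℤ) = 1 := by omega
  rcases this with e | e <;> rw [e] <;> simp

theorem mem_zpowers_three {x g : G} (hx : orderOf x = 3) (h : g ∈ zpowers x) :
    g = 1 ∨ g = x ∨ g = x⁻¹ := by
  obtain ⟨i, rfl⟩ := mem_zpowers_iff.1 h
  rw [← zpow_mod_orderOf, hx]
  have : i % ((3 : ℕ) : ℤ) = 0 ∨ i % ((3 : ℕ) : ℤ) = 1 ∨ i % ((3 : ℕ) : ℤ) = 2 := by omega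
  have h3 : x ^ 2 = x⁻¹ := eq_inv_of_mul_eq_one_left (by rw [← pow_succ, show 2 + 1 = orderOf x from hx.symm, pow_orderOf_eq_one])
  rcases this with e | e | e <;> rw [e]
  · simp
  · simp
  · right; right; rw [show ((2 : ℤ)) = ((2 : ℕ) : ℤ) from rfl, zpow_natCast, h3]

theorem invar_le_conj {A : Subgroup G} {x : G} [Finite G] (h : SelfCentThree.Invar x A) {a : G}
    (ha : a ∈ A) : x⁻¹ * a * x ∈ A := by
  have key : ∀ (n : ℕ), x ^ n * a * (x ^ n)⁻¹ ∈ A := by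
    intro n
    induction n with
    | zero => simpa using ha
    | succ n ih =>
      have := h _ ih
      convert this using 1
      rw [pow_succ']; group
  obtain ⟨n, hn⟩ : ∃ n : ℕ, x ^ n = x⁻¹ := ⟨orderOf x - 1, eq_inv_of_mul_eq_one_left (by
    rw [← pow_succ, Nat.sub_add_cancel (orderOf_pos x), pow_orderOf_eq_one])⟩
  have := key n
  rwa [hn, inv_inv] at this

theorem not_three_dvd_of_two [Finite G] {A : Subgroup G} (h : IsPGroup 2 A) : ¬ 3 ∣ Nat.card A := by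
  haveI : Fact (Nat.Prime 2) := ⟨Nat.prime_two⟩
  obtain ⟨n, hn⟩ := IsPGroup.iff_card.1 h
  rw [hn]
  intro h3
  have := (Nat.prime_dvd_prime_iff_eq Nat.prime_three Nat.prime_two).1 (Nat.prime_three.dvd_of_dvd_pow h3)
  omega

variable [Finite G] {u x : G}

namespace Hyp

theorem u2 (h : Hyp u x) : u * u = 1 := Involution.mul_self h.ordu

theorem u_inv (h : Hyp u x) : u⁻¹ = u := Involution.inv_eq h.ordu

theorem u_ne (h : Hyp u x) : u ≠ 1 := Involution.ne_one h.ordu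

theorem x3 (h : Hyp u x) : x ^ 3 = 1 := by rw [← h.ordx, pow_orderOf_eq_one]

theorem u_mem (_h : Hyp u x) : u ∈ Cu u := mem_Cu.2 (Commute.refl u)

theorem x_mem (h : Hyp u x) : x ∈ Cu u := mem_Cu.2 h.comm.symm

theorem x_conj_u (h : Hyp u x) : x * u * x⁻¹ = u := by rw [h.comm.symm.eq, mul_inv_cancel_right]

theorem conj_thrice (h : Hyp u x) (a : G) : x * (x * (x * a * x⁻¹) * x⁻¹) * x⁻¹ = a := by
  calc x * (x * (x * a * x⁻¹) * x⁻¹) * x⁻¹ = x ^ 3 * a * (x ^ 3)⁻¹ := by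
        simp only [pow_three]; group
    _ = a := by rw [h.x3]; group

theorem mem_Z_iff (h : Hyp u x) {g : G} : g ∈ zpowers u ↔ g = 1 ∨ g = u :=
  ⟨mem_zpowers_two h.ordu, fun e => by rcases e with rfl | rfl <;> simp⟩

theorem Z_le (h : Hyp u x) : zpowers u ≤ Cu u := zpowers_le.2 h.u_mem

theorem Z_comm (h : Hyp u x) {g z : G} (hg : g ∈ Cu u) (hz : z ∈ zpowers u) : Commute g z := by
  rcases h.mem_Z_iff.1 hz with rfl | rfl
  · exact Commute.one_right g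
  · exact mem_Cu.1 hg

theorem Z_x (h : Hyp u x) {z : G} (hz : z ∈ zpowers u) : x * z * x⁻¹ = z := by
  rw [(h.Z_comm h.x_mem hz).eq, mul_inv_cancel_right]

end Hyp

/-- `⟨u⟩` in its centralizer. -/
abbrev Zc (u : G) : Subgroup (Cu u) := (zpowers u).subgroupOf (Cu u)

instance instNormalZc (u : G) : (Zc u).Normal := ⟨fun a ha g => by
  rw [mem_subgroupOf] at ha ⊢
  obtain ⟨i, hi⟩ := mem_zpowers_iff.1 ha
  refine mem_zpowers_iff.2 ⟨i, ?_⟩
  have hg : Commute (g : G) u := mem_Cu.1 g.2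
  rw [Subgroup.coe_mul, Subgroup.coe_mul, InvMemClass.coe_inv, ← hi, (hg.zpow_right i).eq,
    mul_inv_cancel_right]⟩

/-- The map to the quotient modulo `⟨u⟩`. -/
abbrev pr (u : G) : Cu u →* Cu u ⧸ Zc u := QuotientGroup.mk' (Zc u)

theorem pr_eq_one {u : G} {a : Cu u} : pr u a = 1 ↔ (a : G) ∈ zpowers u := by
  rw [QuotientGroup.mk'_apply, QuotientGroup.eq_one_iff, mem_subgroupOf]

theorem pr_eq {u : G} {a b : Cu u} : pr u a = pr u b ↔ (a : G)⁻¹ * b ∈ zpowers u := by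
  rw [QuotientGroup.mk'_apply, QuotientGroup.mk'_apply, QuotientGroup.eq, mem_subgroupOf]
  rfl

namespace Hyp

theorem sc (h : Hyp u x) : SelfCentThree.SC (pr u ⟨x, h.x_mem⟩) := by
  have hx3 : (pr u ⟨x, h.x_mem⟩) ^ 3 = 1 := by
    rw [← map_pow, pr_eq_one]
    show x ^ 3 ∈ zpowers u
    rw [h.x3]; exact one_mem _
  have hne : pr u ⟨x, h.x_mem⟩ ≠ 1 := fun e => by
    rcases h.mem_Z_iff.1 (pr_eq_one.1 e) with e' | e'
    · change x = 1 at e'
      have := h.ordx; rw [e', orderOf_one] at this; omega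
    · change x = u at e'
      have := h.ordx; rw [e', h.ordu] at this; omega
  refine ⟨orderOf_eq_prime (hp := ⟨Nat.prime_three⟩) hx3 hne, fun q hq => ?_⟩
  obtain ⟨c, rfl⟩ := QuotientGroup.mk'_surjective (Zc u) q
  have hz : ((c * ⟨x, h.x_mem⟩ : Cu u) : G)⁻¹ * ((⟨x, h.x_mem⟩ * c : Cu u) : G) ∈ zpowers u := by
    rw [← pr_eq, map_mul, map_mul]; exact hq.eq
  simp only [Subgroup.coe_mul] at hz
  have hcx : Commute (c : G) x := by
    rcases h.mem_Z_iff.1 hz with e | e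
    · exact inv_mul_eq_one.1 e
    · exfalso
      have e1 : (c : G)⁻¹ * x * c = x * u := by
        rw [show (c : G)⁻¹ * x * c = x * (((c : G) * x)⁻¹ * (x * c)) by group, e]
      have h1 : ((c : G)⁻¹ * x * c) ^ 3 = 1 := by
        rw [show (c : G)⁻¹ * x * c = (c : G)⁻¹ * x * ((c : G)⁻¹)⁻¹ by group, conj_pow, h.x3]
        group
      rw [e1, h.comm.symm.mul_pow, h.x3, one_mul, pow_three, h.u2, mul_one] at h1
      exact h.u_ne h1
  obtain ⟨a, ha, b, hb, e⟩ := h.cent c (mem_Cu.1 c.2) hcx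
  obtain ⟨i, rfl⟩ := mem_zpowers_iff.1 hb
  refine mem_zpowers_iff.2 ⟨i, ?_⟩
  rw [← map_zpow, pr_eq, SubgroupClass.coe_zpow, e,
    ← (h.Z_comm (zpow_mem h.x_mem i) ha).eq]
  show (x ^ i)⁻¹ * (x ^ i * a) ∈ zpowers u
  rw [inv_mul_cancel_left]
  exact ha

/-- The image of a subgroup in the quotient modulo `⟨u⟩`. -/
abbrev bar (u : G) (A : Subgroup G) : Subgroup (Cu u ⧸ Zc u) := (A.subgroupOf (Cu u)).map (pr u)

theorem pr_mem_bar {A : Subgroup G} {a : Cu u} (ha : (a : G) ∈ A) : pr u a ∈ bar u A :=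
  mem_map_of_mem _ (mem_subgroupOf.2 ha)

theorem not_three_bar {A : Subgroup G} (hA : A ≤ Cu u) (h3 : ¬ 3 ∣ Nat.card A) :
    ¬ 3 ∣ Nat.card (bar u A) := fun h => h3 (h.trans (by
  rw [← Nat.card_congr (subgroupOfEquivOfLe hA).toEquiv]
  exact card_map_dvd _ _))

theorem invar_bar (h : Hyp u x) {A : Subgroup G} (hx : SelfCentThree.Invar x A) :
    SelfCentThree.Invar (pr u ⟨x, h.x_mem⟩) (bar u A) := by
  rintro _ ⟨a, ha, rfl⟩
  refine ⟨⟨x, h.x_mem⟩ * a * ⟨x, h.x_mem⟩⁻¹, hx _ ha, ?_⟩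
  rw [map_mul, map_mul, map_inv]

section invariant

variable (h : Hyp u x) {A : Subgroup G} (hA : A ≤ Cu u) (h3 : ¬ 3 ∣ Nat.card A)
  (hx : SelfCentThree.Invar x A)
include h hA h3 hx

theorem fixed {a : G} (ha : a ∈ A) (e : x * a * x⁻¹ * a⁻¹ ∈ zpowers u) : a ∈ zpowers u := by
  have hc : Commute (pr u ⟨a, hA ha⟩) (pr u ⟨x, h.x_mem⟩) := by
    show _ = _
    rw [← map_mul, ← map_mul, pr_eq]
    show (a * x)⁻¹ * (x * a) ∈ zpowers u
    have e' : (a * x)⁻¹ * (x * a) = (a * x)⁻¹ * (x * a * x⁻¹ * a⁻¹) * (a * x) := by group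
    rw [e', (h.Z_comm (inv_mem (mul_mem (hA ha) h.x_mem)) e).eq, inv_mul_cancel_right]
    exact e
  exact pr_eq_one.1 (h.sc.eq_one_of_commute (not_three_bar hA h3) (pr_mem_bar ha) hc)

theorem eq_of_commute {a : G} (ha : a ∈ A) (hc : Commute a x) : a ∈ zpowers u := by
  refine h.fixed hA h3 hx ha ?_
  rw [show x * a = a * x from hc.eq.symm, mul_inv_cancel_right, mul_inv_cancel]
  exact one_mem _

theorem cube {a : G} (ha : a ∈ A) :
    a * (x * a * x⁻¹) * (x * (x * a * x⁻¹) * x⁻¹) ∈ zpowers u := by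
  have e := h.sc.cube_rel (not_three_bar hA h3) (h.invar_bar hx) (pr_mem_bar (a := ⟨a, hA ha⟩) ha)
  rw [← map_inv, ← map_mul, ← map_mul, ← map_mul, ← map_mul, ← map_mul, ← map_mul, pr_eq_one] at e
  exact e

theorem comm_self {a : G} (ha : a ∈ A) : ⁅a, x * a * x⁻¹⁆ ∈ zpowers u := by
  have e1 := h.sc.cube_rel (not_three_bar hA h3) (h.invar_bar hx) (pr_mem_bar (a := ⟨a, hA ha⟩) ha)
  have e2 := h.sc.cube_rel' (not_three_bar hA h3) (h.invar_bar hx) (pr_mem_bar (a := ⟨a, hA ha⟩) ha)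
  set p := pr u ⟨a, hA ha⟩
  set q := pr u ⟨x, h.x_mem⟩ * p * (pr u ⟨x, h.x_mem⟩)⁻¹ with hq
  set r := pr u ⟨x, h.x_mem⟩ * q * (pr u ⟨x, h.x_mem⟩)⁻¹
  have er : r = (p * q)⁻¹ := eq_inv_of_mul_eq_one_right e1
  have e3 : p * (p * q)⁻¹ * q = 1 := er ▸ e2
  have hc : ⁅p, q⁆ = 1 := by
    rw [commutatorElement_eq_one_iff_commute]
    have e4 : Commute p q⁻¹ := by
      show p * q⁻¹ = q⁻¹ * p
      calc p * q⁻¹ = p * (p * q)⁻¹ * q * (q⁻¹ * p) := by group
        _ = q⁻¹ * p := by rw [e3, one_mul]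
    exact inv_inv q ▸ e4.inv_right
  rw [hq, ← map_inv, ← map_mul, ← map_mul, commutatorElement_def, ← map_inv, ← map_inv, ← map_mul,
    ← map_mul, ← map_mul, pr_eq_one] at hc
  exact hc

/-- The swap: `⁅x a x⁻¹, b⁆ ≡ ⁅a, x b x⁻¹⁆` modulo `⟨u⟩`. -/
theorem swap {a b : G} (ha : a ∈ A) (hb : b ∈ A) :
    ⁅x * a * x⁻¹, b⁆⁻¹ * ⁅a, x * b * x⁻¹⁆ ∈ zpowers u := by
  let p : A → Cu u ⧸ Zc u := fun c => pr u ⟨c, hA c.2⟩
  have hmul : ∀ c d : A, p (c * d) = p c * p d := fun c d =>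
    map_mul (pr u) (⟨c, hA c.2⟩ : Cu u) ⟨d, hA d.2⟩
  let X := pr u ⟨x, h.x_mem⟩
  have hc : ∀ c : A, Commute (p c) (X * p c * X⁻¹) := fun c => by
    rw [← commutatorElement_eq_one_iff_commute]
    show ⁅pr u _, pr u _ * pr u _ * (pr u _)⁻¹⁆ = 1
    rw [← map_inv, ← map_mul, ← map_mul, ← map_commutatorElement, pr_eq_one]
    exact h.comm_self hA h3 hx c.2
  have h1 := hc ⟨a⁻¹, inv_mem ha⟩
  have h2 := hc ⟨b, hb⟩
  have h3' := hc (⟨a⁻¹, inv_mem ha⟩ * ⟨b, hb⟩)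
  set α := p ⟨a⁻¹, inv_mem ha⟩
  set β := p ⟨b, hb⟩
  rw [hmul] at h3'
  set α' := X * α * X⁻¹
  set β' := X * β * X⁻¹
  rw [show X * (α * β) * X⁻¹ = α' * β' from conj_mul.symm] at h3'
  have key : ⁅α'⁻¹, β⁆ = ⁅α⁻¹, β'⁆ := by
    rw [commutatorElement_def, commutatorElement_def, inv_inv, inv_inv]
    calc α'⁻¹ * β * α' * β⁻¹ = α'⁻¹ * α⁻¹ * (α * β * (α' * β')) * (β' * β)⁻¹ * 1 := by
          rw [← h2.eq]; group
      _ = α⁻¹ * α'⁻¹ * (α' * β' * (α * β)) * (β' * β)⁻¹ * 1 := by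
          rw [h3'.eq, (show Commute α α' from h1).inv_inv.eq]
      _ = _ := by group
  simp only [α', β', α, β, p, X, ← map_inv, ← map_mul, ← map_commutatorElement, pr_eq] at key
  simpa [commutatorElement_def, mul_assoc] using key

end invariant

end Hyp

end Cfsg.Agent.SelfCentSix
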