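import Cfsg.Agent.Lib.SelfCentSix.CoreSetup
import Cfsg.Agent.Lib.Blocks.Induced

/-!
# The constituents of the induced functions lie in the principal block

* `Core.const` : principal-block characters are constant on each fibre over a special element
* `Core.signed_const` : so are the constituents of `A5 + A6`
* `Core.value_q` : their value at an element of order four of the quaternion group
-/

set_option autoImplicit false
set_option linter.unusedSectionVars false
set_option linter.style.haveILetI false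

namespace Cfsg.Agent.SelfCentSix

open Cfsg Cfsg.Agent.Char Cfsg.Agent.Coherence Cfsg.Agent.GL23Cent Cfsg.Agent.GL23Core
open scoped ComplexConjugate

/-- The elements of order four of the quaternion group. -/
def six (k : Fin 48) : Prop := q8 k ∧ k ≠ k1 ∧ k ≠ kz

instance : DecidablePred q8 := fun k => by unfold q8; infer_instance

instance : DecidablePred six := fun k => by unfold six; infer_instance

theorem six_inD : ∀ k, six k → inD k := by decide +kernel

theorem six_conj : ∀ k l, six k → six l → ∃ c, mul c k = mul l c := by decide +kernel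

theorem six_cent : ∀ k, six k → (Finset.univ.filter fun c => mul c k = mul k c).card = 8 := by
  decide +kernel

theorem six_card : (Finset.univ.filter six).card = 6 := by decide +kernel

theorem six_a56 : ∀ k, a5 k + a6 k = (if six k then 8 else 0) := by decide +kernel

theorem eight_exists : ∃ k, six (mul k k) ∧ mul (mul k k) (mul k k) ≠ k1 ∧
    mul (mul (mul k k) (mul k k)) (mul (mul k k) (mul k k)) = k1 := by decide +kernel

theorem inD_cases : ∀ k, inD k → mul (mul (mul k k) (mul k k)) (mul (mul k k) (mul k k)) = k1 ∨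
    (mul k (mul k k) = kz ∧ mul kz k ≠ k1 ∧
      mul (mul kz k) (mul (mul kz k) (mul kz k)) = k1) := by decide +kernel

variable {G : Type*} [Group G] {t : G} (S : Core t)

/-- Constancy on the fibres over special elements. -/
def Core.Const (χ : G → ℂ) : Prop :=
  ∀ a b : Cen t, inD (S.φ a) → S.φ a = S.φ b → χ a = χ b

theorem Core.Const.neg {χ : G → ℂ} (h : S.Const χ) : S.Const (-χ) := fun a b h1 h2 =>
  congrArg Neg.neg (h a b h1 h2)

theorem Core.pow_eight_eq {x : Cen t}
    (h : mul (mul (mul (S.φ x) (S.φ x)) (mul (S.φ x) (S.φ x)))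
      (mul (mul (S.φ x) (S.φ x)) (mul (S.φ x) (S.φ x))) = k1) : S.π x ^ 8 = 1 := by
  simp only [← S.φ_mul] at h
  rw [← map_pow, ← MonoidHom.mem_ker, S.mem_ker_iff,
    show x ^ 8 = x * x * (x * x) * (x * x * (x * x)) by
      simp only [show (8 : ℕ) = 4 + 4 from rfl, pow_add, show (4 : ℕ) = 2 + 2 from rfl, sq]]
  exact h

variable [Finite G]

theorem Core.exists_two {x : Cen t} (h : S.π x ^ 8 = 1) :
    ∃ a b : Cen t, x = a * b ∧ a ^ 8 = 1 ∧ S.π a = S.π x ∧ b ∈ S.π.ker ∧ Commute a b := by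
  set n := Nat.card S.π.ker with hn
  obtain ⟨j, hj⟩ : ∃ j, n * n = 8 * j + 1 := by
    refine ⟨n * n / 8, ?_⟩
    have h2 : n % 2 = 1 := Nat.odd_iff.1 S.odd
    have key : ∀ r : Fin 8, r.val % 2 = 1 → r.val * r.val % 8 = 1 := by decide
    have := key ⟨n % 8, Nat.mod_lt _ (by norm_num)⟩ (show n % 8 % 2 = 1 by omega)
    simp only [← Nat.mul_mod] at this
    omega
  have hker : x ^ 8 ∈ S.π.ker := by rw [MonoidHom.mem_ker, map_pow, h]
  have h1 : (x ^ 8) ^ n = 1 := by
    simpa [hn] using congrArg Subtype.val (pow_card_eq_one' (x := (⟨_, hker⟩ : S.π.ker)))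
  have hπ : S.π (x ^ (n * n)) = S.π x := by
    rw [map_pow, hj, pow_succ, pow_mul, h, one_pow, one_mul]
  refine ⟨x ^ (n * n), (x ^ (n * n))⁻¹ * x, by group, ?_, hπ, ?_,
    (Commute.refl _).inv_right.mul_right ((Commute.refl x).pow_left _)⟩
  · rw [← pow_mul, mul_comm (n * n) 8, pow_mul, pow_mul, h1, one_pow]
  · rw [MonoidHom.mem_ker, map_mul, map_inv, hπ, inv_mul_cancel]

theorem Core.eq_one_of_two {a : Cen t} {n : ℕ} (h : a ^ 2 ^ n = 1) (ha : a ∈ S.π.ker) : a = 1 := by
  have h1 : a ^ Nat.card S.π.ker = 1 := by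
    simpa using congrArg Subtype.val (pow_card_eq_one' (x := (⟨_, ha⟩ : S.π.ker)))
  have hc : Nat.Coprime (2 ^ n) (Nat.card S.π.ker) :=
    Nat.Coprime.pow_left _ (Nat.coprime_two_left.2 S.odd)
  exact orderOf_eq_one_iff.1 (Nat.eq_one_of_dvd_coprimes hc (orderOf_dvd_of_pow_eq_one h)
    (orderOf_dvd_of_pow_eq_one h1))

theorem Core.conj_of_two {a a' : Cen t} (ha : a ^ 8 = 1) (ha' : a' ^ 8 = 1) (he : S.π a = S.π a') :
    ∃ c : Cen t, c * a * c⁻¹ = a' := by
  haveI : Fact (Nat.Prime 2) := ⟨Nat.prime_two⟩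
  set H := (Subgroup.zpowers (S.π a)).comap S.π with hH
  have hsyl : ∀ b : Cen t, b ^ 8 = 1 → S.π b = S.π a →
      ∃ P : Sylow 2 H, ∀ p : H, p ∈ P ↔ (p : Cen t) ∈ Subgroup.zpowers b := by
    intro b hb hb'
    have hbH : b ∈ H := by rw [hH, Subgroup.mem_comap, hb']; exact Subgroup.mem_zpowers _
    obtain ⟨k, -, hk⟩ := (Nat.dvd_prime_pow Nat.prime_two).1
      (orderOf_dvd_of_pow_eq_one (show b ^ 2 ^ 3 = 1 from hb))
    obtain ⟨P, hP⟩ := (IsPGroup.of_card (n := k) (G := Subgroup.zpowers (⟨b, hbH⟩ : H))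
      (by rw [Nat.card_zpowers, ← Subgroup.orderOf_coe, hk])).exists_le_sylow
    refine ⟨P, fun p => ⟨fun hp => ?_, fun hp => ?_⟩⟩
    · have hpπ : S.π p ∈ Subgroup.zpowers (S.π b) := by rw [hb']; exact p.2
      obtain ⟨i, hi⟩ := Subgroup.mem_zpowers_iff.1 hpπ
      have hm : (⟨b, hbH⟩ : H) ^ (-i) * p ∈ P :=
        mul_mem ((P : Subgroup H).zpow_mem (hP (Subgroup.mem_zpowers _)) _) hp
      obtain ⟨m, hm'⟩ := P.isPGroup' ⟨_, hm⟩
      have hm2 : (b ^ (-i) * (p : Cen t)) ^ 2 ^ m = 1 := by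
        simpa using congrArg (fun z : P => ((z : H) : Cen t)) hm'
      have := S.eq_one_of_two hm2 (by
        rw [MonoidHom.mem_ker, map_mul, map_zpow, ← hi, zpow_neg, inv_mul_cancel])
      exact Subgroup.mem_zpowers_iff.2 ⟨i, by
        rw [zpow_neg] at this; exact inv_mul_eq_one.1 this⟩
    · obtain ⟨i, hi⟩ := Subgroup.mem_zpowers_iff.1 hp
      have : p = (⟨b, hbH⟩ : H) ^ i := Subtype.ext (by simp [hi])
      exact this ▸ (P : Subgroup H).zpow_mem (hP (Subgroup.mem_zpowers _)) _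
  obtain ⟨P, hP⟩ := hsyl a ha rfl
  obtain ⟨P', hP'⟩ := hsyl a' ha' he.symm
  obtain ⟨c, hc⟩ := MulAction.exists_smul_eq H P P'
  refine ⟨c, ?_⟩
  have haH : a ∈ H := Subgroup.mem_zpowers _
  have h1 : c * ⟨a, haH⟩ * c⁻¹ ∈ P' := by
    rw [← hc]
    exact Subgroup.smul_mem_pointwise_smul _ (MulAut.conj c) (P : Subgroup H)
      ((hP ⟨a, haH⟩).2 (Subgroup.mem_zpowers _))
  have h2 : ((c : Cen t) * a * (c : Cen t)⁻¹) ∈ Subgroup.zpowers a' := (hP' _).1 h1
  obtain ⟨i, hi⟩ := Subgroup.mem_zpowers_iff.1 h2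
  have h3 : S.π ((c : Cen t) * a * (c : Cen t)⁻¹) = S.π a' := by
    obtain ⟨j, hj⟩ := Subgroup.mem_zpowers_iff.1 (c.2 : S.π c ∈ Subgroup.zpowers (S.π a))
    rw [← he, map_mul, map_mul, map_inv, ← hj]
    group
  have h4 : (a' ^ (i - 1)) ^ 2 ^ 3 = 1 := by
    rw [← zpow_natCast, ← zpow_mul, mul_comm, zpow_mul, zpow_natCast,
      show a' ^ 2 ^ 3 = 1 from ha', one_zpow]
  have := S.eq_one_of_two h4 (by
    rw [MonoidHom.mem_ker, zpow_sub, zpow_one, map_mul, map_inv, hi, h3, mul_inv_cancel])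
  rw [← hi, show a' ^ i = a' ^ (i - 1) * a' by rw [← zpow_add_one, sub_add_cancel], this, one_mul]

theorem Core.cent_le {a : Cen t} (ha : inD (S.φ a)) :
    Subgroup.centralizer ({(a : G)} : Set G) ≤ Cen t := fun g hg => by
  obtain ⟨N, hN⟩ := S.pow_eq_t a ha
  have e : (a : G) ^ N = t := congrArg Subtype.val hN
  refine mem_cent_iff.mpr ?_
  rw [← e]
  exact (Commute.pow_right (Subgroup.mem_centralizer_singleton_iff.1 hg) N).eq

/-- The centralizer of a special element mapped to `GL(2,3)`. -/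
noncomputable def Core.toGL {a : Cen t} (ha : inD (S.φ a)) :
    Subgroup.centralizer ({(a : G)} : Set G) →* GL (Fin 2) (ZMod 3) :=
  S.π.comp (Subgroup.inclusion (S.cent_le ha))

theorem Core.toGL_odd {a : Cen t} (ha : inD (S.φ a)) : Odd (Nat.card (S.toGL ha).ker) := by
  refine S.odd.of_dvd_nat ?_
  rw [← Subgroup.card_map_of_injective (Subgroup.inclusion_injective (S.cent_le ha))]
  refine Subgroup.card_dvd_of_le ?_
  rintro _ ⟨g, hg, rfl⟩
  exact hg

theorem Core.toGL_le_core {a : Cen t} (ha : inD (S.φ a)) :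
    (S.toGL ha).ker ≤ Cfsg.pPrimeCore 2 (Subgroup.centralizer ({(a : G)} : Set G)) :=
  Cores.le_pPrimeCore inferInstance (Nat.coprime_two_right.2 (S.toGL_odd ha))

variable [Fintype G] [Fintype (Cen t)]

theorem Core.const {M : Ideal AlgInt} (hM : IsPModular 2 M) {χ : IrrCharacter G}
    (hχ : χ ∈ principalBlock M G) : S.Const (χ : G → ℂ) := by
  classical
  haveI : Fact (Nat.Prime 2) := ⟨Nat.prime_two⟩
  have hcf := IsIrrCharacter.isClassFunction χ.2
  have hconj : ∀ c a : Cen t, (χ : G → ℂ) ((c * a * c⁻¹ : Cen t) : G) = (χ : G → ℂ) (a : G) :=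
    fun c a => by simpa using hcf (a : G) (c : G)
  intro x y hx hxy
  rcases inD_cases _ hx with h8 | ⟨h3, hb, hb3⟩
  · have hy8 := h8
    rw [hxy] at hy8
    have key : ∀ z : Cen t, S.φ z = S.φ x →
        ∃ a : Cen t, a ^ 8 = 1 ∧ S.π a = S.π x ∧ (χ : G → ℂ) z = (χ : G → ℂ) a := by
      intro z hz
      obtain ⟨a, b, rfl, ha8, haπ, hb, hab⟩ := S.exists_two (x := z)
        (S.pow_eight_eq (by rw [hz]; exact h8))
      have haπ' : S.π a = S.π x := haπ.trans (S.φ_eq_iff.1 hz)
      have haD : inD (S.φ a) := by rw [S.φ_eq_iff.2 haπ']; exact hx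
      refine ⟨a, ha8, haπ', ?_⟩
      obtain ⟨k, -, hk⟩ := (Nat.dvd_prime_pow Nat.prime_two).1
        (orderOf_dvd_of_pow_eq_one (show a ^ 2 ^ 3 = 1 from ha8))
      refine S0942.result 2 M hM (a : G) ⟨k, by rw [Subgroup.orderOf_coe, hk]⟩ (b : G) ?_ χ hχ
      have hbC : (b : G) ∈ Subgroup.centralizer ({(a : G)} : Set G) :=
        Subgroup.mem_centralizer_singleton_iff.2 (congrArg Subtype.val hab.symm.eq)
      exact Subgroup.mem_map.2 ⟨⟨b, hbC⟩, S.toGL_le_core haD hb, rfl⟩
    obtain ⟨a, ha8, haπ, ea⟩ := key x rfl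
    obtain ⟨a', ha8', haπ', ea'⟩ := key y hxy.symm
    obtain ⟨c, hc⟩ := S.conj_of_two ha8 ha8' (haπ.trans haπ'.symm)
    rw [ea, ea', ← hc, hconj]
  · -- order six: the fibre is a class of the kernel
    set f : S.π.ker → {z : Cen t // S.φ z = S.φ x} := fun o =>
      ⟨(o : Cen t) * x * (o : Cen t)⁻¹, S.φ_eq_iff.2 (by
        rw [map_mul, map_mul, map_inv, MonoidHom.mem_ker.1 o.2, one_mul, inv_one, mul_one])⟩ with hf
    have hinj : Function.Injective f := by
      rintro ⟨o, ho⟩ ⟨o', ho'⟩ e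
      have e' : o * x * o⁻¹ = o' * x * o'⁻¹ := congrArg Subtype.val e
      have hc : Commute x (o'⁻¹ * o) := by
        show x * (o'⁻¹ * o) = o'⁻¹ * o * x
        calc x * (o'⁻¹ * o) = o'⁻¹ * (o' * x * o'⁻¹) * o := by group
          _ = _ := by rw [← e']; group
      have hφ1 : S.φ (tC t * x) = mul kz (S.φ x) := by rw [S.φ_mul, S.φ_tC]
      have hb' : S.π (tC t * x) ≠ 1 := fun e => by
        rw [← MonoidHom.mem_ker, S.mem_ker_iff, hφ1] at e
        exact hb e
      have hb3' : S.π (tC t * x) ^ 3 = 1 := by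
        rw [← map_pow, ← MonoidHom.mem_ker, S.mem_ker_iff,
          pow_three, S.φ_mul, S.φ_mul (tC t * x) (tC t * x), hφ1]
        exact hb3
      have hcb : Commute (tC t * x) (o'⁻¹ * o) :=
        Commute.mul_left (show Commute (tC t) (o'⁻¹ * o) from (S.tC_comm _).symm) hc
      have h : o'⁻¹ * o = 1 := S.fpf _ _ (mul_mem (inv_mem ho') ho) hb' hb3' hcb
      exact Subtype.ext (inv_mul_eq_one.1 h).symm
    have hcard : Nat.card {z : Cen t // S.φ z = S.φ x} = Nat.card S.π.ker := by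
      have := S.sum_eq (fun k => if k = S.φ x then (1 : ℕ) else 0)
      rw [← Finset.card_filter, ← Fintype.card_subtype, ← Nat.card_eq_fintype_card] at this
      simpa using this
    obtain ⟨o, ho⟩ := (hinj.bijective_of_nat_card_le hcard.le).2 ⟨y, hxy.symm⟩
    have ho' : (o : Cen t) * x * (o : Cen t)⁻¹ = y := congrArg Subtype.val ho
    rw [← ho', hconj]

/-- An element of order four of the quaternion group with a centralizer of full 2-part. -/
theorem Core.exists_q : ∃ q : Cen t, orderOf q = 4 ∧ six (S.φ q) ∧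
    (Nat.card (Subgroup.centralizer ({(q : G)} : Set G))).factorization 2 = 3 ∧
    ∃ k : ℕ, (Cfsg.pPrimeCore 2 (Subgroup.centralizer ({(q : G)} : Set G))).index = 2 ^ k := by
  classical
  haveI : Fact (Nat.Prime 2) := ⟨Nat.prime_two⟩
  obtain ⟨k, hk, hk4, hk8⟩ := eight_exists
  obtain ⟨c0, rfl⟩ := S.φ_surj k
  obtain ⟨c, b, -, hc8, hcπ, -, -⟩ := S.exists_two (x := c0) (S.pow_eight_eq hk8)
  have hφ : S.φ c = S.φ c0 := S.φ_eq_iff.2 hcπ
  set q := c * c with hq
  have hsix : six (S.φ q) := by rw [hq, S.φ_mul, hφ]; exact hk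
  have hπ4 : ¬ S.π c ^ 2 ^ 2 = 1 := by
    intro e
    apply hk4
    rw [← hφ]
    simp only [← S.φ_mul]
    rw [← S.mem_ker_iff, MonoidHom.mem_ker, show c * c * (c * c) = c ^ 4 by
      simp only [show (4 : ℕ) = 2 + 2 from rfl, pow_add, sq], map_pow]
    exact e
  have hπ8 : S.π c ^ 2 ^ (2 + 1) = 1 := by
    rw [← map_pow, show c ^ 2 ^ (2 + 1) = 1 from hc8, map_one]
  have hoπ : orderOf (S.π c) = 8 := orderOf_eq_prime_pow hπ4 hπ8
  have hoc : orderOf c = 2 ^ (2 + 1) :=
    orderOf_eq_prime_pow (fun e => hπ4 (by rw [← map_pow, e, map_one])) hc8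
  have hoq : orderOf q = 4 := by
    rw [hq, ← sq, orderOf_pow, hoc]
    rfl
  have hD := six_inD _ hsix
  have hcC : (c : G) ∈ Subgroup.centralizer ({(q : G)} : Set G) := by
    refine Subgroup.mem_centralizer_singleton_iff.2 ?_
    simp only [hq, Subgroup.coe_mul, mul_assoc]
  have hge : 8 ≤ Nat.card (S.toGL hD).range := by
    rw [← hoπ, ← Nat.card_zpowers]
    refine Subgroup.card_le_of_le (Subgroup.zpowers_le.2 ⟨⟨c, hcC⟩, ?_⟩)
    rfl
  have hle : Nat.card (S.toGL hD).range ≤ 8 := by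
    rw [← six_cent _ hsix, ← Fintype.card_subtype, ← Nat.card_eq_fintype_card]
    refine Nat.card_le_card_of_injective (fun g => ⟨tab.φ g.1, ?_⟩) fun a b e =>
      Subtype.ext (tab.φ.injective (congrArg Subtype.val e))
    obtain ⟨_, g, rfl⟩ := g
    show mul (tab.φ (S.π _)) (tab.φ (S.π q)) = mul (tab.φ (S.π q)) (tab.φ (S.π _))
    refine (S.φ_mul _ _).symm.trans ((congrArg S.φ (Subtype.ext ?_)).trans (S.φ_mul _ _))
    exact Subgroup.mem_centralizer_singleton_iff.1 g.2
  have hidx : (S.toGL hD).ker.index = 8 := by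
    rw [Subgroup.index_ker]; exact le_antisymm hle hge
  have hodd := S.toGL_odd hD
  refine ⟨q, hoq, hsix, ?_, ?_⟩
  · rw [← Subgroup.card_mul_index (S.toGL hD).ker, hidx,
      Nat.factorization_mul Nat.card_pos.ne' (by norm_num), Finsupp.add_apply,
      Nat.factorization_eq_zero_of_not_dvd (fun h => by
        obtain ⟨m, hm⟩ := hodd; omega), zero_add, show (8 : ℕ) = 2 ^ 3 from rfl,
      Nat.Prime.factorization_pow Nat.prime_two, Finsupp.single_eq_same]
  · have h := Subgroup.index_dvd_of_le (S.toGL_le_core hD)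
    rw [hidx, show (8 : ℕ) = 2 ^ 3 from rfl] at h
    obtain ⟨j, -, hj⟩ := (Nat.dvd_prime_pow Nat.prime_two).1 h
    exact ⟨j, hj⟩

theorem Core.const_six {χ : G → ℂ} (hχ : IsClassFunction G χ) (hC : S.Const χ) {q x : Cen t}
    (hq : six (S.φ q)) (hx : six (S.φ x)) : χ x = χ q := by
  obtain ⟨k, hk⟩ := six_conj _ _ hq hx
  obtain ⟨c, rfl⟩ := S.φ_surj k
  have e : S.φ x = S.φ (c * q * c⁻¹) := by
    rw [S.φ_eq_iff, map_mul, map_mul, map_inv, eq_mul_inv_iff_mul_eq, ← map_mul, ← map_mul,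
      ← S.φ_eq_iff, S.φ_mul, S.φ_mul]
    exact hk.symm
  rw [hC x (c * q * c⁻¹) (six_inD _ hx) e]
  simpa using hχ (q : G) (c : G)

theorem Core.value_q {χ : G → ℂ} (hχ : IsClassFunction G χ) (hC : S.Const χ) {q : Cen t}
    (hq : six (S.φ q)) : χ q = classInner χ S.five.A5 + classInner χ S.five.A6 := by
  classical
  show χ q = classInner χ (indFun (Cen t) (S.F a5)) + classInner χ (indFun (Cen t) (S.F a6))
  rw [frobenius_reciprocity' _ (S.F a5) hχ, frobenius_reciprocity' _ (S.F a6) hχ]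
  have key : ∀ x : Cen t, χ x * (conj (S.F a5 x) + conj (S.F a6 x)) =
      (if six (S.φ x) then 8 * χ q else 0) := by
    intro x
    rw [S.F_apply, S.F_apply, ← map_add, ← map_add, six_a56]
    split_ifs with h
    · rw [S.const_six hχ hC hq h, map_ofNat, map_ofNat, mul_comm]
    · simp
  symm
  calc _ = (Nat.card (Cen t) : ℂ)⁻¹ * ∑ x : Cen t, χ x * (conj (S.F a5 x) + conj (S.F a6 x)) := by
        simp only [classInner, mul_add, Finset.sum_add_distrib]
    _ = _ := by
        rw [Finset.sum_congr rfl fun x _ => key x, S.sum_eq (fun k => if six k then 8 * χ q else 0),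
          ← Finset.sum_filter, Finset.sum_const, six_card, S.card_cen, nsmul_eq_mul, nsmul_eq_mul]
        have : (Nat.card S.π.ker : ℂ) ≠ 0 := Nat.cast_ne_zero.2 Nat.card_pos.ne'
        push_cast
        field_simp
        norm_num

/-- Constituents of `A5 + A6` are constant on the fibres. -/
theorem Core.signed_const {χ : G → ℂ} (hχ : IsSignedIrr G χ)
    (hne : classInner χ S.five.A5 + classInner χ S.five.A6 ≠ 0) : S.Const χ := by
  classical
  haveI : Fact (Nat.Prime 2) := ⟨Nat.prime_two⟩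
  have : Fintype (IrrCharacter G) := Fintype.ofFinite _
  obtain ⟨M, hM⟩ := Blocks.exists_isPModular Nat.prime_two
  obtain ⟨q, hoq, hsix, hfac, hidx⟩ := S.exists_q
  set θ := S.five.A5 + S.five.A6 with hθ
  have hθc : IsClassFunction G θ :=
    isClassFunction_add (isGC_isClassFunction S.five.gA5) (isGC_isClassFunction S.five.gA6)
  have h8 : classInner θ θ = 8 := by
    have h56 : classInner S.five.A5 S.five.A6 = 1 := by
      rw [← classInner_conj_symm, S.five.i65, map_one]
    rw [hθ, classInner_add_left, classInner_add_right, classInner_add_right, S.five.nA5,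
      S.five.nA6, S.five.i65, h56]
    norm_num
  let g : IrrCharacter G → ℝ := fun φ => ‖classInner θ (φ : G → ℂ)‖ ^ 2
  have hall : ∑ φ, g φ = 8 := by
    have h := classInner_eq_sum hθc θ
    rw [h8] at h
    apply Complex.ofReal_injective
    rw [Complex.ofReal_sum, Complex.ofReal_ofNat, h]
    refine Finset.sum_congr rfl fun φ _ => ?_
    simp only [g, Complex.ofReal_pow, Complex.mul_conj']
  set B := (principalBlock M G).toFinite.toFinset with hB
  have hBsum : ∑ φ ∈ B, g φ = 8 := by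
    have h := (S0947.result 2 M hM (q : G) ⟨2, by rw [Subgroup.orderOf_coe, hoq]; rfl⟩
      (fun e => by
        have e' : q = 1 := Subtype.ext e
        rw [e', orderOf_one] at hoq; omega)
      1 (by simp)).2 hidx
    rw [hfac] at h
    simp only [OneMemClass.coe_one, mul_one] at h
    rw [finsum_mem_eq_finite_toFinset_sum _ (principalBlock M G).toFinite] at h
    rw [show (8 : ℝ) = ((2 ^ 3 : ℕ) : ℝ) by norm_num, ← h]
    refine Finset.sum_congr rfl fun φ hφ => ?_
    have hv := S.value_q (IsIrrCharacter.isClassFunction φ.2)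
      (S.const hM ((principalBlock M G).toFinite.mem_toFinset.1 hφ)) hsix
    rw [hv, ← classInner_add_right, ← hθ, ← classInner_conj_symm θ, Complex.norm_conj]
  have hout : ∀ φ, φ ∉ B → g φ = 0 := by
    intro φ hφ
    have h := Finset.sum_sdiff (s₁ := B) (f := g) (Finset.subset_univ _)
    rw [hBsum, hall] at h
    exact (Finset.sum_eq_zero_iff_of_nonneg fun _ _ => sq_nonneg _).1
      (show ∑ φ ∈ Finset.univ \ B, g φ = 0 by linarith) φ (by simp [hφ])
  have main : ∀ (f : G → ℂ) (hf : IsIrrCharacter G f),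
      classInner f θ ≠ 0 → S.Const f := by
    intro f hf hfn
    refine S.const hM (χ := ⟨f, hf⟩) ((principalBlock M G).toFinite.mem_toFinset.1 ?_)
    by_contra h
    have h0 := hout ⟨f, hf⟩ h
    simp only [g, sq_eq_zero_iff, norm_eq_zero] at h0
    exact hfn (by rw [← classInner_conj_symm, h0, map_zero])
  rw [← classInner_add_right, ← hθ] at hne
  rcases hχ with h | h
  · exact main χ h hne
  · have := Core.Const.neg S (main (-χ) h (by rw [classInner_neg_left]; exact neg_ne_zero.2 hne))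
    rwa [neg_neg] at this

end Cfsg.Agent.SelfCentSix
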