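import Cfsg.Agent.Lib.SelfCentSix.CoreBlock

/-!
# The odd kernel over `GL(2,3)` is trivial in a simple group

* `Core.degree_dichotomy` : a constituent of degree less than sixteen
* `Core.centralizer_equiv` : the centralizer is `GL(2,3)`
-/

set_option autoImplicit false
set_option linter.unusedSectionVars false
set_option linter.style.haveILetI false

namespace Cfsg.Agent.SelfCentSix

open Cfsg Cfsg.Agent.Char Cfsg.Agent.Coherence Cfsg.Agent.GL23Cent Cfsg.Agent.GL23Core
open scoped ComplexConjugate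

theorem q8_card : (Finset.univ.filter q8).card = 8 := by decide +kernel

theorem q8_k : q8 k1 ∧ q8 kz ∧ k1 ≠ kz ∧ inD kz := by decide +kernel

theorem three_exists : ∃ k, k ≠ k1 ∧ mul k (mul k k) = k1 := by decide +kernel

theorem pair_sum : (∑ k, ∑ l, if isRefl k ∧ isRefl l then a5 (mul k l) else 0) = 96 ∧
    (∑ k, ∑ l, if isRefl k ∧ isRefl l then a6 (mul k l) else 0) = 96 := by decide +kernel

theorem mul_k1 : ∀ k, mul k k1 = k := by decide +kernel

theorem sum_q8 (a b c : ℂ) :
    ∑ k : {k : Fin 48 // q8 k}, (if k.1 = k1 then a else if k.1 = kz then b else c) =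
      a + b + 6 * c := by
  have e : ∀ k : {k : Fin 48 // q8 k}, (if k.1 = k1 then a else if k.1 = kz then b else c) =
      ((if k = ⟨k1, q8_k.1⟩ then a - c else 0) + if k = ⟨kz, q8_k.2.1⟩ then b - c else 0) + c := by
    rintro ⟨k, hk⟩
    by_cases h1 : k = k1
    · subst h1
      simp [q8_k.2.2.1]
    by_cases h2 : k = kz
    · subst h2
      simp [h1]
    · simp [h1, h2]
  rw [Finset.sum_congr rfl fun k _ => e k, Finset.sum_add_distrib, Finset.sum_add_distrib,
    Finset.sum_ite_eq', Finset.sum_ite_eq', Finset.sum_const, Finset.card_univ, Fintype.card_subtype,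
    q8_card]
  simp only [Finset.mem_univ, if_true, nsmul_eq_mul]
  push_cast
  ring

variable {G : Type*} [Group G] [Fintype G] {t : G} (S : Core t) [Fintype (Cen t)]

/-- A quaternion subgroup of the centralizer. -/
theorem Core.exists_Q : ∃ Q : Subgroup (Cen t), Nat.card Q = 8 ∧ (∀ q ∈ Q, q ^ 8 = 1) ∧
    ∀ k, q8 k → ∃! q : Q, S.φ q = k := by
  classical
  haveI : Fact (Nat.Prime 2) := ⟨Nat.prime_two⟩
  let P : Subgroup (Cen t) :=
    { carrier := {x | q8 (S.φ x)}
      one_mem' := by show q8 (S.φ 1); rw [S.φ_one]; exact q8_one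
      mul_mem' := fun {x y} hx hy => by show q8 (S.φ (x * y)); rw [S.φ_mul]; exact q8_mul _ _ hx hy
      inv_mem' := fun {x} hx => by
        show q8 (S.φ x⁻¹)
        have key : ∀ k l : Fin 48, q8 k → mul k l = k1 → q8 l := by decide +kernel
        exact key _ _ hx (by rw [← S.φ_mul, mul_inv_cancel, S.φ_one]) }
  have hP : 2 ^ 3 ∣ Nat.card P := by
    have h := S.sum_eq (fun k => if q8 k then (1 : ℕ) else 0)
    rw [← Finset.card_filter, ← Finset.card_filter, ← Fintype.card_subtype,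
      ← Nat.card_eq_fintype_card, q8_card, smul_eq_mul] at h
    exact ⟨Nat.card S.π.ker, (show Nat.card P = _ from h).trans (by ring)⟩
  obtain ⟨K, hK⟩ := Sylow.exists_subgroup_card_pow_prime 2 hP
  refine ⟨K.map P.subtype, ?_, ?_, ?_⟩
  · rw [Subgroup.card_map_of_injective P.subtype_injective, hK]; norm_num
  · rintro _ ⟨q, hq, rfl⟩
    have h : (⟨q, hq⟩ : K) ^ Nat.card K = 1 := pow_card_eq_one'
    rw [hK] at h
    simpa using congrArg (fun z : K => ((z : P) : Cen t)) h
  · have h8 : ∀ q ∈ K.map P.subtype, q ^ 2 ^ 3 = 1 := by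
      rintro _ ⟨q, hq, rfl⟩
      have h : (⟨q, hq⟩ : K) ^ Nat.card K = 1 := pow_card_eq_one'
      rw [hK] at h
      simpa using congrArg (fun z : K => ((z : P) : Cen t)) h
    let f : K.map P.subtype → {k : Fin 48 // q8 k} := fun q => ⟨S.φ q, by
      obtain ⟨_, z, -, rfl⟩ := q
      exact z.2⟩
    have hf : Function.Injective f := fun a b e => by
      have e' : S.π a = S.π b := S.φ_eq_iff.1 (congrArg Subtype.val e)
      refine Subtype.ext (inv_mul_eq_one.1 (S.eq_one_of_two (h8 _ (mul_mem (inv_mem a.2) b.2)) ?_))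
      rw [MonoidHom.mem_ker, map_mul, map_inv, e', inv_mul_cancel]
    have hb := hf.bijective_of_nat_card_le (by
      rw [Nat.card_eq_fintype_card, Fintype.card_subtype, q8_card,
        Subgroup.card_map_of_injective P.subtype_injective, hK]
      norm_num)
    intro k hk
    obtain ⟨q, hq⟩ := hb.2 ⟨k, hk⟩
    exact ⟨q, congrArg Subtype.val hq, fun q' hq' => hf ((Subtype.ext hq').trans hq.symm)⟩

/-- Sums over a quaternion subgroup. -/
theorem Core.sum_Q {Q : Subgroup (Cen t)} [Fintype Q] (hcard : Nat.card Q = 8)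
    (hQ : ∀ k, q8 k → ∃! q : Q, S.φ q = k) (h : Fin 48 → ℂ) :
    (∀ q : Q, q8 (S.φ q)) ∧ ∑ q : Q, h (S.φ q) = ∑ k : {k : Fin 48 // q8 k}, h k.1 := by
  classical
  choose g hg _ using fun k : {k : Fin 48 // q8 k} => hQ k.1 k.2
  have hinj : Function.Injective g := fun a b e =>
    Subtype.ext ((hg a).symm.trans ((congrArg (fun q : Q => S.φ q) e).trans (hg b)))
  have hbij := hinj.bijective_of_nat_card_le (by
    rw [hcard, Nat.card_eq_fintype_card, Fintype.card_subtype, q8_card])
  refine ⟨fun q => ?_, (Fintype.sum_bijective g hbij _ _ fun k => ?_).symm⟩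
  · obtain ⟨k, rfl⟩ := hbij.2 q
    rw [hg]; exact k.2
  · rw [hg]

theorem Core.value_t {χ : G → ℂ} (hχ : IsClassFunction G χ) (hC : S.Const χ) :
    χ t = 4 * classInner χ S.five.A1 + 6 * classInner χ S.five.B1 +
      2 * classInner χ S.five.B2 - 3 * classInner χ S.five.A5 - 3 * classInner χ S.five.A6 := by
  classical
  show χ t = 4 * classInner χ (indFun (Cen t) (S.F a1)) + 6 * classInner χ (indFun (Cen t) (S.F b1)) +
    2 * classInner χ (indFun (Cen t) (S.F b2)) - 3 * classInner χ (indFun (Cen t) (S.F a5)) -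
    3 * classInner χ (indFun (Cen t) (S.F a6))
  rw [frobenius_reciprocity' _ (S.F a1) hχ, frobenius_reciprocity' _ (S.F b1) hχ,
    frobenius_reciprocity' _ (S.F b2) hχ, frobenius_reciprocity' _ (S.F a5) hχ,
    frobenius_reciprocity' _ (S.F a6) hχ]
  have key : ∀ x : Cen t, 4 * conj (S.F a1 x) + 6 * conj (S.F b1 x) + 2 * conj (S.F b2 x) -
      3 * conj (S.F a5 x) - 3 * conj (S.F a6 x) = if S.φ x = kz then (48 : ℂ) else 0 := by
    intro x
    have h := congrArg (fun z => conj (ι z)) (ident_t (S.φ x))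
    simp only [map_sub, map_add, map_mul, map_ofNat, apply_ite ι, apply_ite (starRingEnd ℂ),
      map_zero] at h
    simp only [S.F_apply]
    exact h.symm
  have hc : ∀ x : Cen t, S.φ x = kz → χ x = χ t := fun x hx =>
    hC x (tC t) (hx ▸ q8_k.2.2.2) (hx.trans S.φ_tC.symm)
  symm
  calc _ = (Nat.card (Cen t) : ℂ)⁻¹ * ∑ x : Cen t, χ x *
        (4 * conj (S.F a1 x) + 6 * conj (S.F b1 x) + 2 * conj (S.F b2 x) -
          3 * conj (S.F a5 x) - 3 * conj (S.F a6 x)) := by
        simp only [classInner, Finset.mul_sum, ← Finset.sum_add_distrib, ← Finset.sum_sub_distrib]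
        exact Finset.sum_congr rfl fun x _ => by ring
    _ = (Nat.card (Cen t) : ℂ)⁻¹ * ∑ x : Cen t, (if S.φ x = kz then 48 * χ t else 0) := by
        congr 1
        refine Finset.sum_congr rfl fun x _ => ?_
        rw [key]
        split_ifs with h
        · rw [hc x h]; ring
        · ring
    _ = χ t := by
        rw [S.sum_eq (fun k => if k = kz then 48 * χ t else 0), Finset.sum_ite_eq', if_pos
          (Finset.mem_univ _), nsmul_eq_mul, S.card_cen]
        have hm : (Nat.card S.π.ker : ℂ) ≠ 0 := Nat.cast_ne_zero.2 Nat.card_pos.ne'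
        push_cast
        field_simp

/-- Values on a fibre translate of the quaternion subgroup. -/
theorem Core.value_shift {χ : G → ℂ} (hχ : IsClassFunction G χ) (hC : S.Const χ) {o : Cen t}
    (ho : o ∈ S.π.ker) {Q : Subgroup (Cen t)} (h8 : ∀ q ∈ Q, q ^ 8 = 1) {q : Q}
    (hq : q8 (S.φ q)) : χ ((q : Cen t) * o : Cen t) =
      if S.φ q = k1 then χ o else if S.φ q = kz then χ t
      else classInner χ S.five.A5 + classInner χ S.five.A6 := by
  have hφ : S.φ ((q : Cen t) * o) = S.φ q := by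
    rw [S.φ_mul, S.mem_ker_iff.mp ho, mul_k1]
  split_ifs with h1 h2
  · rw [S.eq_one_of_two (n := 3) (h8 _ q.2) (S.mem_ker_iff.mpr h1), one_mul]
  · exact hC _ (tC t) (by rw [hφ, h2]; exact q8_k.2.2.2) (by rw [hφ, h2, S.φ_tC])
  · exact S.value_q hχ hC (by rw [hφ]; exact ⟨hq, h1, h2⟩)

/-- The congruence. -/
theorem Core.congr_eight {χ : G → ℂ} (hg : IsGeneralizedCharacter G χ) (hC : S.Const χ) :
    ∃ n : ℤ, χ 1 + χ t + 6 * (classInner χ S.five.A5 + classInner χ S.five.A6) = 8 * (n : ℂ) := by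
  classical
  obtain ⟨Q, hcard, h8, hQ⟩ := S.exists_Q
  have := Fintype.ofFinite Q
  obtain ⟨n, hn⟩ := classInner_gc_int
    (IsGeneralizedCharacter.restrict (IsGeneralizedCharacter.restrict hg (Cen t)) Q)
    (isGC_of_isCharacter (isCharacter_one (G := Q)))
  refine ⟨n, ?_⟩
  rw [← hn]
  conv_rhs => rw [classInner, hcard]
  simp only [Pi.one_apply, map_one, mul_one]
  set w := classInner χ S.five.A5 + classInner χ S.five.A6
  obtain ⟨hq8, hsum⟩ := S.sum_Q hcard hQ (fun k => if k = k1 then χ 1 else if k = kz then χ t else w)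
  have e : ∀ q : Q, χ ((q : Cen t) : G) =
      (if S.φ q = k1 then χ 1 else if S.φ q = kz then χ t else w) := fun q => by
    have h := S.value_shift (isGC_isClassFunction hg) hC (one_mem _) h8 (hq8 q)
    simp only [mul_one, OneMemClass.coe_one] at h
    exact h
  rw [Finset.sum_congr rfl fun q _ => e q, hsum, sum_q8]
  push_cast
  ring

/-- An involution over a reflection. -/
def Core.Inv (p : Cen t) : Prop := p * p = 1 ∧ isRefl (S.φ p)

open Classical in
/-- The number of pairs of such involutions with product `x`. -/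
noncomputable def Core.pairs (x : Cen t) : ℕ :=
  (Finset.univ.filter fun p : Cen t => S.Inv p ∧ S.Inv (p * x)).card

/-- Pairs of conjugates of `t` with product `x`. -/
theorem Core.count (x : Cen t) (hx : a5 (S.φ x) ≠ 0 ∨ a6 (S.φ x) ≠ 0) :
    Nat.card {p : G × G // IsConj t p.1 ∧ IsConj t p.2 ∧ p.1 * p.2 = (x : G)} = S.pairs x := by
  classical
  obtain ⟨hx2, hxD⟩ := supp_sq _ hx
  have hinv : ∀ p : G, IsConj t p → p * p = 1 ∧ p ≠ 1 := by
    intro p hp
    obtain ⟨c, rfl⟩ := isConj_iff.mp hp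
    refine ⟨?_, fun h => S.ne_one (by simpa using h)⟩
    rw [show c * t * c⁻¹ * (c * t * c⁻¹) = c * (t * t) * c⁻¹ by group, ← sq, ← S.ord,
      pow_orderOf_eq_one, mul_one, mul_inv_cancel]
  have hord : ∀ p : G, p * p = 1 → p ≠ 1 → IsConj t p := fun p h1 h2 =>
    S.fused p (orderOf_eq_prime (by rw [sq, h1]) h2)
  have key : ∀ p q : G, IsConj t p → IsConj t q → p * q = (x : G) →
      ∃ hp : p ∈ Cen t, isRefl (S.φ ⟨p, hp⟩) ∧ isRefl (mul (S.φ ⟨p, hp⟩) (S.φ x)) ∧
        q = p * x := by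
    intro p q hp hq hpq
    obtain ⟨hp2, hp1⟩ := hinv p hp
    obtain ⟨hq2, hq1⟩ := hinv q hq
    have hq' : q = p * x := by rw [← hpq, ← mul_assoc, hp2, one_mul]
    have hqinv : q⁻¹ = q := inv_eq_of_mul_eq_one_right hq2
    obtain ⟨n, hn⟩ := S.pow_eq_t x hxD
    have hn' : (x : G) ^ n = t := by simpa [tC] using congrArg Subtype.val hn
    have hcx : p * (x : G) * p⁻¹ = (x : G)⁻¹ := by
      rw [← hpq, mul_inv_rev, hqinv, ← mul_assoc, hp2, one_mul]
    have htt : t⁻¹ = t := inv_eq_of_mul_eq_one_right (by rw [← sq, ← S.ord, pow_orderOf_eq_one])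
    have hpC : p ∈ Cen t := by
      have h := congrArg (· ^ n) hcx
      simp only [conj_pow, inv_pow, hn', htt] at h
      exact mem_cent_iff.mpr (mul_inv_eq_iff_eq_mul.mp h)
    let pC : Cen t := ⟨p, hpC⟩
    have hpC2 : pC * pC = 1 := Subtype.ext hp2
    have hqC2 : pC * x * (pC * x) = 1 := Subtype.ext (by
      show p * x * (p * x) = 1
      rw [← hq', hq2])
    have main : ∀ r : Cen t, r * r = 1 → r ≠ 1 → r ≠ tC t → isRefl (S.φ r) := by
      intro r h1 h2 h3
      refine ⟨by rw [← S.φ_mul, h1, S.φ_one], fun e => h2 (S.eq_one_of_ker (S.mem_ker_iff.mpr e) h1),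
        fun e => h3 (S.eq_tC e h1)⟩
    have notsq : x * x ≠ 1 := fun e => hx2 (by rw [← S.φ_mul, e, S.φ_one])
    have tcase : ∀ r : Cen t, r * r = 1 → (r * x) * (r * x) = 1 → r = tC t → False := by
      intro r h1 h2 h3
      subst h3
      apply notsq
      calc x * x = x * (tC t * tC t) * x := by rw [S.tC_sq, mul_one]
        _ = (x * tC t) * (tC t * x) := by group
        _ = 1 := by rw [S.tC_comm x]; exact h2
    refine ⟨hpC, main pC hpC2 (fun e => hp1 (congrArg Subtype.val e))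
      (tcase pC hpC2 hqC2), ?_, hq'⟩
    rw [← S.φ_mul]
    refine main (pC * x) hqC2 (fun e => hq1 (hq'.trans (congrArg Subtype.val e))) fun e => ?_
    apply notsq
    have hp' : pC = tC t * x⁻¹ := by rw [← e]; group
    have h := hpC2
    rw [hp'] at h
    calc x * x = x * (tC t * tC t) * x := by rw [S.tC_sq, mul_one]
      _ = (x * tC t) * (tC t * x) := by group
      _ = (tC t * x) * (tC t * x) := by rw [S.tC_comm x]
      _ = ((tC t * x⁻¹) * (tC t * x⁻¹))⁻¹ := by
          rw [mul_inv_rev, mul_inv_rev, inv_inv, inv_eq_of_mul_eq_one_right S.tC_sq,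
            S.tC_comm x]
      _ = 1 := by rw [h, inv_one]
  let T := {p : Cen t // S.Inv p ∧ S.Inv (p * x)}
  have e : Nat.card {p : G × G // IsConj t p.1 ∧ IsConj t p.2 ∧ p.1 * p.2 = (x : G)} = Nat.card T := by
    refine Nat.card_congr
      { toFun := fun p => ⟨⟨p.1.1, (key _ _ p.2.1 p.2.2.1 p.2.2.2).1⟩, ?_, ?_⟩
        invFun := fun i => ⟨((i.1 : G), (i.1 : G) * x), ?_, ?_, ?_⟩
        left_inv := ?_
        right_inv := ?_ }
    · obtain ⟨_, h1, -, -⟩ := key _ _ p.2.1 p.2.2.1 p.2.2.2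
      exact ⟨Subtype.ext (hinv _ p.2.1).1, h1⟩
    · obtain ⟨_, -, h2, h3⟩ := key _ _ p.2.1 p.2.2.1 p.2.2.2
      exact ⟨Subtype.ext (show p.1.1 * x * (p.1.1 * x) = 1 by rw [← h3]; exact (hinv _ p.2.2.1).1),
        by rw [S.φ_mul]; exact h2⟩
    · exact hord _ (congrArg Subtype.val i.2.1.1) fun h => i.2.1.2.2.1 (by
        rw [show i.1 = 1 from Subtype.ext h, S.φ_one])
    · exact hord _ (congrArg Subtype.val i.2.2.1) fun h => i.2.2.2.2.1 (by
        rw [show i.1 * x = 1 from Subtype.ext h, S.φ_one])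
    · have h := congrArg Subtype.val i.2.1.1
      simp only [Subgroup.coe_mul, OneMemClass.coe_one] at h
      rw [← mul_assoc, h, one_mul]
    · rintro ⟨⟨p, q⟩, hp, hq, hpq⟩
      obtain ⟨_, _, _, hq'⟩ := key p q hp hq hpq
      simp [hq']
    · rintro ⟨i, hi⟩
      simp
  rw [e, Nat.card_eq_fintype_card, Fintype.card_subtype, Core.pairs]

theorem Core.sum_invol (g : Fin 48 → ℂ) [DecidablePred S.Inv] :
    ∑ p : Cen t, (if S.Inv p then g (S.φ p) else 0) =
      (Nat.card {p : Cen t // p * p = 1 ∧ S.φ p = idx (1, 0, 0, 2)} : ℂ) *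
        ∑ k, if isRefl k then g k else 0 := by
  classical
  have hN : ∀ k, isRefl k → Nat.card {p : Cen t // p * p = 1 ∧ S.φ p = k} =
      Nat.card {p : Cen t // p * p = 1 ∧ S.φ p = idx (1, 0, 0, 2)} := by
    intro k hk
    obtain ⟨c, hc⟩ := refl_conj _ _ refl_exists hk
    obtain ⟨c, rfl⟩ := S.φ_surj c
    refine (Nat.card_congr ((MulAut.conj c).toEquiv.subtypeEquiv fun p => ?_)).symm
    show _ ↔ c * p * c⁻¹ * (c * p * c⁻¹) = 1 ∧ S.φ (c * p * c⁻¹) = k
    rw [conj_mul, conj_eq_one_iff]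
    refine and_congr_right fun _ => ⟨fun h => ?_, fun h => ?_⟩
    · rw [← h] at hc
      obtain ⟨l, rfl⟩ := S.φ_surj k
      rw [← S.φ_mul, ← S.φ_mul, S.φ_eq_iff, map_mul, map_mul] at hc
      rw [S.φ_eq_iff, map_mul, map_mul, map_inv, hc, mul_inv_cancel_right]
    · rw [← h] at hc
      obtain ⟨l, hl⟩ := S.φ_surj (idx (1, 0, 0, 2))
      rw [← hl] at hc ⊢
      rw [← S.φ_mul, ← S.φ_mul, S.φ_eq_iff, map_mul, map_mul, map_mul, map_mul, map_inv,
        inv_mul_cancel_right] at hc
      exact S.φ_eq_iff.2 (mul_left_cancel hc).symm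
  rw [← Finset.sum_fiberwise (Finset.univ : Finset (Cen t)) S.φ, Finset.mul_sum]
  refine Finset.sum_congr rfl fun k _ => ?_
  rw [Finset.sum_congr rfl (g := fun p : Cen t =>
    if p * p = 1 then (if isRefl k then g k else 0) else 0) fun p hp => by
      have := (Finset.mem_filter.1 hp).2
      by_cases h1 : p * p = 1 <;> by_cases h2 : isRefl k <;> simp [Core.Inv, this, h1, h2],
    ← Finset.sum_filter, Finset.sum_const, nsmul_eq_mul, Finset.filter_filter]
  by_cases h2 : isRefl k
  · rw [← hN k h2, Nat.card_eq_fintype_card, Fintype.card_subtype,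
      Finset.filter_congr fun p _ => and_comm]
  · simp [h2]

theorem Core.L_ind [Fintype (IrrCharacter G)] (a : Fin 48 → ZS)
    (hN : ∀ k : Fin 48, a k ≠ 0 → a5 k ≠ 0 ∨ a6 k ≠ 0)
    (hsum : (∑ k, ∑ l, if isRefl k ∧ isRefl l then a (mul k l) else 0) = 96) :
    L t (indFun (Cen t) (S.F a)) =
      96 * (Nat.card {p : Cen t // p * p = 1 ∧ S.φ p = idx (1, 0, 0, 2)} : ℂ) *
        Nat.card {p : Cen t // p * p = 1 ∧ S.φ p = idx (1, 0, 0, 2)} *
      (Nat.card G : ℂ) / ((Nat.card {x : G // IsConj t x} : ℂ) ^ 2 * Nat.card (Cen t)) := by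
  classical
  set K : ℂ := (Nat.card {x : G // IsConj t x} : ℂ)
  have hK : K ≠ 0 := by
    have : Nonempty {x : G // IsConj t x} := ⟨⟨t, IsConj.refl t⟩⟩
    exact Nat.cast_ne_zero.2 Nat.card_pos.ne'
  let s : Cen t → ℂ := fun x => ∑ χ : IrrCharacter G,
    (χ : G → ℂ) t * (χ : G → ℂ) t * conj ((χ : G → ℂ) x) / (χ : G → ℂ) 1
  have h1 : L t (indFun (Cen t) (S.F a)) = (Nat.card (Cen t) : ℂ)⁻¹ * ∑ x : Cen t, S.F a x * s x := by
    rw [L, Finset.sum_congr rfl fun (χ : IrrCharacter G) _ => by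
      rw [frobenius_reciprocity (Cen t) (S.F a) (IsIrrCharacter.isClassFunction χ.2)]]
    simp only [classInner, Finset.mul_sum, Finset.sum_mul, s]
    rw [Finset.sum_comm]
    refine Finset.sum_congr rfl fun x _ => Finset.sum_congr rfl fun χ _ => ?_
    ring
  have h2 : ∀ x : Cen t, S.F a x * s x = S.F a x * (S.pairs x : ℂ) * (Nat.card G / (K * K)) := by
    intro x
    by_cases h0 : a (S.φ x) = 0
    · rw [S.F_apply, h0, map_zero, zero_mul, zero_mul, zero_mul]
    · have := class_mult_formula t t (x : G)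
      rw [S.count x (hN _ h0)] at this
      have this' : (S.pairs x : ℂ) = K * K / Nat.card G * s x := this
      have hg : (Nat.card G : ℂ) ≠ 0 := Nat.cast_ne_zero.2 Nat.card_pos.ne'
      rw [this']; field_simp
  have h3 : ∑ x : Cen t, S.F a x * (S.pairs x : ℂ) = ∑ p : Cen t, if S.Inv p then
      (∑ q : Cen t, if S.Inv q then ι (a (mul (S.φ p) (S.φ q))) else 0) else 0 := by
    simp only [Core.pairs, Finset.card_filter, Nat.cast_sum, Finset.mul_sum]
    rw [Finset.sum_comm]
    refine Finset.sum_congr rfl fun p _ => ?_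
    split_ifs with hp
    · refine Fintype.sum_equiv (Equiv.mulLeft p) _ _ fun x => ?_
      simp only [Equiv.coe_mulLeft, hp, true_and]
      by_cases hq : S.Inv (p * x)
      · erw [if_pos hq, if_pos hq]
        rw [Nat.cast_one, mul_one, S.F_apply, ← S.φ_mul, ← mul_assoc, hp.1,
          one_mul]
      · erw [if_neg hq, if_neg hq]
        rw [Nat.cast_zero, mul_zero]
    · simp [hp]
  rw [h1, Finset.sum_congr rfl fun x _ => h2 x, ← Finset.sum_mul, h3,
    Finset.sum_congr rfl (g := fun p : Cen t => if S.Inv p then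
      (fun k => (Nat.card {p : Cen t // p * p = 1 ∧ S.φ p = idx (1, 0, 0, 2)} : ℂ) *
        ∑ l, if isRefl l then ι (a (mul k l)) else 0) (S.φ p) else 0) fun p _ => by
      rw [S.sum_invol fun l => ι (a (mul (S.φ p) l))],
    S.sum_invol fun k => (Nat.card {p : Cen t // p * p = 1 ∧ S.φ p = idx (1, 0, 0, 2)} : ℂ) *
      ∑ l, if isRefl l then ι (a (mul k l)) else 0]
  have h4 : (∑ k, if isRefl k then (Nat.card {p : Cen t // p * p = 1 ∧ S.φ p = idx (1, 0, 0, 2)} : ℂ) *
      ∑ l, (if isRefl l then ι (a (mul k l)) else 0) else 0) =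
      (Nat.card {p : Cen t // p * p = 1 ∧ S.φ p = idx (1, 0, 0, 2)} : ℂ) * 96 := by
    rw [show (96 : ℂ) = ι 96 by rw [map_ofNat], ← hsum, map_sum, Finset.mul_sum]
    refine Finset.sum_congr rfl fun k _ => ?_
    rw [map_sum]
    split_ifs with hk
    · congr 1
      refine Finset.sum_congr rfl fun l _ => ?_
      split_ifs with hl h <;> simp_all
    · rw [Finset.sum_congr rfl fun l _ => by rw [if_neg (fun h => hk h.1), map_zero],
        Finset.sum_const_zero, mul_zero]
  rw [h4]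
  field_simp

theorem Core.degree_dichotomy (hker : ∀ χ : G → ℂ, IsIrrCharacter G χ → χ ≠ 1 → χ t ≠ χ 1) :
    ∃ χ : G → ℂ, IsSignedIrr G χ ∧ classInner χ 1 = 0 ∧ S.Const χ ∧
      ∃ d : ℤ, χ 1 = d ∧ d.natAbs < 16 := by
  classical
  have : Fintype (IrrCharacter G) := Fintype.ofFinite _
  obtain ⟨R, Y, U, V, pR, pY, pU, pV, hA5, hA6⟩ := S.five.decompose
  obtain ⟨sR, oR, rA1, rB1, rB2, rA5, rA6⟩ := pR
  obtain ⟨sY, oY, yA1, yB1, yB2, yA5, yA6⟩ := pY
  obtain ⟨sU, oU, uA1, uB1, uB2, uA5, uA6⟩ := pU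
  obtain ⟨sV, oV, vA1, vB1, vB2, vA5, vA6⟩ := pV
  have oR' : S.Const R := S.signed_const sR (by rw [rA5, rA6]; norm_num)
  have oY' : S.Const Y := S.signed_const sY (by rw [yA5, yA6]; norm_num)
  have oU' : S.Const U := S.signed_const sU (by rw [uA5, uA6]; norm_num)
  have oV' : S.Const V := S.signed_const sV (by rw [vA5, vA6]; norm_num)
  have cf : ∀ {X : G → ℂ}, IsSignedIrr G X → IsClassFunction G X := fun h =>
    isGC_isClassFunction (isGC_signed h)
  have vR : R t = 2 := by rw [S.value_t (cf sR) oR', rA1, rB1, rB2, rA5, rA6]; norm_num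
  have vY : Y t = -3 := by rw [S.value_t (cf sY) oY', yA1, yB1, yB2, yA5, yA6]; norm_num
  have vU : U t = 1 := by rw [S.value_t (cf sU) oU', uA1, uB1, uB2, uA5, uA6]; norm_num
  have vV : V t = -3 := by rw [S.value_t (cf sV) oV', vA1, vB1, vB2, vA5, vA6]; norm_num
  obtain ⟨D, hD0, hD⟩ := signed_degree sR
  obtain ⟨y, hy0, hy⟩ := signed_degree sY
  obtain ⟨u, hu0, hu⟩ := signed_degree sU
  obtain ⟨v, hv0, hv⟩ := signed_degree sV
  have hD2 : D ≠ 2 := fun e => signed_ne_at_t hker sR oR (by rw [vR, hD, e]; norm_num)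
  have hu1 : u ≠ 1 := fun e => signed_ne_at_t hker sU oU (by rw [vU, hu, e]; norm_num)
  have hyD : y = -1 - D := by
    have h := congrFun hA5 1
    rw [S.five.zA5] at h
    simp only [Pi.add_apply, Pi.one_apply, hD, hy] at h
    refine int_of_cast ?_
    push_cast; linear_combination -h
  have hvD : v = -D - u := by
    have h := congrFun hA6 1
    rw [S.five.zA6] at h
    simp only [Pi.add_apply, hD, hu, hv] at h
    refine int_of_cast ?_
    push_cast; linear_combination -h
  obtain ⟨n, hn⟩ : ∃ n : ℤ, D + 14 = 8 * n := by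
    obtain ⟨n, hn⟩ := S.congr_eight (isGC_signed sR) oR'
    refine ⟨n, int_of_cast ?_⟩
    rw [hD, vR, rA5, rA6] at hn
    push_cast at hn ⊢; linear_combination hn
  have hL5 : L t S.five.A5 = 1 + 4 / (D : ℂ) + 9 / (y : ℂ) := by
    rw [hA5, L_add, L_add, L_signed signed_one, L_signed sR, L_signed sY, vR, vY, hD, hy]
    simp; norm_num
  have hL6 : L t S.five.A6 = 4 / (D : ℂ) + 1 / (u : ℂ) + 9 / (v : ℂ) := by
    rw [hA6, L_add, L_add, L_signed sR, L_signed sU, L_signed sV, vR, vU, vV, hD, hu, hv]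
    norm_num
  have hDc : (D : ℂ) ≠ 0 := Int.cast_ne_zero.mpr hD0
  have hyc : (y : ℂ) ≠ 0 := Int.cast_ne_zero.mpr hy0
  have huc : (u : ℂ) ≠ 0 := Int.cast_ne_zero.mpr hu0
  have hvc : (v : ℂ) ≠ 0 := Int.cast_ne_zero.mpr hv0
  have he : 1 + 9 / (y : ℂ) = 1 / (u : ℂ) + 9 / (v : ℂ) := by
    have h5 := S.L_ind a5 (fun _ h => Or.inl h) pair_sum.1
    have h6 := S.L_ind a6 (fun _ h => Or.inr h) pair_sum.2
    change L t S.five.A5 = _ at h5
    change L t S.five.A6 = _ at h6
    rw [← h6, hL5, hL6] at h5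
    linear_combination h5
  field_simp at he
  have hE : (y + 9) * u * v = (v + 9 * u) * y := int_of_cast (by push_cast; linear_combination he)
  rw [hyD, hvD] at hE
  have hfac : (u - 1) * (u * (D - 8) + D * (D + 1)) = 0 := by linear_combination hE
  have hu2 : u * (D - 8) + D * (D + 1) = 0 :=
    (mul_eq_zero.mp hfac).resolve_left (sub_ne_zero.mpr hu1)
  have hdvd : (D - 8) ∣ 72 := ⟨-(u + D + 9), by linear_combination hu2⟩
  have hle : (D - 8).natAbs ∣ 72 := Int.natCast_dvd_natCast.mp (by simpa using hdvd)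
  have hmem : (D - 8).natAbs ∈ Nat.divisors 72 := Nat.mem_divisors.mpr ⟨hle, by norm_num⟩
  rw [show Nat.divisors 72 = {1, 2, 3, 4, 6, 8, 9, 12, 18, 24, 36, 72} by decide] at hmem
  simp only [Finset.mem_insert, Finset.mem_singleton] at hmem
  have hD' : D = 10 ∨ D = 26 := by omega
  rcases hD' with rfl | rfl
  · exact ⟨R, sR, oR, oR', 10, hD, by norm_num⟩
  · refine ⟨V, sV, oV, oV', v, hv, ?_⟩
    have : v = 13 := by omega
    subst this; norm_num

/-- The centre of the kernel. -/
def Core.A : Subgroup (Cen t) := S.π.ker ⊓ Subgroup.centralizer (S.π.ker : Set (Cen t))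

theorem Core.mem_A {o : Cen t} : o ∈ S.A ↔ o ∈ S.π.ker ∧ ∀ k ∈ S.π.ker, k * o = o * k := by
  rw [Core.A, Subgroup.mem_inf, Subgroup.mem_centralizer_iff]; rfl

theorem Core.conj_A {c o : Cen t} (ho : o ∈ S.A) : c * o * c⁻¹ ∈ S.A := by
  obtain ⟨h1, h2⟩ := S.mem_A.1 ho
  refine S.mem_A.2 ⟨(MonoidHom.normal_ker S.π).conj_mem o h1 c, fun k hk => ?_⟩
  have h3 := h2 _ ((MonoidHom.normal_ker S.π).conj_mem k hk c⁻¹)
  rw [inv_inv] at h3
  calc k * (c * o * c⁻¹) = c * (c⁻¹ * k * c * o) * c⁻¹ := by group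
    _ = c * (o * (c⁻¹ * k * c)) * c⁻¹ := by rw [h3]
    _ = _ := by group

/-- A constituent of degree below sixteen is trivial on the centre of the kernel. -/
theorem Core.A_of_small {f : G → ℂ} (hf : IsIrrCharacter G f) (hC : S.Const f) {d : ℕ}
    (hd : f 1 = d) (h16 : d < 16) (o : Cen t) (ho : o ∈ S.A) : f o = f 1 := by
  classical
  have hfc := IsIrrCharacter.isClassFunction hf
  obtain ⟨Q, hcard, h8, hQ⟩ := S.exists_Q
  have := Fintype.ofFinite Q
  have := Fintype.ofFinite S.A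
  have : Fintype (IrrCharacter S.A) := Fintype.ofFinite _
  set w := classInner f S.five.A5 + classInner f S.five.A6
  obtain ⟨hq8, -⟩ := S.sum_Q hcard hQ fun _ => 0
  set f0 : S.A → ℂ := fun a => f ((a : Cen t) : G) with hf0
  have hf0c : IsCharacter S.A f0 :=
    IsCharacter.restrict (IsCharacter.restrict (IsIrrCharacter.isCharacter hf) (Cen t)) _
  obtain ⟨m, hm, hmφ⟩ := IsCharacter.decompose hf0c
  have hcommA : ∀ a b : S.A, a * b = b * a := fun a b =>
    Subtype.ext ((S.mem_A.1 b.2).2 a (S.mem_A.1 a.2).1)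
  have hqA : ∀ (q : Q) (a : S.A), Commute (q : Cen t) a := fun q a =>
    S.centQ q a (S.mem_A.1 a.2).1 (h8 _ q.2) (hq8 q)
  let μ : Q × S.A →* Cen t := MonoidHom.noncommCoprod Q.subtype S.A.subtype hqA
  obtain ⟨k3, hk3, hk3'⟩ := three_exists
  obtain ⟨b, rfl⟩ := S.φ_surj k3
  have hb1 : S.π b ≠ 1 := fun e => hk3 (S.mem_ker_iff.1 (MonoidHom.mem_ker.2 e))
  have hb3 : S.π b ^ 3 = 1 := by
    rw [← map_pow, ← MonoidHom.mem_ker, S.mem_ker_iff, pow_three, S.φ_mul, S.φ_mul]
    exact hk3'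
  let τ : S.A →* S.A :=
    { toFun := fun a => ⟨b * a * b⁻¹, S.conj_A a.2⟩
      map_one' := Subtype.ext (by simp)
      map_mul' := fun a a' => Subtype.ext (by simp [mul_assoc]) }
  have hzero : ∀ φ : IrrCharacter S.A, (φ : S.A → ℂ) ≠ 1 → m φ = 0 := by
    intro φ hφ
    obtain ⟨l, hl⟩ := exists_hom_of_degree_one (IsIrrCharacter.isCharacter φ.2)
      (apply_one_eq_one_of_comm hcommA φ)
    let ψ : IrrCharacter S.A := ⟨_, isIrrCharacter_of_hom (l.comp τ)⟩
    have hne : φ ≠ ψ := by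
      intro e
      have hinj : Function.Injective fun a : S.A => τ a * a⁻¹ := by
        intro a a' ea
        replace ea : τ a * a⁻¹ = τ a' * a'⁻¹ := ea
        have h1 : τ (a'⁻¹ * a) = a'⁻¹ * a := by
          rw [map_mul, map_inv]
          calc (τ a')⁻¹ * τ a = (τ a')⁻¹ * (τ a * a⁻¹) * a := by group
            _ = (τ a')⁻¹ * (τ a' * a'⁻¹) * a := by rw [ea]
            _ = _ := by group
        have h2 := congrArg Subtype.val h1
        simp only [τ, MonoidHom.coe_mk, OneHom.coe_mk] at h2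
        have h3 := S.fpf b _ (S.mem_A.1 (a'⁻¹ * a).2).1 hb1 hb3 (mul_inv_eq_iff_eq_mul.1 h2)
        exact (inv_mul_eq_one.1 (Subtype.ext h3)).symm
      apply hφ
      funext a
      obtain ⟨c, rfl⟩ := Finite.surjective_of_injective hinj a
      have h1 : l (τ c) = l c := by
        have := congrFun (congrArg Subtype.val e) c
        rw [← hl] at this
        exact this.symm
      show (φ : S.A → ℂ) (τ c * c⁻¹) = 1
      rw [← hl, map_mul, h1, ← map_mul, mul_inv_cancel, map_one]
    have hτ : Function.Bijective τ := by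
      refine Finite.injective_iff_bijective.1 fun a a' ea => ?_
      have := congrArg Subtype.val ea
      exact Subtype.ext (mul_left_cancel (mul_right_cancel this))
    have hψ : m ψ = m φ := by
      have h : classInner f0 (ψ : S.A → ℂ) = classInner f0 (φ : S.A → ℂ) := by
        rw [← hl, classInner, classInner]
        congr 1
        refine Fintype.sum_bijective τ hτ _ _ fun a => ?_
        have e : f0 (τ a) = f0 a := by
          show f ((b * (a : Cen t) * b⁻¹ : Cen t) : G) = f ((a : Cen t) : G)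
          simpa using hfc ((a : Cen t) : G) (b : G)
        rw [e]
        rfl
      rw [hmφ, hmφ] at h
      exact_mod_cast h
    -- divisibility by eight
    obtain ⟨j, hj⟩ := classInner_gc_int
      (IsGeneralizedCharacter.comp_hom (IsGeneralizedCharacter.restrict (isGC_of_irr hf) (Cen t)) μ)
      (isGC_of_isCharacter (isCharacter_of_hom (l.comp (MonoidHom.snd Q S.A))))
    have hsum0 : ∑ a : S.A, conj (l a) = 0 := by
      have h := classInner_irr_of_ne isIrrCharacter_one φ.2 (Ne.symm hφ)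
      rw [classInner] at h
      have := (mul_eq_zero.mp h).resolve_left (inv_ne_zero (Nat.cast_ne_zero.2 Nat.card_pos.ne'))
      simpa [← hl] using this
    have h8m : (m φ : ℂ) = 8 * (j : ℂ) := by
      rw [← hj, ← hmφ, ← hl]
      simp only [classInner, Function.comp_apply, MonoidHom.coe_comp, MonoidHom.coe_snd,
        Nat.card_prod, hcard]
      rw [Fintype.sum_prod_type_right]
      have e : ∀ a : S.A, ∑ q : Q, f ((μ (q, a) : Cen t) : G) * conj (l a) =
          (f0 a + (f t + 6 * w)) * conj (l a) := by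
        intro a
        rw [← Finset.sum_mul]
        congr 1
        rw [Finset.sum_congr rfl fun q _ =>
          show f ((μ (q, a) : Cen t) : G) = _ from S.value_shift hfc hC (S.mem_A.1 a.2).1 h8 (hq8 q),
          (S.sum_Q hcard hQ fun k => if k = k1 then f0 a else if k = kz then f t else w).2, sum_q8,
          add_assoc]
      rw [Finset.sum_congr rfl fun a _ => e a]
      simp only [add_mul, Finset.sum_add_distrib, ← Finset.mul_sum, hsum0, mul_zero, add_zero]
      have : (Nat.card S.A : ℂ) ≠ 0 := Nat.cast_ne_zero.2 Nat.card_pos.ne'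
      push_cast
      field_simp
    have h8' : (m φ : ℤ) = 8 * j := int_of_cast (by push_cast; exact h8m)
    have hdeg : (d : ℕ) = ∑ φ : IrrCharacter S.A, m φ := by
      have h := congrFun hm 1
      rw [show f0 1 = (d : ℂ) by simp [f0, hd]] at h
      simp only [Finset.sum_apply, Pi.smul_apply, smul_eq_mul] at h
      rw [Finset.sum_congr rfl fun φ _ => by rw [apply_one_eq_one_of_comm hcommA φ, mul_one]] at h
      exact_mod_cast h
    have hle : ∑ χ ∈ ({φ, ψ} : Finset (IrrCharacter S.A)), m χ ≤ d :=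
      hdeg ▸ Finset.sum_le_sum_of_subset (Finset.subset_univ _)
    rw [Finset.sum_pair hne, hψ] at hle
    omega
  have hconst : f0 ⟨o, ho⟩ = f0 1 := by
    rw [hm, Finset.sum_apply, Finset.sum_apply]
    refine Finset.sum_congr rfl fun φ _ => ?_
    by_cases h : (φ : S.A → ℂ) = 1
    · simp [h]
    · simp [hzero φ h]
  simpa [f0] using hconst

/-- The kernel is trivial. -/
theorem Core.ker_eq_bot [IsSimpleGroup G] : S.π.ker = ⊥ := by
  classical
  have hker : ∀ χ : G → ℂ, IsIrrCharacter G χ → χ ≠ 1 → χ t ≠ χ 1 := fun χ hχ h1 =>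
    ne_at_of_simple S.ne_one hχ h1
  obtain ⟨χ, sχ, oχ, hC, d, hd, hd16⟩ := Core.degree_dichotomy S hker
  by_contra hbot
  haveI := S.nil
  haveI : Nontrivial S.π.ker := (Subgroup.nontrivial_iff_ne_bot _).2 hbot
  obtain ⟨z, hz, hz1⟩ := (Subgroup.bot_or_exists_ne_one
    (Subgroup.center S.π.ker)).resolve_left (Group.IsNilpotent.center_ne_bot _)
  have hzA : (z : Cen t) ∈ S.A := S.mem_A.2
    ⟨z.2, fun k hk => congrArg Subtype.val (Subgroup.mem_center_iff.1 hz ⟨k, hk⟩)⟩
  have hne' : ((z : Cen t) : G) ≠ 1 := fun h => hz1 (Subtype.ext (Subtype.ext h))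
  have fin : ∀ (f : G → ℂ), IsIrrCharacter G f → classInner f 1 = 0 → S.Const f →
      ∀ k : ℤ, f 1 = k → k.natAbs < 16 → False := by
    intro f hf h1 hCf k hk hk16
    obtain ⟨n, hn, he⟩ := IsIrrCharacter.exists_degree hf
    have : k = n := int_of_cast (by rw [← hk, he]; norm_num)
    subst this
    refine ne_at_of_simple hne' hf (fun e => ?_)
      (S.A_of_small hf hCf he (by simpa using hk16) _ hzA)
    rw [e, one_norm] at h1
    exact one_ne_zero h1
  rcases sχ with h | h
  · exact fin χ h oχ hC d hd hd16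
  · refine fin (-χ) h (by rw [classInner_neg_left, oχ, neg_zero]) (Core.Const.neg S hC) (-d) ?_
      (by simpa using hd16)
    simp [hd]

omit [Fintype (Cen t)] in
include S in
/-- The centralizer is `GL(2,3)`. -/
theorem Core.centralizer_equiv [IsSimpleGroup G] :
    Nonempty (Cen t ≃* GL (Fin 2) (ZMod 3)) := by
  have := Fintype.ofFinite (Cen t)
  exact ⟨MulEquiv.ofBijective S.π ⟨(MonoidHom.ker_eq_bot_iff _).mp S.ker_eq_bot, S.surj⟩⟩

end Cfsg.Agent.SelfCentSix
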