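import Cfsg.Agent.Lib.GL23Core.Main
import Cfsg.Agent.S0942
import Cfsg.Agent.S0947

/-!
# Involution centralizers with an odd kernel over `GL(2,3)`: setting

`Core t` : `C_G(t)` maps onto `GL(2,3)` with a nilpotent kernel of odd order, centralized by the preimage
2-elements of the quaternion group, on which elements of order three modulo the kernel are fixed-point-free.

* `Core.five` : the five induced virtual characters
-/

set_option autoImplicit false
set_option linter.unusedSectionVars false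
set_option linter.style.haveILetI false

namespace Cfsg.Agent.SelfCentSix

open Cfsg Cfsg.Agent.Char Cfsg.Agent.Coherence Cfsg.Agent.GL23Cent Cfsg.Agent.GL23Core
open scoped ComplexConjugate

/-- The hypotheses on the centralizer of `t`. -/
structure Core {G : Type*} [Group G] (t : G) where
  ord : orderOf t = 2
  π : Cen t →* GL (Fin 2) (ZMod 3)
  surj : Function.Surjective π
  odd : Odd (Nat.card π.ker)
  fpf : ∀ b o : Cen t, o ∈ π.ker → π b ≠ 1 → π b ^ 3 = 1 → Commute b o → o = 1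
  centQ : ∀ b o : Cen t, o ∈ π.ker → b ^ 8 = 1 → q8 (tab.φ (π b)) → Commute b o
  nil : Group.IsNilpotent π.ker
  fused : ∀ p : G, orderOf p = 2 → IsConj t p

variable {G : Type*} [Group G] {t : G} (S : Core t)

/-- The index of an element of the centralizer. -/
noncomputable def Core.φ (x : Cen t) : Fin 48 := tab.φ (S.π x)

theorem Core.φ_mul (x y : Cen t) : S.φ (x * y) = mul (S.φ x) (S.φ y) := by
  rw [Core.φ, map_mul, tab.φ_mul]; rfl

theorem Core.φ_one : S.φ 1 = k1 := by rw [Core.φ, map_one, tab.φ_one]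

theorem Core.φ_eq_iff {x y : Cen t} : S.φ x = S.φ y ↔ S.π x = S.π y := tab.φ.injective.eq_iff

theorem Core.φ_surj : Function.Surjective S.φ := fun k => by
  obtain ⟨a, rfl⟩ := tab.φ.surjective k
  obtain ⟨x, rfl⟩ := S.surj a
  exact ⟨x, rfl⟩

theorem Core.mem_ker_iff {x : Cen t} : x ∈ S.π.ker ↔ S.φ x = k1 := by
  rw [MonoidHom.mem_ker, Core.φ, tab.eq_one_iff]


include S in
theorem Core.ne_one : t ≠ 1 := fun h => by
  have := S.ord; rw [h, orderOf_one] at this; omega

include S in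
theorem Core.tC_sq : tC t * tC t = 1 :=
  Subtype.ext (by show t * t = 1; rw [← sq, ← S.ord, pow_orderOf_eq_one])

include S in
theorem Core.tC_comm (x : Cen t) : x * tC t = tC t * x := Subtype.ext (mem_cent_iff.mp x.2)

variable [Finite G]

theorem Core.eq_one_of_ker {o : Cen t} (ho : o ∈ S.π.ker) (h2 : o * o = 1) : o = 1 := by
  obtain ⟨k, hk⟩ := S.odd
  have h : (⟨o, ho⟩ : S.π.ker) ^ Nat.card S.π.ker = 1 := pow_card_eq_one'
  have h' : o ^ Nat.card S.π.ker = 1 := by simpa using congrArg Subtype.val h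
  rwa [hk, pow_succ, pow_mul, sq, h2, one_pow, one_mul] at h'

theorem Core.φ_tC : S.φ (tC t) = kz := by
  refine kz_unique _ ?_ ?_ ?_
  · rw [← S.φ_mul, S.tC_sq, S.φ_one]
  · intro h
    exact S.ne_one (congrArg Subtype.val (S.eq_one_of_ker (S.mem_ker_iff.mpr h) S.tC_sq))
  · intro k
    obtain ⟨x, rfl⟩ := S.φ_surj k
    rw [← S.φ_mul, ← S.φ_mul, S.tC_comm]

theorem Core.eq_tC {x : Cen t} (h : S.φ x = kz) (hx : x * x = 1) : x = tC t := by
  have h1 : x * tC t = 1 := by
    refine S.eq_one_of_ker (S.mem_ker_iff.mpr (by rw [S.φ_mul, h, S.φ_tC]; exact kz_sq.1)) ?_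
    calc x * tC t * (x * tC t) = x * (tC t * x) * tC t := by group
      _ = x * (x * tC t) * tC t := by rw [← S.tC_comm x]
      _ = (x * x) * (tC t * tC t) := by group
      _ = 1 := by rw [hx, S.tC_sq, one_mul]
  rw [eq_inv_of_mul_eq_one_left h1, inv_eq_of_mul_eq_one_right S.tC_sq]

/-- A power of a special element is `t`. -/
theorem Core.pow_eq_t (x : Cen t) (hx : inD (S.φ x)) : ∃ N : ℕ, x ^ N = tC t := by
  obtain ⟨n, hn⟩ : ∃ n : ℕ, S.φ (x ^ n) = kz := by
    rcases hx with h | h | h | h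
    · exact ⟨1, by rw [pow_one]; exact h⟩
    · exact ⟨2, by rw [sq, S.φ_mul]; exact h⟩
    · exact ⟨3, by rw [pow_succ', sq, S.φ_mul, S.φ_mul]; exact h⟩
    · exact ⟨4, by rw [show (4 : ℕ) = 2 + 2 from rfl, pow_add, sq, S.φ_mul, S.φ_mul]; exact h⟩
  have ho : tC t * x ^ n ∈ S.π.ker := S.mem_ker_iff.mpr (by
    rw [S.φ_mul, hn, S.φ_tC]; exact kz_sq.1)
  set o := tC t * x ^ n with ho'
  have hxo : x ^ n = tC t * o := by rw [ho', ← mul_assoc, S.tC_sq, one_mul]
  have hc : Commute (tC t) o := (S.tC_comm o).symm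
  have h : o ^ Nat.card S.π.ker = 1 := by
    simpa using congrArg Subtype.val (pow_card_eq_one' (x := (⟨o, ho⟩ : S.π.ker)))
  obtain ⟨k, hk⟩ := S.odd
  refine ⟨n * Nat.card S.π.ker, ?_⟩
  rw [pow_mul, hxo, hc.mul_pow, h, mul_one, hk, pow_succ, pow_mul, sq, S.tC_sq, one_pow, one_mul]

include S in
/-- The special classes are trivial-intersection. -/
theorem Core.special {g : G} {x y : Cen t} (hx : inD (S.φ x)) (hy : inD (S.φ y))
    (h : g * x * g⁻¹ = y) : g ∈ Cen t := by
  obtain ⟨N, hN⟩ := S.pow_eq_t x hx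
  obtain ⟨M, hM⟩ := S.pow_eq_t y hy
  have hN' : (x : G) ^ N = t := by simpa [tC] using congrArg Subtype.val hN
  have hM' : (y : G) ^ M = t := by simpa [tC] using congrArg Subtype.val hM
  have e : g * t * g⁻¹ = t := by
    refine eq_of_involutions_zpowers (y := (y : G)) (isOfFinOrder_of_finite _) ?_ ?_ ?_ S.ord
    · exact ⟨N, by simp only [zpow_natCast]; rw [← h, conj_pow, hN']⟩
    · exact ⟨M, by simp only [zpow_natCast]; exact hM'⟩
    · rw [← MulAut.conj_apply, MulEquiv.orderOf_eq, S.ord]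
  exact mem_cent_iff.mpr (mul_inv_eq_iff_eq_mul.mp e)

/-! Inflated table functions. -/

/-- Pull a table function back to the centralizer. -/
noncomputable def Core.F (a : Fin 48 → ZS) : Cen t → ℂ := fun x => ι (a (S.φ x))

omit [Finite G] in
theorem Core.F_apply (a : Fin 48 → ZS) (x : Cen t) : S.F a x = ι (a (S.φ x)) := rfl

omit [Finite G] in
theorem Core.F_gc {a : Fin 48 → ZS} (h : tab.GC a) : IsGeneralizedCharacter (Cen t) (S.F a) :=
  IsGeneralizedCharacter.comp_hom h S.π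

omit [Finite G] in
theorem Core.F_conj {a : Fin 48 → ZS} (h : tab.GC a) (x y : Cen t) :
    S.F a (y * x * y⁻¹) = S.F a x := isGC_isClassFunction (S.F_gc h) x y

section fib

variable [Fintype (Cen t)]

/-- Sums of fibre-constant functions. -/
theorem Core.sum_eq {M : Type*} [AddCommMonoid M] (f : Fin 48 → M) :
    ∑ x : Cen t, f (S.φ x) = Nat.card S.π.ker • ∑ k, f k := by
  classical
  rw [← Finset.sum_fiberwise (Finset.univ : Finset (Cen t)) S.φ (fun x => f (S.φ x)),
    Finset.smul_sum]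
  refine Finset.sum_congr rfl fun k _ => ?_
  rw [Finset.sum_congr rfl fun x hx => by rw [(Finset.mem_filter.1 hx).2], Finset.sum_const]
  congr 1
  obtain ⟨z, rfl⟩ := S.φ_surj k
  rw [← Fintype.card_subtype, ← Nat.card_eq_fintype_card]
  refine Nat.card_congr
    { toFun := fun x => ⟨z⁻¹ * x.1, by
        rw [MonoidHom.mem_ker, map_mul, map_inv, S.φ_eq_iff.mp x.2, inv_mul_cancel]⟩
      invFun := fun o => ⟨z * o.1, S.φ_eq_iff.mpr (by
        rw [map_mul, MonoidHom.mem_ker.mp o.2, mul_one])⟩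
      left_inv := fun x => by simp
      right_inv := fun o => by simp }

theorem Core.card_cen : Nat.card (Cen t) = 48 * Nat.card S.π.ker := by
  have h := S.sum_eq (fun _ => (1 : ℕ))
  simpa [mul_comm, Fintype.card_fin] using h

theorem Core.inner_F (a b : Fin 48 → ZS) {n m : ℤ} (h : ip a b = (n : ZS)) (hn : n = 48 * m) :
    classInner (S.F a) (S.F b) = m := by
  rw [classInner]
  have e : ∀ x : Cen t, S.F a x * conj (S.F b x) = ι (a (S.φ x) * star (b (S.φ x))) := fun x => by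
    rw [map_mul, ← conj_ι]; rfl
  rw [Finset.sum_congr rfl fun x _ => e x, S.sum_eq (fun k => ι (a k * star (b k))), ← map_sum]
  change _ * (_ • ι (ip a b)) = _
  rw [h, ι_int, hn, S.card_cen, nsmul_eq_mul]
  have : (Nat.card S.π.ker : ℂ) ≠ 0 := Nat.cast_ne_zero.2 Nat.card_pos.ne'
  push_cast
  field_simp

theorem Core.F_one : S.F one = 1 := funext fun _ => map_one ι

variable [Fintype G]

/-- Induced functions agree with the original ones on the special classes. -/
theorem Core.indFun_eq {a : Fin 48 → ZS} (ha : tab.GC a) (hs : Supp a) (x : Cen t)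
    (hx : inD (S.φ x)) : indFun (Cen t) (S.F a) x = S.F a x := by
  classical
  have hout : ∀ g : G, g ∉ Cen t → extendByZero (Cen t) (S.F a) (g⁻¹ * x * g) = 0 := by
    intro g hg
    rw [extendByZero_eq]
    split_ifs with hm
    · rw [S.F_apply, hs _ ?_, map_zero]
      intro hD
      apply hg
      have := S.special (g := g⁻¹) (x := x) (y := ⟨_, hm⟩) hx hD (by simp)
      simpa using (Cen t).inv_mem this
    · rfl
  have hin : ∀ g : Cen t, extendByZero (Cen t) (S.F a) ((g : G)⁻¹ * x * g) = S.F a x := by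
    intro g
    have e : (g : G)⁻¹ * x * g = ((g⁻¹ * x * g : Cen t) : G) := by simp
    rw [e, extendByZero_coe]
    simpa using S.F_conj ha x g⁻¹
  rw [indFun, ← Finset.sum_filter_add_sum_filter_not Finset.univ (· ∈ Cen t),
    Finset.sum_eq_zero (s := Finset.univ.filter fun g => ¬ g ∈ Cen t) fun g hg =>
      hout g (Finset.mem_filter.1 hg).2, add_zero,
    Finset.sum_subtype (p := (· ∈ Cen t)) _ (fun g => by simp)
      (fun g => extendByZero (Cen t) (S.F a) (g⁻¹ * x * g)),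
    Finset.sum_congr rfl fun g _ => hin g, Finset.sum_const, Finset.card_univ, nsmul_eq_mul,
    ← Nat.card_eq_fintype_card]
  have : (Nat.card (Cen t) : ℂ) ≠ 0 := Nat.cast_ne_zero.2 Nat.card_pos.ne'
  field_simp

theorem Core.ind_inner {a b : Fin 48 → ZS} (ha : tab.GC a) (hs : Supp a)
    (hb : Supp b) {n m : ℤ} (h : ip a b = (n : ZS)) (hn : n = 48 * m) :
    classInner (indFun (Cen t) (S.F a)) (indFun (Cen t) (S.F b)) = m := by
  rw [frobenius_reciprocity' _ _ (indFun_isClassFunction _ _), ← S.inner_F a b h hn, classInner,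
    classInner]
  congr 1
  refine Finset.sum_congr rfl fun x _ => ?_
  by_cases hx : inD (S.φ x)
  · simp only [S.indFun_eq ha hs x hx]
  · simp [S.F_apply, hb _ hx]

theorem Core.ind_inner_one (a : Fin 48 → ZS) {n m : ℤ} (h : ip a one = (n : ZS))
    (hn : n = 48 * m) : classInner (indFun (Cen t) (S.F a)) 1 = m := by
  rw [frobenius_reciprocity _ _ (IsCharacter.isClassFunction isCharacter_one),
    ← S.inner_F a one h hn, S.F_one]
  rfl

theorem Core.ind_one_zero {a : Fin 48 → ZS} (hs : Supp a) : indFun (Cen t) (S.F a) 1 = 0 := by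
  rw [indFun_one_apply, S.F_apply, S.φ_one, hs _ k1_not_inD, map_zero, mul_zero]

/-- The five induced virtual characters. -/
noncomputable def Core.five : Five G where
  A1 := indFun (Cen t) (S.F a1)
  B1 := indFun (Cen t) (S.F b1)
  B2 := indFun (Cen t) (S.F b2)
  A5 := indFun (Cen t) (S.F a5)
  A6 := indFun (Cen t) (S.F a6)
  gA1 := IsGeneralizedCharacter.indFun (S.F_gc tab.gc_a1)
  gB1 := IsGeneralizedCharacter.indFun (S.F_gc tab.gc_b1)
  gB2 := IsGeneralizedCharacter.indFun (S.F_gc tab.gc_b2)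
  gA5 := IsGeneralizedCharacter.indFun (S.F_gc tab.gc_a5)
  gA6 := IsGeneralizedCharacter.indFun (S.F_gc tab.gc_a6)
  nA1 := by
    rw [S.ind_inner tab.gc_a1 supp_a1 supp_a1 (n := 192) (m := 4) (mod_cast ips.2.2.1) rfl]; norm_num
  nB1 := by
    rw [S.ind_inner tab.gc_b1 supp_b1 supp_b1 (n := 96) (m := 2) (mod_cast ips.1) rfl]; norm_num
  nB2 := by
    rw [S.ind_inner tab.gc_b2 supp_b2 supp_b2 (n := 96) (m := 2) (mod_cast ips.2.1) rfl]; norm_num
  nA5 := by
    rw [S.ind_inner tab.gc_a5 supp_a5 supp_a5 (n := 144) (m := 3) (mod_cast ips.2.2.2.1) rfl]; norm_num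
  nA6 := by
    rw [S.ind_inner tab.gc_a6 supp_a6 supp_a6 (n := 144) (m := 3) (mod_cast ips.2.2.2.2.1) rfl]; norm_num
  i21 := by
    rw [S.ind_inner tab.gc_b2 supp_b2 supp_b1 (n := 48) (m := 1) (mod_cast ips.2.2.2.2.2.1) rfl]; norm_num
  i51 := by
    rw [S.ind_inner tab.gc_a5 supp_a5 supp_b1 (n := 48) (m := 1) (mod_cast ips.2.2.2.2.2.2.1) rfl]; norm_num
  i52 := by
    rw [S.ind_inner tab.gc_a5 supp_a5 supp_b2 (n := 48) (m := 1) (mod_cast ips.2.2.2.2.2.2.2.1) rfl]; norm_num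
  i61 := by
    rw [S.ind_inner tab.gc_a6 supp_a6 supp_b1 (n := 48) (m := 1) (mod_cast ips.2.2.2.2.2.2.2.2.1) rfl]; norm_num
  i62 := by
    rw [S.ind_inner tab.gc_a6 supp_a6 supp_b2 (n := 48) (m := 1) (mod_cast ips.2.2.2.2.2.2.2.2.2.1) rfl]; norm_num
  i65 := by
    rw [S.ind_inner tab.gc_a6 supp_a6 supp_a5 (n := 48) (m := 1) (mod_cast ips.2.2.2.2.2.2.2.2.2.2.1) rfl]; norm_num
  i11 := by
    rw [S.ind_inner tab.gc_a1 supp_a1 supp_b1 (n := -48) (m := -1) (mod_cast ips.2.2.2.2.2.2.2.2.2.2.2.1) rfl]; norm_num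
  i12 := by
    rw [S.ind_inner tab.gc_a1 supp_a1 supp_b2 (n := 0) (m := 0) (mod_cast ips.2.2.2.2.2.2.2.2.2.2.2.2.1) rfl]; norm_num
  i15 := by
    rw [S.ind_inner tab.gc_a1 supp_a1 supp_a5 (n := 48) (m := 1) (mod_cast ips.2.2.2.2.2.2.2.2.2.2.2.2.2.1) rfl]; norm_num
  i16 := by
    rw [S.ind_inner tab.gc_a1 supp_a1 supp_a6 (n := 48) (m := 1) (mod_cast ips.2.2.2.2.2.2.2.2.2.2.2.2.2.2.1) rfl]; norm_num
  oB1 := by
    rw [S.ind_inner_one b1 (n := 0) (m := 0) (mod_cast ips.2.2.2.2.2.2.2.2.2.2.2.2.2.2.2.1) rfl]; norm_num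
  oB2 := by
    rw [S.ind_inner_one b2 (n := 0) (m := 0) (mod_cast ips.2.2.2.2.2.2.2.2.2.2.2.2.2.2.2.2.1) rfl]; norm_num
  oA1 := by
    rw [S.ind_inner_one a1 (n := 48) (m := 1) (mod_cast ips.2.2.2.2.2.2.2.2.2.2.2.2.2.2.2.2.2.1) rfl]; norm_num
  oA5 := by
    rw [S.ind_inner_one a5 (n := 48) (m := 1) (mod_cast ips.2.2.2.2.2.2.2.2.2.2.2.2.2.2.2.2.2.2.1) rfl]; norm_num
  oA6 := by
    rw [S.ind_inner_one a6 (n := 0) (m := 0) (mod_cast ips.2.2.2.2.2.2.2.2.2.2.2.2.2.2.2.2.2.2.2) rfl]; norm_num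
  zB1 := S.ind_one_zero supp_b1
  zB2 := S.ind_one_zero supp_b2
  zA5 := S.ind_one_zero supp_a5
  zA6 := S.ind_one_zero supp_a6

end fib

end Cfsg.Agent.SelfCentSix
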