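import Cfsg.Agent.Lib.SelfCentSix.CycleE

/-!
# The symmetric-group layer: `|Q| = 32`

`Top.card_eq` : a group `Q` of order at least 32 has order 32.
-/

set_option autoImplicit false
set_option linter.unusedSectionVars false
set_option linter.style.haveILetI false

namespace Cfsg.Agent.SelfCentSix

open Subgroup SelfCentThree
open scoped commutatorElement

variable {G : Type*} [Group G] [Finite G] {u x : G}

namespace Turn

variable {h : Hyp u x} {Q D : Subgroup G} {S : Sylow 2 G} {s v y : G} {T : Top h Q D S s}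
  {F : Frame h Q S v} (Y : Turn T F y)
include Y

theorem card_le {g : G} (hgR : g ∈ F.R) (hgQ : g ∉ Q) (hg : ∀ r ∈ F.R, F.InV ⁅g, r⁆) :
    Nat.card Q ≤ 32 := by
  have hRS : F.R ≤ (S : Subgroup G) := fun a ha => (F.mem_R.1 ha).1
  have h1 : Nat.card Q ≤ Nat.card F.R := by
    obtain ⟨k, hk⟩ := card_dvd_of_le T.le_S
    have hne : k ≠ 1 := fun e => by
      rw [e, mul_one] at hk
      exact T.s_not (eq_of_le_of_card_ge T.le_S hk.le ▸ T.s_mem)
    have hk0 : k ≠ 0 := fun e => by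
      rw [e, mul_zero] at hk
      exact (Nat.card_pos (α := (S : Subgroup G))).ne' hk
    have := Nat.mul_le_mul_left (Nat.card Q) (show 2 ≤ k by omega)
    have := F.card_R
    omega
  have h2 := T.card_le_two hRS
  let A : Subgroup G :=
    { carrier := {m | m ∈ F.R ⊓ Q ∧ ⁅g, m⁆ ∈ zpowers u}
      one_mem' := ⟨one_mem _, by rw [commutatorElement_one_right]; exact one_mem _⟩
      mul_mem' := fun {a b} ha hb => ⟨mul_mem ha.1 hb.1, by
        rw [Y.comm_mul_R (hg b hb.1.1) ha.1.1]; exact mul_mem ha.2 hb.2⟩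
      inv_mem' := fun {a} ha => ⟨inv_mem ha.1, by
        have e := Y.comm_mul_R (hg a⁻¹ (inv_mem ha.1.1)) ha.1.1
        rw [mul_inv_cancel, commutatorElement_one_right] at e
        rw [eq_inv_of_mul_eq_one_right e.symm]
        exact inv_mem ha.2⟩ }
  have h3 : Nat.card (F.R ⊓ Q : Subgroup G) ≤ 2 * Nat.card A := by
    refine card_le_two_mul fun a ha b hb haA hbA =>
      ⟨mul_mem (inv_mem ha) hb, ?_⟩
    have key : ∀ m ∈ F.R ⊓ Q, m ∉ A → v⁻¹ * ⁅g, m⁆ ∈ zpowers u := fun m hm hmA =>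
      (hg m hm.1).resolve_left fun e => hmA ⟨hm, e⟩
    have e := Y.comm_mul_R (g := g) (a := a) (b := a⁻¹ * b) (hg _ (mul_mem (inv_mem ha.1) hb.1)) ha.1
    rw [mul_inv_cancel_left] at e
    have := mul_mem (inv_mem (key a ha haA)) (key b hb hbA)
    rw [e] at this
    convert this using 1
    group
  have h4 := T.bound (F.mem_R.1 hgR).1 hgQ (A := A) (fun a ha => ha.1.2) fun a ha => ha.2
  nlinarith

theorem card_eq_aux (h32 : 32 < Nat.card Q) : F.IsE (y * (x * v * x⁻¹) * y⁻¹) := by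
  set w := x * v * x⁻¹ with hw
  set w1 := y * w * y⁻¹ with hw1
  set w2 := y * w1 * y⁻¹ with hw2
  have yw2 : y * w2 * y⁻¹ = w := by
    calc y * w2 * y⁻¹ = y ^ 3 * w * (y ^ 3)⁻¹ := by simp only [w2, w1, pow_three]; group
      _ = w := by rw [Y.y3]; group
  have hw1R : w1 ∈ F.R := Y.yR _ Y.w_R
  have hw2R : w2 ∈ F.R := Y.yR _ hw1R
  have inV1 : ∀ r ∈ F.R, F.InV ⁅w1, r⁆ := fun r hr => Y.inV_conj (Or.inl rfl) hr
  have inV2 : ∀ r ∈ F.R, F.InV ⁅w2, r⁆ := fun r hr => Y.inV_conj (Or.inr rfl) hr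
  have hw1Q : w1 ∈ Q := by_contra fun hn => by
    have := Y.card_le hw1R hn inV1
    omega
  have hw2Q : w2 ∈ Q := by_contra fun hn => by
    have := Y.card_le hw2R hn inV2
    omega
  -- `w, w1, w2` commute
  have hc : Commute w w1 := by
    rcases h.mem_Z_iff.1 (F.planeW hw1Q) with e | e
    · exact commutatorElement_eq_one_iff_commute.1 e
    exfalso
    have e2 : ⁅w2, w⁆ ∈ zpowers u := comm_symm_mem (F.planeW hw2Q)
    have e3 : y * ⁅w2, w⁆ * y⁻¹ = ⁅w, w1⁆ := by rw [conj_comm, yw2]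
    rcases h.mem_Z_iff.1 e2 with e' | e' <;> rw [e', e] at e3
    · rw [mul_one, mul_inv_cancel] at e3; exact h.u_ne e3.symm
    · rw [Y.yu] at e3; exact F.v_ne e3
  have hconj : ∀ {a b : G}, Commute a b → Commute (y * a * y⁻¹) (y * b * y⁻¹) := fun hab => by
    simpa using hab.map (MulAut.conj y).toMonoidHom
  have hc12 : Commute w1 w2 := hconj hc
  have hc20 : Commute w2 w := by
    have := hconj hc12
    rwa [← hw2, yw2] at this
  have hw1D : w1 ∈ F.D := Y.mem_D_of hw1R hc.symm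
  have hw2D : w2 ∈ F.D := Y.mem_D_of hw2R hc20
  have hZ1 : ∀ d ∈ F.D, ⁅w1, d⁆ ∈ zpowers u := fun d hd =>
    F.mem_Z_of_inV F.D_le F.D_invar hw1Q (fun e he => inV1 e (F.D_le_R he)) hd
  have hZ2 : ∀ d ∈ F.D, ⁅w2, d⁆ ∈ zpowers u := fun d hd =>
    F.mem_Z_of_inV F.D_le F.D_invar hw2Q (fun e he => inV2 e (F.D_le_R he)) hd
  have hsq : ∀ {a : G}, a * a = 1 → y * a * y⁻¹ * (y * a * y⁻¹) = 1 := fun {a} ha => by
    rw [show y * a * y⁻¹ * (y * a * y⁻¹) = y * (a * a) * y⁻¹ by group, ha, mul_one, mul_inv_cancel]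
  have hw12 : w1 * w1 = 1 := hsq (by rw [hw]; exact F.w2)
  have hw22 : w2 * w2 = 1 := hsq hw12
  by_cases hall : ∀ d ∈ F.D, Commute d w1
  · exact F.isE_of_central hw1D hw12 hall
  exfalso
  push Not at hall
  obtain ⟨d0, hd0, hd0'⟩ := hall
  have hyD1 : ∀ d ∈ F.D, ⁅w2, d⁆ = 1 → y * d * y⁻¹ ∈ F.D := fun d hd e => by
    refine Y.mem_D_of (Y.yR d (F.D_le_R hd)) ?_
    have := hconj (commutatorElement_eq_one_iff_commute.1 e).symm
    rwa [yw2] at this
  have hyD2 : ∀ d ∈ F.D, ⁅w1, d⁆ = 1 → y * (y * d * y⁻¹) * y⁻¹ ∈ F.D := fun d hd e => by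
    refine Y.mem_D_of (Y.yR _ (Y.yR d (F.D_le_R hd))) ?_
    have := hconj (hconj (commutatorElement_eq_one_iff_commute.1 e).symm)
    rwa [← hw2, yw2] at this
  -- the two characters agree on `D`
  have hchi : ∀ d ∈ F.D, ⁅w1, d⁆ = ⁅w2, d⁆ := by
    intro d hd
    rcases h.mem_Z_iff.1 (hZ1 d hd) with e1 | e1 <;> rcases h.mem_Z_iff.1 (hZ2 d hd) with e2 | e2
    · rw [e1, e2]
    · exfalso
      have hm := hZ1 _ (hyD2 d hd e1)
      have e3 : ⁅w1, y * (y * d * y⁻¹) * y⁻¹⁆ = y * (y * ⁅w2, d⁆ * y⁻¹) * y⁻¹ := by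
        rw [conj_comm, conj_comm, yw2, ← hw1]
      rw [e3, e2, Y.yu, Y.yv] at hm
      refine F.v_not_Z ?_
      have := mul_mem (inv_mem (mem_zpowers u)) hm
      rwa [inv_mul_cancel_left] at this
    · exfalso
      have hm := hZ2 _ (hyD1 d hd e2)
      rw [hw2, ← conj_comm, e1, Y.yu] at hm
      exact F.v_not_Z hm
    · rw [e1, e2]
  have e01 : ⁅w1, d0⁆ = u := (h.mem_Z_iff.1 (hZ1 d0 hd0)).resolve_left fun e =>
    hd0' (commutatorElement_eq_one_iff_commute.1 e).symm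
  have e02 : ⁅w2, d0⁆ = u := (hchi d0 hd0) ▸ e01
  set i := w * w1 * w2 with hi
  have yi : y * i * y⁻¹ = i := by
    rw [hi, show y * (w * w1 * w2) * y⁻¹ = (y * w * y⁻¹) * (y * w1 * y⁻¹) * (y * w2 * y⁻¹) by group,
      ← hw1, ← hw2, yw2, mul_assoc w1 w2 w, hc20.eq, ← mul_assoc, ← hc.eq]
  have hiD : ∀ d ∈ F.D, Commute d i := by
    intro d hd
    obtain ⟨hdQ, -, c0⟩ := F.mem_D.1 hd
    rw [hi, mul_assoc]
    refine c0.mul_right (commutatorElement_eq_one_iff_commute.1 ?_).symm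
    rw [comm_mul_left, ← hchi d hd, (h.Z_comm (F.le_C hw1Q) (hZ1 d hd)).eq, mul_inv_cancel_right]
    rcases h.mem_Z_iff.1 (hZ1 d hd) with e | e <;> rw [e] <;> simp [h.u2]
  have hiy : ∀ d ∈ F.D, Commute (y * d * y⁻¹) i := fun d hd => by
    have := hconj (hiD d hd); rwa [yi] at this
  have hiy2 : ∀ d ∈ F.D, Commute (y * (y * d * y⁻¹) * y⁻¹) i := fun d hd => by
    have := hconj (hiy d hd); rwa [yi] at this
  have hiR : ∀ r ∈ F.R, Commute r i := by
    intro r hr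
    -- an element with the same commutator with `w`
    obtain ⟨k, hkR, hki, hkw⟩ : ∃ k ∈ F.R, Commute k i ∧ ⁅w, k⁆ = ⁅w, r⁆ := by
      have a1 : ⁅w, y * d0 * y⁻¹⁆ = v := by rw [← yw2, ← conj_comm, e02, Y.yu]
      have a2 : ⁅w, y * (y * d0 * y⁻¹) * y⁻¹⁆ = u * v := by
        rw [← yw2, hw2, ← conj_comm, ← conj_comm, e01, Y.yu, Y.yv]
      have hk1 := Y.yR _ (F.D_le_R hd0)
      have hk2 := Y.yR _ hk1
      rcases F.inV_iff.1 (Y.inV_w hr) with e | e | e | e <;> rw [e]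
      · exact ⟨1, one_mem _, Commute.one_left i, commutatorElement_one_right w⟩
      · refine ⟨_, mul_mem hk1 hk2, (hiy d0 hd0).mul_left (hiy2 d0 hd0), ?_⟩
        rw [Y.comm_mul_R (Y.inV_w hk2) hk1, a1, a2, ← mul_assoc, Y.vu.eq, mul_assoc, F.v2, mul_one]
      · exact ⟨_, hk1, hiy d0 hd0, a1⟩
      · exact ⟨_, hk2, hiy2 d0 hd0, a2.trans Y.vu.eq.symm⟩
    have hd : k⁻¹ * r ∈ F.D := by
      refine Y.mem_D_of (mul_mem (inv_mem hkR) hr) (commutatorElement_eq_one_iff_commute.1 ?_).symm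
      have e := Y.comm_mul_R (g := w) (a := k) (b := k⁻¹ * r) (Y.inV_w (mul_mem (inv_mem hkR) hr)) hkR
      rw [mul_inv_cancel_left, hkw] at e
      exact mul_eq_left.1 e.symm
    have := hki.mul_left (hiD _ hd)
    rwa [mul_inv_cancel_left] at this
  have hiV : F.InV i := F.center_R (mul_mem (mul_mem Y.w_R hw1R) hw2R)
    (by
      rw [hi, (hc20.mul_right hc12.symm).mul_mul_mul_comm, hw22, mul_one,
        hc.symm.mul_mul_mul_comm, hw12, mul_one, hw, F.w2]) hiR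
  -- `M0 = C_R(⟨w, w1⟩)` is invariant under `y`
  set M0 := F.D ⊓ Cu w1 with hM0
  have hM0mem : ∀ {d}, d ∈ M0 ↔ d ∈ F.D ∧ Commute d w1 := fun {d} => by
    rw [hM0, mem_inf, mem_Cu]
  have hyM0 : ∀ d ∈ M0, y * d * y⁻¹ ∈ M0 := by
    intro d hd
    obtain ⟨hdD, hd1⟩ := hM0mem.1 hd
    obtain ⟨-, -, c0⟩ := F.mem_D.1 hdD
    have hw2eq : w2 = (w * w1)⁻¹ * i := by rw [hi]; group
    have c2 : Commute d w2 := by
      rw [hw2eq]
      exact (c0.mul_right hd1).inv_right.mul_right (Y.inV_comm hiV (F.D_le_R hdD))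
    refine hM0mem.2 ⟨Y.mem_D_of (Y.yR d (F.D_le_R hdD)) ?_, hconj c0⟩
    have := hconj c2
    rwa [yw2] at this
  set a := x * w1 * x⁻¹ with ha
  have haD : a ∈ F.D := F.D_invar _ hw1D
  have ha2 : a * a = 1 := by
    rw [ha, show x * w1 * x⁻¹ * (x * w1 * x⁻¹) = x * (w1 * w1) * x⁻¹ by group, hw12, mul_one,
      mul_inv_cancel]
  have haw1 : Commute w1 a := h.commute_conj F.le_C F.three F.inv hw1Q hw12
  have haM0 : a ∈ M0 := hM0mem.2 ⟨haD, haw1.symm⟩
  have hZa : ∀ d ∈ F.D, ⁅a, d⁆ ∈ zpowers u := fun d hd => by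
    have e := hZ1 _ (F.D_invar_back hd)
    rw [show ⁅a, d⁆ = x * ⁅w1, x⁻¹ * d * x⁆ * x⁻¹ by rw [ha, conj_comm]; group, h.Z_x e]
    exact e
  set M := M0 ⊓ Cu a with hM
  have hMmem : ∀ {d}, d ∈ M ↔ d ∈ M0 ∧ Commute d a := fun {d} => by rw [hM, mem_inf, mem_Cu]
  have hMQ : M ≤ Q := fun d hd => F.D_le (hM0mem.1 (hMmem.1 hd).1).1
  have hMx : Invar x M := by
    intro d hd
    obtain ⟨hd0M, hda⟩ := hMmem.1 hd
    obtain ⟨hdD, hd1⟩ := hM0mem.1 hd0M
    have hca : Commute (x * d * x⁻¹) a := by simpa [a] using hd1.map (MulAut.conj x).toMonoidHom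
    have hcb : Commute (x * d * x⁻¹) (x * a * x⁻¹) := by
      simpa using hda.map (MulAut.conj x).toMonoidHom
    refine hMmem.2 ⟨hM0mem.2 ⟨F.D_invar d hdD, ?_⟩, hca⟩
    have hz := h.cube F.le_C F.three F.inv hw1Q
    have e : w1 = w1 * a * (x * a * x⁻¹) * (x * a * x⁻¹)⁻¹ * a⁻¹ := by group
    rw [e]
    exact ((h.Z_comm (F.le_C (F.inv _ (F.D_le hdD))) hz).mul_right hcb.inv_right).mul_right hca.inv_right
  obtain ⟨e0, he0, he0a⟩ : ∃ e ∈ M0, ¬ Commute e a := by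
    by_contra hno
    push Not at hno
    have hinv : Invar x M0 := fun d hd => (hMmem.1 (hMx d (hMmem.2 ⟨hd, hno d hd⟩))).1
    refine hd0' (by_contra fun hd => ?_)
    have hdM : ∀ {d}, d ∈ F.D → (d ∈ M0 ↔ ⁅w1, d⁆ = 1) := fun {d} hd => by
      rw [hM0mem, commutatorElement_eq_one_iff_commute]
      exact ⟨fun e => e.2.symm, fun e => ⟨hd, e.symm⟩⟩
    set d1 := x * d0 * x⁻¹ with hd1
    set d2 := x * d1 * x⁻¹ with hd2
    have hd1D : d1 ∈ F.D := F.D_invar _ hd0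
    have hd2D : d2 ∈ F.D := F.D_invar _ hd1D
    have hu1 : ⁅w1, d1⁆ = u := (h.mem_Z_iff.1 (hZ1 d1 hd1D)).resolve_left fun e => hd (by
      have := invar_le_conj hinv ((hdM hd1D).2 e)
      rw [show x⁻¹ * d1 * x = d0 by rw [hd1]; group] at this
      exact (hM0mem.1 this).2)
    have hu2 : ⁅w1, d2⁆ = u := (h.mem_Z_iff.1 (hZ1 d2 hd2D)).resolve_left fun e => hd (by
      have := invar_le_conj hinv (invar_le_conj hinv ((hdM hd2D).2 e))
      rw [show x⁻¹ * (x⁻¹ * d2 * x) * x = d0 by rw [hd2, hd1]; group] at this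
      exact (hM0mem.1 this).2)
    have hz := h.cube F.le_C F.three F.inv (F.D_le hd0)
    have e := commutatorElement_eq_one_iff_commute.2 (h.Z_comm (F.le_C hw1Q) hz)
    rw [← hd1, ← hd2, F.comm_mul (mul_mem (F.D_le hd0) (F.D_le hd1D)) (hZ1 d2 hd2D),
      F.comm_mul (F.D_le hd0) (hZ1 d1 hd1D), e01, hu1, hu2, h.u2, one_mul] at e
    exact h.u_ne e
  have hM0D : ∀ {d}, d ∈ M0 → d ∈ F.D := fun hd => (hM0mem.1 hd).1
  have hsplit : ∀ e ∈ M0, ¬ Commute e a → e0⁻¹ * e ∈ M := fun e he hea => by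
    refine hMmem.2 ⟨mul_mem (inv_mem he0) he, (commutatorElement_eq_one_iff_commute.1 ?_).symm⟩
    have val : ∀ e' ∈ M0, ¬ Commute e' a → ⁅a, e'⁆ = u := fun e' he' hea' =>
      (h.mem_Z_iff.1 (hZa _ (hM0D he'))).resolve_left fun e'' =>
        hea' (commutatorElement_eq_one_iff_commute.1 e'').symm
    have hm := hZa _ (hM0D (mul_mem (inv_mem he0) he))
    have e1 := F.comm_mul (a := a) (F.D_le (hM0D he0)) hm
    rw [mul_inv_cancel_left, val e he hea, val e0 he0 he0a] at e1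
    exact mul_eq_left.1 e1.symm
  set b := y * a * y⁻¹ with hb
  have hbM0 : b ∈ M0 := hyM0 a haM0
  have hbM : ∀ d ∈ M, Commute d b := by
    intro d hd
    have hval : ∀ d ∈ M, ⁅b, d⁆ = 1 ∨ ⁅b, d⁆ = v := fun d hd => by
      have hd' : y⁻¹ * d * y ∈ M0 := invar_le_conj hyM0 (hMmem.1 hd).1
      have e : ⁅b, d⁆ = y * ⁅a, y⁻¹ * d * y⁆ * y⁻¹ := by rw [hb, conj_comm]; group
      rw [e]
      rcases h.mem_Z_iff.1 (hZa _ (hM0D hd')) with e' | e' <;> rw [e']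
      · exact Or.inl (by group)
      · exact Or.inr Y.yu
    have hz := F.mem_Z_of_inV hMQ hMx (F.D_le (hM0D hbM0)) (fun d hd => F.inV_iff.2
      ((hval d hd).elim Or.inl fun e => Or.inr (Or.inr (Or.inl e)))) hd
    exact (commutatorElement_eq_one_iff_commute.1 ((hval d hd).resolve_right fun e =>
      F.v_not_Z (e ▸ hz))).symm
  have hyMback : ∀ d ∈ M, y⁻¹ * d * y ∈ M := fun d hd => by
    refine hMmem.2 ⟨invar_le_conj hyM0 (hMmem.1 hd).1, ?_⟩
    have := (hbM d hd).map (MulAut.conj y⁻¹).toMonoidHom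
    simpa [b, mul_assoc] using this
  have hyM : Invar y M := fun d hd => by
    have := invar_le_conj (x := y⁻¹) (fun d hd => by
      have := hyMback d hd; rwa [inv_inv]) hd
    rwa [inv_inv] at this
  -- the image of the commutator with `e0`
  let U : G → Prop := fun z => z ∈ M ∧ z * z = 1 ∧ ∀ m ∈ M, Commute m z
  let P : G → Prop := fun c => ∃ z, U z ∧ c = ⁅z, e0⁆
  have hUc : ∀ g : G, Invar g M → ∀ {z}, U z → U (g * z * g⁻¹) := by
    rintro g hgM z ⟨z1, z2, z3⟩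
    refine ⟨hgM z z1, by
      rw [show g * z * g⁻¹ * (g * z * g⁻¹) = g * (z * z) * g⁻¹ by group, z2, mul_one, mul_inv_cancel],
      fun m hm => ?_⟩
    have := (z3 _ (invar_le_conj hgM hm)).map (MulAut.conj g).toMonoidHom
    simpa [mul_assoc] using this
  have hUa : U a := ⟨hMmem.2 ⟨haM0, Commute.refl a⟩, ha2, fun m hm => (hMmem.1 hm).2⟩
  have he0sq : e0 * e0 ∈ M := by
    have := hsplit _ (inv_mem he0) (fun e => he0a (Commute.inv_left_iff.1 e))
    simpa using inv_mem this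
  have hconj0 : ∀ z, U z → e0 * z * e0⁻¹ ∈ M ∧ Commute z (e0 * z * e0⁻¹) := by
    rintro z ⟨z1, z2, z3⟩
    obtain ⟨zM0, za⟩ := hMmem.1 z1
    have hm : e0 * z * e0⁻¹ ∈ M := by
      refine hMmem.2 ⟨mul_mem (mul_mem he0 zM0) (inv_mem he0),
        (commutatorElement_eq_one_iff_commute.1 ?_).symm⟩
      have hq := F.D_le (hM0D zM0)
      have h1 := F.D_le (hM0D he0)
      rw [F.comm_mul (mul_mem h1 hq) (hZa _ (hM0D (inv_mem he0))), F.comm_mul h1 (hZa _ (hM0D zM0)),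
        (commutatorElement_eq_one_iff_commute.2 za.symm :), mul_one,
        ← F.comm_mul h1 (hZa _ (hM0D (inv_mem he0))), mul_inv_cancel, commutatorElement_one_right]
    exact ⟨hm, (z3 _ hm).symm⟩
  have hPc : ∀ c, P c → Commute e0 c := by
    rintro c ⟨z, hz, rfl⟩
    obtain ⟨-, hcz⟩ := hconj0 z hz
    have e2 : e0 * e0 * z = z * (e0 * e0) := (hz.2.2 _ he0sq).eq
    show e0 * ⁅z, e0⁆ = ⁅z, e0⁆ * e0
    rw [commutatorElement_def, inv_eq_of_mul_eq_one_right hz.2.1]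
    calc e0 * (z * e0 * z * e0⁻¹) = (e0 * z * e0⁻¹) * ((e0 * e0) * z) * e0⁻¹ := by group
      _ = (e0 * z * e0⁻¹) * (z * (e0 * e0)) * e0⁻¹ := by rw [e2]
      _ = ((e0 * z * e0⁻¹) * z) * e0 := by group
      _ = (z * (e0 * z * e0⁻¹)) * e0 := by rw [hcz.eq]
      _ = _ := by group
  have hPmulZ : ∀ c, P c → ∀ z ∈ zpowers u, P (c * z) := by
    rintro c ⟨z', hz', rfl⟩ z hz
    rcases h.mem_Z_iff.1 hz with e | e <;> rw [e]
    · exact ⟨z', hz', by rw [mul_one]⟩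
    · refine ⟨a * z', ⟨mul_mem hUa.1 hz'.1, by
        rw [(hz'.2.2 a hUa.1).symm.mul_mul_mul_comm, ha2, hz'.2.1, one_mul],
        fun m hm => (hUa.2.2 m hm).mul_right (hz'.2.2 m hm)⟩, ?_⟩
      have hau : ⁅a, e0⁆ = u := (h.mem_Z_iff.1 (hZa _ (hM0D he0))).resolve_left fun e =>
        he0a (commutatorElement_eq_one_iff_commute.1 e).symm
      have hcM : ⁅z', e0⁆ ∈ M := by
        rw [commutatorElement_def, inv_eq_of_mul_eq_one_right hz'.2.1, show z' * e0 * z' * e0⁻¹ =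
          z' * (e0 * z' * e0⁻¹) by group]
        exact mul_mem hz'.1 (hconj0 z' hz').1
      rw [comm_mul_left, hau, ← (hUa.2.2 _ hcM).eq, mul_inv_cancel_right]
  have hPu : P u := ⟨a, hUa, ((h.mem_Z_iff.1 (hZa _ (hM0D he0))).resolve_left fun e =>
    he0a (commutatorElement_eq_one_iff_commute.1 e).symm).symm⟩
  have hPx : ∀ c, P c → P (x * c * x⁻¹) := by
    rintro c ⟨z, hz, rfl⟩
    have hz' := hUc x hMx hz
    have hz'' := hUc x hMx hz'
    have hs := h.swap F.le_C F.three F.inv (hMQ hz'.1) (F.D_le (hM0D he0))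
    rw [conj_comm]
    have := hPmulZ _ ⟨_, hz'', rfl⟩ _ hs
    rwa [mul_inv_cancel_left] at this
  have hPy : ∀ c, P c → P (y * c * y⁻¹) := by
    rintro c ⟨z, hz, rfl⟩
    have hz' := hUc y hyM hz
    refine ⟨_, hz', ?_⟩
    have hye : y * e0 * y⁻¹ ∈ M0 := hyM0 _ he0
    have hnc : ¬ Commute (y * e0 * y⁻¹) a := fun hc' => he0a (by
      have := hyMback _ (hMmem.2 ⟨hye, hc'⟩)
      rw [show y⁻¹ * (y * e0 * y⁻¹) * y = e0 by group] at this
      exact (hMmem.1 this).2)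
    have hm := hsplit _ hye hnc
    rw [conj_comm, show y * e0 * y⁻¹ = e0 * (e0⁻¹ * (y * e0 * y⁻¹)) by group, comm_mul_right,
      (commutatorElement_eq_one_iff_commute.2 (hz'.2.2 _ hm).symm :), mul_one, mul_inv_cancel,
      mul_one]
  have hPa : P a := by
    have p1 := hPy u hPu
    rw [Y.yu] at p1
    have p2 := hPy _ (hPx v p1)
    rw [← hw, ← hw1] at p2
    have p3 := hPx _ p2
    rwa [← ha] at p3
  exact he0a (hPc a hPa)

end Turn

namespace Top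

variable {h : Hyp u x} {Q D : Subgroup G} {S : Sylow 2 G} {s : G} (T : Top h Q D S s)
include T

theorem exists_turn (h32 : 32 ≤ Nat.card Q) :
    ∃ v, ∃ F : Frame h Q S v, ∃ y, Turn T F y := by
  obtain ⟨v, F, hsv, hn⟩ := T.exists_frame h32
  obtain ⟨y, y3, yu, yv, yuv, yR⟩ := F.exists_cycle
  exact ⟨v, F, y, ⟨hsv, hn, y3, yu, yv, yuv, yR⟩⟩

theorem card_eq (h32 : 32 ≤ Nat.card Q) : Nat.card Q = 32 := by
  by_contra hne
  obtain ⟨v, F, y, Y⟩ := T.exists_turn h32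
  have hE := Y.isE_all (Y.card_eq_aux (by omega))
  have : Nat.card F.D ≤ 8 := F.card_E ▸ card_le_of_le fun d hd => F.isE_iff.1 (hE d hd)
  have := F.card_Q
  omega

end Top

end Cfsg.Agent.SelfCentSix
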