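import Cfsg.Agent.Lib.SelfCentSix.TopFrame

/-!
# The symmetric-group layer: the cycle on `⟨u, v⟩`

`Turn T F y` : the frame involution `v` commutes with `s`, and `y` of order three permutes `u, v, uv` and
normalizes `R = C_S(v)`.  With `w = x v x⁻¹`: `⁅w, s⁆ = v`, `C_R(w) = D`, and commutators with the
conjugates of `w` by powers of `y` have values in `⟨u, v⟩` on `R`.
-/

set_option autoImplicit false
set_option linter.unusedSectionVars false
set_option linter.style.haveILetI false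

namespace Cfsg.Agent.SelfCentSix

open Subgroup SelfCentThree
open scoped commutatorElement

theorem card_le_two_mul {G : Type*} [Group G] [Finite G] {A B : Subgroup G}
    (hdiff : ∀ a ∈ B, ∀ b ∈ B, a ∉ A → b ∉ A → a⁻¹ * b ∈ A) :
    Nat.card B ≤ 2 * Nat.card A := by
  classical
  by_cases hBA : B ≤ A
  · have := card_le_of_le hBA
    omega
  obtain ⟨k, hkB, hkA⟩ := SetLike.not_le_iff_exists.1 hBA
  let f : B → Bool × A := fun b =>
    if hb : (b : G) ∈ A then (false, ⟨b, hb⟩) else (true, ⟨k⁻¹ * b, hdiff k hkB b b.2 hkA hb⟩)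
  have hf : Function.Injective f := by
    intro a b e
    have e1 : (f a).1 = (f b).1 := congrArg Prod.fst e
    have e2 : ((f a).2 : G) = (f b).2 := by rw [e]
    by_cases ha : (a : G) ∈ A <;> by_cases hb : (b : G) ∈ A
    all_goals simp only [f, dif_pos, dif_neg, ha, hb, not_false_eq_true, Bool.false_eq_true,
      Bool.true_eq_false] at e1 e2
    · exact Subtype.ext e2
    · exact Subtype.ext (mul_left_cancel e2)
  have := Nat.card_le_card_of_injective f hf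
  simpa [Nat.card_prod] using this

variable {G : Type*} [Group G] [Finite G] {u x : G}

namespace Frame

variable {h : Hyp u x} {Q : Subgroup G} {S : Sylow 2 G} {v : G} (F : Frame h Q S v)
include F

theorem card_Q : Nat.card Q = 4 * Nat.card F.D := by
  let f : Q →* zpowers u × zpowers u :=
    MonoidHom.mk' (fun g => (⟨⁅v, (g : G)⁆, F.plane g g.2⟩, ⟨⁅x * v * x⁻¹, (g : G)⁆, F.planeW g.2⟩))
      fun a b => Prod.ext (Subtype.ext (F.comm_mul a.2 (F.plane b b.2)))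
        (Subtype.ext (F.comm_mul a.2 (F.planeW b.2)))
  have hker : f.ker = F.D.subgroupOf Q := by
    ext g
    rw [MonoidHom.mem_ker, mem_subgroupOf]
    refine ⟨fun e => F.mem_D_of_comm g.2 (congrArg (fun p => (p.1 : G)) e)
      (congrArg (fun p => (p.2 : G)) e), fun hg => ?_⟩
    obtain ⟨-, c1, c2⟩ := F.mem_D.1 hg
    exact Prod.ext (Subtype.ext (commutatorElement_eq_one_iff_commute.2 c1.symm))
      (Subtype.ext (commutatorElement_eq_one_iff_commute.2 c2.symm))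
  have hsurj : Function.Surjective f := by
    obtain ⟨⟨r0, hr0, v0, w0⟩, r1, hr1, v1, w1⟩ := F.exists_rep
    rintro ⟨⟨a, ha⟩, ⟨b, hb⟩⟩
    rcases h.mem_Z_iff.1 ha with rfl | rfl <;> rcases h.mem_Z_iff.1 hb with rfl | rfl
    · exact ⟨1, map_one f⟩
    · exact ⟨⟨r0, hr0⟩, Prod.ext (Subtype.ext v0) (Subtype.ext w0)⟩
    · exact ⟨⟨r1, hr1⟩, Prod.ext (Subtype.ext v1) (Subtype.ext w1)⟩
    · exact ⟨⟨r0 * r1, mul_mem hr0 hr1⟩, Prod.ext
        (Subtype.ext (by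
          show ⁅v, r0 * r1⁆ = _
          rw [F.comm_mul hr0 (F.plane r1 hr1), v0, v1, one_mul]))
        (Subtype.ext (by
          show ⁅x * v * x⁻¹, r0 * r1⁆ = _
          rw [F.comm_mul hr0 (F.planeW hr1), w0, w1, mul_one]))⟩
  rw [card_eq_card_quotient_mul_card_subgroup f.ker,
    Nat.card_congr (QuotientGroup.quotientKerEquivOfSurjective f hsurj).toEquiv, hker,
    Nat.card_congr (subgroupOfEquivOfLe F.D_le).toEquiv, Nat.card_prod, Nat.card_zpowers, h.ordu]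

theorem inV_iff {c : G} : F.InV c ↔ c = 1 ∨ c = u ∨ c = v ∨ c = v * u := by
  refine ⟨fun hc => ?_, fun hc => ?_⟩
  · rcases hc with hc | hc <;> rcases h.mem_Z_iff.1 hc with e | e
    · exact Or.inl e
    · exact Or.inr (Or.inl e)
    · exact Or.inr (Or.inr (Or.inl (inv_mul_eq_one.1 e).symm))
    · exact Or.inr (Or.inr (Or.inr (inv_mul_eq_iff_eq_mul.1 e)))
  · rcases hc with rfl | rfl | rfl | rfl
    · exact Or.inl (one_mem _)
    · exact Or.inl (mem_zpowers _)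
    · exact Or.inr (by rw [inv_mul_cancel]; exact one_mem _)
    · exact Or.inr (by rw [inv_mul_cancel_left]; exact mem_zpowers _)

end Frame

/-- A frame with `v` fixed by `s`, and the cycle `y`. -/
structure Turn {h : Hyp u x} {Q D : Subgroup G} {S : Sylow 2 G} {s v : G} (_T : Top h Q D S s)
    (F : Frame h Q S v) (y : G) : Prop where
  sv : s * v * s⁻¹ = v
  norm : v * (x * v * x⁻¹) * (x * (x * v * x⁻¹) * x⁻¹) = 1
  y3 : y ^ 3 = 1
  yu : y * u * y⁻¹ = v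
  yv : y * v * y⁻¹ = u * v
  yuv : y * (u * v) * y⁻¹ = u
  yR : ∀ r ∈ F.R, y * r * y⁻¹ ∈ F.R

namespace Turn

variable {h : Hyp u x} {Q D : Subgroup G} {S : Sylow 2 G} {s v y : G} {T : Top h Q D S s}
  {F : Frame h Q S v} (Y : Turn T F y)
include Y

theorem vu : Commute v u := mem_Cu.1 F.vC

theorem sR : s ∈ F.R := F.mem_R.2 ⟨T.s_mem, mul_inv_eq_iff_eq_mul.1 Y.sv⟩

theorem w_R : x * v * x⁻¹ ∈ F.R := F.D_le_R F.w_mem_D

theorem v_R : v ∈ F.R := F.D_le_R F.v_mem_D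

theorem u_R : u ∈ F.R := F.D_le_R F.u_mem_D

theorem ws : ⁅x * v * x⁻¹, s⁆ = v := by
  have hw2 : x * (x * v * x⁻¹) * x⁻¹ = v * (x * v * x⁻¹) := by
    have e := eq_inv_of_mul_eq_one_right Y.norm
    rw [mul_inv_rev, inv_eq_of_mul_eq_one_right F.w2, inv_eq_of_mul_eq_one_right F.v2,
      F.vw_comm.symm.eq] at e
    exact e
  have hxi : x⁻¹ * v * x = x * (x * v * x⁻¹) * x⁻¹ := by
    calc x⁻¹ * v * x = x⁻¹ * (x * (x * (x * v * x⁻¹) * x⁻¹) * x⁻¹) * x := by rw [h.conj_thrice]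
      _ = _ := by group
  have hsw : s * (x * v * x⁻¹) * s⁻¹ = v * (x * v * x⁻¹) := by
    rw [show s * (x * v * x⁻¹) * s⁻¹ = (s * x * s⁻¹) * (s * v * s⁻¹) * (s * x * s⁻¹)⁻¹ by group, T.sx,
      inv_inv, Y.sv, hxi, hw2]
  rw [commutatorElement_def, inv_eq_of_mul_eq_one_right F.w2]
  calc x * v * x⁻¹ * s * (x * v * x⁻¹) * s⁻¹ = x * v * x⁻¹ * (s * (x * v * x⁻¹) * s⁻¹) := by group
    _ = (x * v * x⁻¹) * (v * (x * v * x⁻¹)) := by rw [hsw]
    _ = (x * v * x⁻¹) * ((x * v * x⁻¹) * v) := by rw [F.vw_comm.eq]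
    _ = v := by rw [← mul_assoc, F.w2, one_mul]

theorem inV_R {c : G} (hc : F.InV c) : c ∈ F.R := by
  rcases F.inV_iff.1 hc with rfl | rfl | rfl | rfl
  exacts [one_mem _, Y.u_R, Y.v_R, mul_mem Y.v_R Y.u_R]

theorem inV_comm {c r : G} (hc : F.InV c) (hr : r ∈ F.R) : Commute r c := by
  have h1 : Commute r v := (F.mem_R.1 hr).2
  have h2 : Commute r u := mem_Cu.1 (F.S_le (F.mem_R.1 hr).1)
  rcases F.inV_iff.1 hc with rfl | rfl | rfl | rfl
  exacts [Commute.one_right r, h2, h1, h1.mul_right h2]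

theorem inV_y {c : G} (hc : F.InV c) : F.InV (y * c * y⁻¹) := by
  rcases F.inV_iff.1 hc with rfl | rfl | rfl | rfl
  · rw [mul_one, mul_inv_cancel]; exact Or.inl (one_mem _)
  · rw [Y.yu]; exact F.inV_iff.2 (Or.inr (Or.inr (Or.inl rfl)))
  · rw [Y.yv, ← Y.vu.eq]; exact F.inV_iff.2 (Or.inr (Or.inr (Or.inr rfl)))
  · rw [Y.vu.eq, Y.yuv]; exact Or.inl (mem_zpowers u)

theorem y_back {r : G} (hr : r ∈ F.R) : y⁻¹ * r * y ∈ F.R := invar_le_conj Y.yR hr

theorem valW {r : G} (hr : r ∈ F.R) :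
    (r ∈ Q ∧ ⁅x * v * x⁻¹, r⁆ ∈ zpowers u) ∨
      (r ∉ Q ∧ v⁻¹ * ⁅x * v * x⁻¹, r⁆ ∈ zpowers u) := by
  obtain ⟨hrS, -⟩ := F.mem_R.1 hr
  by_cases hq : r ∈ Q
  · exact Or.inl ⟨hq, F.planeW hq⟩
  refine Or.inr ⟨hq, ?_⟩
  have hz := F.planeW ((T.index r hrS).resolve_left hq)
  rw [show r = s * (s⁻¹ * r) by group, comm_mul_right, Y.ws, (h.Z_comm T.sC hz).eq,
    mul_inv_cancel_right, inv_mul_cancel_left]
  exact hz

theorem inV_w {r : G} (hr : r ∈ F.R) : F.InV ⁅x * v * x⁻¹, r⁆ :=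
  (Y.valW hr).elim (fun e => Or.inl e.2) fun e => Or.inr e.2

theorem mem_Q_of {r : G} (hr : r ∈ F.R) (hz : ⁅x * v * x⁻¹, r⁆ ∈ zpowers u) : r ∈ Q :=
  (Y.valW hr).elim (fun e => e.1) fun e => absurd (by
    have := mul_mem hz (inv_mem e.2)
    rwa [mul_inv_rev, inv_inv, mul_inv_cancel_left] at this) F.v_not_Z

theorem mem_D_of {r : G} (hr : r ∈ F.R) (hc : Commute r (x * v * x⁻¹)) : r ∈ F.D := by
  refine F.mem_D.2 ⟨Y.mem_Q_of hr ?_, (F.mem_R.1 hr).2, hc⟩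
  rw [(commutatorElement_eq_one_iff_commute.2 hc.symm :)]
  exact one_mem _

/-- Commutators with conjugates of `w`. -/
theorem inV_conj {g : G} (hg : g = y * (x * v * x⁻¹) * y⁻¹ ∨
    g = y * (y * (x * v * x⁻¹) * y⁻¹) * y⁻¹) {r : G} (hr : r ∈ F.R) : F.InV ⁅g, r⁆ := by
  rcases hg with rfl | rfl
  · rw [show r = y * (y⁻¹ * r * y) * y⁻¹ by group, ← conj_comm]
    exact Y.inV_y (Y.inV_w (Y.y_back hr))
  · rw [show r = y * (y * (y⁻¹ * (y⁻¹ * r * y) * y) * y⁻¹) * y⁻¹ by group, ← conj_comm, ← conj_comm]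
    exact Y.inV_y (Y.inV_y (Y.inV_w (Y.y_back (Y.y_back hr))))

theorem comm_mul_R {g a b : G} (hg : F.InV ⁅g, b⁆) (ha : a ∈ F.R) : ⁅g, a * b⁆ = ⁅g, a⁆ * ⁅g, b⁆ := by
  rw [comm_mul_right, (Y.inV_comm hg ha).eq, mul_inv_cancel_right]

end Turn

end Cfsg.Agent.SelfCentSix
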