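import Cfsg.Agent.Lib.SelfCentSix.CycleBasic

/-!
# The symmetric-group layer: `D = ⟨u, v, w⟩` when `y` normalizes `⟨u, v, w⟩`

* `commute_reflections` : two reflections with the same fixed space
* `Turn.isE_all` : if `y w y⁻¹ ∈ ⟨u, v, w⟩` then `D = ⟨u, v, w⟩`
-/

set_option autoImplicit false
set_option linter.unusedSectionVars false
set_option linter.style.haveILetI false

namespace Cfsg.Agent.SelfCentSix

open Subgroup SelfCentThree
open scoped commutatorElement Pointwise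

section generic

variable {K : Type*} [Group K] [Finite K]

theorem commute_reflections {M : Subgroup K} [hMn : M.Normal] (hM2 : ∀ m ∈ M, m * m = 1) (hne : M ≠ ⊥)
    {X r s t : K} (hX : X ^ 3 = 1) (hfpf : ∀ m ∈ M, Commute m X → m = 1)
    (hswap : ∀ m ∈ M, ⁅X * m * X⁻¹, r⁆ = ⁅m, X * r * X⁻¹⁆)
    (hr : ∀ m ∈ M, Commute (r * r) m) (hs : ∀ m ∈ M, Commute (s * s) m) (hsX : s * X * s⁻¹ = X⁻¹)
    (hrs : ∀ m ∈ M, Commute (r⁻¹ * s⁻¹ * r * s) m) (ht : ∀ m ∈ M, Commute (s⁻¹ * (t * r * t⁻¹)) m) :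
    (∀ m ∈ M, Commute r m → Commute (X * r * X⁻¹) m) ∧
      ∃ m ∈ M, m ≠ 1 ∧ Commute r m ∧ Commute s m := by
  have habel : ∀ a ∈ M, ∀ b ∈ M, Commute a b := fun a ha b hb => by
    show a * b = b * a
    calc a * b = (a * b)⁻¹ := (inv_eq_of_mul_eq_one_right (hM2 _ (mul_mem ha hb))).symm
      _ = b⁻¹ * a⁻¹ := mul_inv_rev a b
      _ = b * a := by rw [inv_eq_of_mul_eq_one_right (hM2 a ha), inv_eq_of_mul_eq_one_right (hM2 b hb)]
  have hcomm : ∀ (g : K), ∀ m ∈ M, ⁅m, g⁆ = m * (g * m * g⁻¹) := fun g m hm => by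
    rw [commutatorElement_def, inv_eq_of_mul_eq_one_right (hM2 m hm)]; group
  let c : K → (M →* M) := fun g => MonoidHom.mk'
    (fun m => ⟨(m : K) * (g * m * g⁻¹), mul_mem m.2 (hMn.conj_mem _ m.2 g)⟩) fun a b => Subtype.ext (by
      show (a : K) * b * (g * (a * b) * g⁻¹) = a * (g * a * g⁻¹) * (b * (g * b * g⁻¹))
      rw [show g * ((a : K) * b) * g⁻¹ = g * a * g⁻¹ * (g * b * g⁻¹) by group]
      exact (habel b b.2 _ (hMn.conj_mem _ a.2 g)).mul_mul_mul_comm a (g * b * g⁻¹))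
  have hker : ∀ g (m : M), m ∈ (c g).ker ↔ Commute g (m : K) := fun g m => by
    rw [MonoidHom.mem_ker, Subtype.ext_iff]
    show (m : K) * (g * m * g⁻¹) = 1 ↔ _
    constructor
    · intro e
      refine mul_inv_eq_iff_eq_mul.1 ?_
      rw [eq_inv_of_mul_eq_one_right e, inv_eq_of_mul_eq_one_right (hM2 _ m.2)]
    · intro e
      rw [e.eq, mul_inv_cancel_right, hM2 _ m.2]
  have hrange : ∀ g, (∀ m ∈ M, Commute (g * g) m) → (c g).range ≤ (c g).ker := by
    rintro g hg _ ⟨m, rfl⟩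
    rw [hker]
    show g * ((m : K) * (g * m * g⁻¹)) = (m : K) * (g * m * g⁻¹) * g
    calc g * ((m : K) * (g * m * g⁻¹)) = (g * m * g⁻¹) * ((g * g) * m) * g⁻¹ := by group
      _ = (g * m * g⁻¹) * (m * (g * g)) * g⁻¹ := by rw [(hg m m.2).eq]
      _ = ((g * m * g⁻¹) * m) * g := by group
      _ = _ := by rw [(habel _ (hMn.conj_mem _ m.2 g) _ m.2).eq]
  have hcard : ∀ g, Nat.card M = Nat.card (c g).range * Nat.card (c g).ker := fun g => by
    rw [card_eq_card_quotient_mul_card_subgroup (c g).ker,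
      Nat.card_congr (QuotientGroup.quotientKerEquivRange (c g)).toEquiv]
  -- the fixed space of `s` meets its image under `X` trivially
  have hks : Nat.card (c s).ker * Nat.card (c s).ker ≤ Nat.card M := by
    rw [← Nat.card_prod]
    refine Nat.card_le_card_of_injective (fun p : (c s).ker × (c s).ker =>
      (⟨((p.1 : M) : K) * (X * ((p.2 : M) : K) * X⁻¹),
        mul_mem (p.1 : M).2 (hMn.conj_mem _ (p.2 : M).2 X)⟩ : M)) ?_
    rintro ⟨⟨⟨a, ha⟩, ha'⟩, ⟨⟨b, hb⟩, hb'⟩⟩ ⟨⟨⟨a', ha1⟩, ha1'⟩, ⟨⟨b', hb1⟩, hb1'⟩⟩ e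
    replace e : a * (X * b * X⁻¹) = a' * (X * b' * X⁻¹) := congrArg Subtype.val e
    have c1 : Commute s (a'⁻¹ * a) := ((hker s _).1 ha1').inv_right.mul_right ((hker s _).1 ha')
    have c2 : Commute s (b' * b⁻¹) := ((hker s _).1 hb1').mul_right ((hker s _).1 hb').inv_right
    have e2 : a'⁻¹ * a = X * (b' * b⁻¹) * X⁻¹ := by
      calc a'⁻¹ * a = a'⁻¹ * (a * (X * b * X⁻¹)) * (X * b * X⁻¹)⁻¹ := by group
        _ = _ := by rw [e]; group
    set d := a'⁻¹ * a
    have c3 : Commute (X * s * X⁻¹) d := by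
      rw [e2]; simpa using c2.map (MulAut.conj X).toMonoidHom
    have c4 := c3.mul_left c1.inv_left
    rw [show X * s * X⁻¹ * s⁻¹ = X * (s * X * s⁻¹)⁻¹ by group, hsX, inv_inv] at c4
    have hXX : X = (X * X) * (X * X) := by
      calc X = X ^ 3 * X := by rw [hX, one_mul]
        _ = _ := by simp only [pow_three, mul_assoc]
    have c5 : Commute X d := by rw [hXX]; exact c4.mul_left c4
    have hd1 := hfpf d (mul_mem (inv_mem ha1) ha) c5.symm
    have e3 : a = a' := (inv_mul_eq_one.1 hd1).symm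
    subst e3
    have e4 : b = b' := mul_left_cancel (mul_right_cancel (mul_left_cancel e))
    subst e4
    rfl
  have hks' : Nat.card (c s).range ≤ Nat.card (c s).ker := card_le_of_le (hrange s hs)
  have hst : Nat.card (c s).ker = Nat.card (c r).ker := by
    have key : ∀ m ∈ M, Commute r m ↔ Commute s (t * m * t⁻¹) := fun m hm => by
      have hm' : t * m * t⁻¹ ∈ M := hMn.conj_mem _ hm t
      have h1 := ht _ hm'
      constructor
      · intro hc
        have h2 : Commute (t * r * t⁻¹) (t * m * t⁻¹) := by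
          simpa using hc.map (MulAut.conj t).toMonoidHom
        have := h2.mul_left h1.inv_left
        rwa [mul_inv_rev, inv_inv, mul_inv_cancel_left] at this
      · intro hc
        have h2 := hc.mul_left h1
        rw [mul_inv_cancel_left] at h2
        have := h2.map (MulAut.conj t⁻¹).toMonoidHom
        simpa [mul_assoc] using this
    refine (Nat.card_congr ?_).symm
    exact
      { toFun := fun m => ⟨⟨t * (m : M) * t⁻¹, hMn.conj_mem _ (m : M).2 t⟩,
          (hker _ _).2 ((key _ (m : M).2).1 ((hker _ _).1 m.2))⟩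
        invFun := fun m => ⟨⟨t⁻¹ * (m : M) * t, by simpa using hMn.conj_mem _ (m : M).2 t⁻¹⟩,
          (hker _ _).2 ((key _ (by simpa using hMn.conj_mem _ (m : M).2 t⁻¹)).2 (by
            have := (hker _ _).1 m.2
            rwa [show t * (t⁻¹ * ((m : M) : K) * t) * t⁻¹ = ((m : M) : K) by group]))⟩
        left_inv := fun m => Subtype.ext (Subtype.ext (by simp [mul_assoc]))
        right_inv := fun m => Subtype.ext (Subtype.ext (by simp [mul_assoc])) }
  have hpos : 0 < Nat.card (c r).range := Nat.card_pos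
  have hM := hcard s
  have hMr := hcard r
  have hr' : Nat.card (c r).range ≤ Nat.card (c r).ker := card_le_of_le (hrange r hr)
  have hposk : 0 < Nat.card (c r).ker := Nat.card_pos
  have hsq : Nat.card M = Nat.card (c r).ker * Nat.card (c r).ker := by
    rw [← hst]
    exact le_antisymm (hM ▸ Nat.mul_le_mul_right _ hks') hks
  have heq : (c r).range = (c r).ker := eq_of_le_of_card_ge (hrange r hr) (by
    have := Nat.eq_of_mul_eq_mul_right hposk (hMr.symm.trans hsq)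
    omega)
  refine ⟨fun m hm hmr => ?_, ?_⟩
  · obtain ⟨a, ha⟩ : (⟨m, hm⟩ : M) ∈ (c r).range := by rw [heq, hker]; exact hmr
    have ea : (a : K) * (r * a * r⁻¹) = m := congrArg Subtype.val ha
    set b := X⁻¹ * (a : K) * X
    have hb : b ∈ M := by simpa [b] using hMn.conj_mem _ a.2 X⁻¹
    have e := hswap b hb
    rw [show X * b * X⁻¹ = (a : K) by simp [b, mul_assoc], hcomm r _ a.2, hcomm _ b hb, ea] at e
    have hr2 : ∀ m ∈ M, Commute (X * r * X⁻¹ * (X * r * X⁻¹)) m := fun m hm => by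
      rw [show X * r * X⁻¹ * (X * r * X⁻¹) = X * (r * r) * X⁻¹ by group]
      have h1 := (hr (X⁻¹ * m * X) (by simpa using hMn.conj_mem _ hm X⁻¹)).map (MulAut.conj X).toMonoidHom
      simpa [mul_assoc] using h1
    have := (hker _ _).1 (hrange (X * r * X⁻¹) hr2 ⟨⟨b, hb⟩, rfl⟩)
    rw [e]
    exact this
  · have hkne : 1 < Nat.card (c r).ker := by
      by_contra h1
      have : Nat.card (c r).ker = 1 := by omega
      rw [this, one_mul] at hsq
      exact hne (card_eq_one.1 hsq)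
    obtain ⟨⟨⟨m, hm⟩, hmk⟩, hm1⟩ := @exists_ne _ (Finite.one_lt_card_iff_nontrivial.1 hkne) (1 : (c r).ker)
    have hmr : Commute r m := (hker _ _).1 hmk
    have hm1' : m ≠ 1 := fun e => hm1 (Subtype.ext (Subtype.ext e))
    set m' := s * m * s⁻¹ with hm'
    have hm'M : m' ∈ M := hMn.conj_mem _ hm s
    by_cases hms : m * m' = 1
    · refine ⟨m, hm, hm1', hmr, mul_inv_eq_iff_eq_mul.1 ?_⟩
      rw [← hm', eq_inv_of_mul_eq_one_right hms, inv_eq_of_mul_eq_one_right (hM2 m hm)]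
    refine ⟨m * m', mul_mem hm hm'M, hms, hmr.mul_right ?_, (hker s ⟨_, mul_mem hm hm'M⟩).1
      (hrange s hs ⟨⟨m, hm⟩, rfl⟩)⟩
    -- `r` fixes `s m s⁻¹`
    have h1 := hrs m hm
    have h2 : Commute (s⁻¹ * r * s) m := by
      have := hmr.mul_left h1
      rwa [show r * (r⁻¹ * s⁻¹ * r * s) = s⁻¹ * r * s by group] at this
    have h3 := h2.map (MulAut.conj s).toMonoidHom
    simpa [m', mul_assoc] using h3

end generic

variable {G : Type*} [Group G] [Finite G] {u x : G}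

theorem IsPGroup.exists_fixed {p : ℕ} [Fact p.Prime] {P : Type*} [Group P] (hP : IsPGroup p P)
    {α : Type*} [Finite α] [MulAction P α] {a : α} (ha : ∀ g : P, g • a = a)
    (hmod : Nat.card α % p ≠ 1 % p) : ∃ b : α, b ≠ a ∧ ∀ g : P, g • b = b := by
  by_contra hne
  push Not at hne
  have h1 : Nat.card (MulAction.fixedPoints P α) = 1 := by
    rw [Nat.card_eq_one_iff_unique]
    refine ⟨⟨fun b c => Subtype.ext ?_⟩, ⟨⟨a, ha⟩⟩⟩
    have key : ∀ b : MulAction.fixedPoints P α, (b : α) = a := fun b =>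
      by_contra fun e => (hne _ e).choose_spec (b.2 _)
    rw [key b, key c]
  have := hP.card_modEq_card_fixedPoints α
  rw [h1] at this
  exact hmod this

namespace Frame

variable {h : Hyp u x} {Q : Subgroup G} {S : Sylow 2 G} {v : G} (F : Frame h Q S v)
include F

theorem isE_iff {a : G} : F.IsE a ↔ a ∈ omegaCenter F.D := by
  refine ⟨fun ha => ?_, fun ⟨h1, h2, h3⟩ => F.isE_of_central h1 h2 h3⟩
  obtain ⟨e, he, hz⟩ := ha
  obtain ⟨heD, he2, -⟩ := F.e_facts he
  have hcz : Commute e (e⁻¹ * a) := h.Z_comm (F.le_C (F.D_le heD)) hz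
  have ea : a = e * (e⁻¹ * a) := by group
  refine ⟨(F.isE_plane ⟨e, he, hz⟩).1, ?_, fun d hd => ?_⟩
  · rw [ea, hcz.symm.mul_mul_mul_comm, he2, one_mul]
    rcases h.mem_Z_iff.1 hz with e' | e' <;> rw [e'] <;> simp [h.u2]
  · obtain ⟨hdQ, c1, c2⟩ := F.mem_D.1 hd
    rw [ea]
    refine Commute.mul_right ?_ (h.Z_comm (F.le_C hdQ) hz)
    rcases he with rfl | rfl | rfl | rfl
    exacts [Commute.one_right _, c1, c2, c1.mul_right c2]

theorem card_E : Nat.card (omegaCenter F.D) = 8 := by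
  obtain ⟨⟨r0, hr0, v0, w0⟩, r1, hr1, v1, w1⟩ := F.exists_rep
  have hp : ∀ e : omegaCenter F.D, ∀ g ∈ Q, ⁅(e : G), g⁆ ∈ zpowers u := fun e =>
    (F.isE_plane (F.isE_iff.2 e.2)).2
  have hmul : ∀ (a b : omegaCenter F.D) (g : G), g ∈ Q →
      ⁅(a : G) * b, g⁆ = ⁅(a : G), g⁆ * ⁅(b : G), g⁆ := fun a b g hg => by
    rw [comm_mul_left, (h.Z_comm (F.le_C (F.D_le a.2.1)) (hp b g hg)).eq, mul_inv_cancel_right]
    exact ((h.Z_comm (h.Z_le (hp b g hg)) (hp a g hg))).eq
  let f : omegaCenter F.D →* zpowers u × zpowers u :=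
    MonoidHom.mk' (fun e => (⟨⁅(e : G), r0⁆, hp e r0 hr0⟩, ⟨⁅(e : G), r1⁆, hp e r1 hr1⟩))
      fun a b => Prod.ext (Subtype.ext (hmul a b r0 hr0)) (Subtype.ext (hmul a b r1 hr1))
  have huE : u ∈ omegaCenter F.D :=
    ⟨F.u_mem_D, h.u2, fun d hd => mem_Cu.1 (F.le_C (F.D_le hd))⟩
  have hker : f.ker = (zpowers u).subgroupOf (omegaCenter F.D) := by
    ext a
    rw [MonoidHom.mem_ker, mem_subgroupOf]
    refine ⟨fun e => ?_, fun ha => Prod.ext (Subtype.ext ?_) (Subtype.ext ?_)⟩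
    · have a0 : ⁅(a : G), r0⁆ = 1 := congrArg (fun p => (p.1 : G)) e
      have a1 : ⁅(a : G), r1⁆ = 1 := congrArg (fun p => (p.2 : G)) e
      obtain ⟨e', he', hz⟩ := F.isE_iff.2 a.2
      have hez : ∀ g ∈ Q, ⁅e', g⁆ = ⁅(a : G), g⁆ := fun g hg => by
        conv_rhs => rw [show (a : G) = e' * (e'⁻¹ * a) by group, comm_mul_left,
          (commutatorElement_eq_one_iff_commute.2 (h.Z_comm (F.le_C hg) hz).symm :)]
        group
      have b0 := (hez r0 hr0).trans a0
      have b1 := (hez r1 hr1).trans a1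
      rcases he' with rfl | rfl | rfl | rfl
      · simpa using hz
      · exact absurd (v1.symm.trans b1) h.u_ne
      · exact absurd (w0.symm.trans b0) h.u_ne
      · rw [comm_mul_left, w0, v0, mul_one, (mem_Cu.1 F.vC).eq, mul_inv_cancel_right] at b0
        exact absurd b0 h.u_ne
    · exact commutatorElement_eq_one_iff_commute.2 (h.Z_comm (F.le_C hr0) ha).symm
    · exact commutatorElement_eq_one_iff_commute.2 (h.Z_comm (F.le_C hr1) ha).symm
  have hsurj : Function.Surjective f := by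
    rintro ⟨⟨a, ha⟩, ⟨b, hb⟩⟩
    have mk : ∀ e ∈ ({1, v, x * v * x⁻¹, v * (x * v * x⁻¹)} : Set G), e ∈ omegaCenter F.D :=
      fun e he => F.isE_iff.1 ⟨e, he, by rw [inv_mul_cancel]; exact one_mem _⟩
    rcases h.mem_Z_iff.1 ha with rfl | rfl <;> rcases h.mem_Z_iff.1 hb with rfl | rfl
    · exact ⟨1, map_one f⟩
    · exact ⟨⟨v, mk v (by simp)⟩, Prod.ext (Subtype.ext v0) (Subtype.ext v1)⟩
    · exact ⟨⟨x * v * x⁻¹, mk _ (by simp)⟩, Prod.ext (Subtype.ext w0) (Subtype.ext w1)⟩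
    · refine ⟨⟨v * (x * v * x⁻¹), mk _ (by simp)⟩, Prod.ext (Subtype.ext ?_) (Subtype.ext ?_)⟩
      · show ⁅v * (x * v * x⁻¹), r0⁆ = _
        rw [comm_mul_left, w0, v0, mul_one, (mem_Cu.1 F.vC).eq, mul_inv_cancel_right]
      · show ⁅v * (x * v * x⁻¹), r1⁆ = _
        rw [comm_mul_left, w1, v1, mul_one, mul_inv_cancel, one_mul]
  rw [card_eq_card_quotient_mul_card_subgroup f.ker,
    Nat.card_congr (QuotientGroup.quotientKerEquivOfSurjective f hsurj).toEquiv, hker,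
    Nat.card_congr (subgroupOfEquivOfLe (zpowers_le.2 huE)).toEquiv, Nat.card_prod, Nat.card_zpowers,
    h.ordu]

end Frame

namespace Turn

variable {h : Hyp u x} {Q D : Subgroup G} {S : Sylow 2 G} {s v y : G} {T : Top h Q D S s}
  {F : Frame h Q S v} (Y : Turn T F y)
include Y

theorem y_normalizer (hw1 : F.IsE (y * (x * v * x⁻¹) * y⁻¹)) : y ∈ normalizer (F.D : Set G) := by
  have hyE : Invar y (omegaCenter F.D) := by
    intro a ha
    obtain ⟨e, he, hz⟩ := F.isE_iff.2 ha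
    have hu' : u ∈ omegaCenter F.D :=
      ⟨F.u_mem_D, h.u2, fun d hd => mem_Cu.1 (F.le_C (F.D_le hd))⟩
    have hv' : v ∈ omegaCenter F.D := F.isE_iff.1 ⟨v, by simp, by rw [inv_mul_cancel]; exact one_mem _⟩
    have hye : y * e * y⁻¹ ∈ omegaCenter F.D := by
      rcases he with rfl | rfl | rfl | rfl
      · rw [mul_one, mul_inv_cancel]; exact one_mem _
      · rw [Y.yv]; exact mul_mem hu' hv'
      · exact F.isE_iff.1 hw1
      · rw [show y * (v * (x * v * x⁻¹)) * y⁻¹ = y * v * y⁻¹ * (y * (x * v * x⁻¹) * y⁻¹) by group,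
          Y.yv]
        exact mul_mem (mul_mem hu' hv') (F.isE_iff.1 hw1)
    rw [show y * a * y⁻¹ = y * e * y⁻¹ * (y * (e⁻¹ * a) * y⁻¹) by group]
    refine mul_mem hye ?_
    rcases h.mem_Z_iff.1 hz with e' | e' <;> rw [e']
    · rw [mul_one, mul_inv_cancel]; exact one_mem _
    · rw [Y.yu]; exact hv'
  refine mem_normalizer_of_invar fun d hd => Y.mem_D_of (Y.yR d (F.D_le_R hd)) ?_
  have hwE : x * v * x⁻¹ ∈ omegaCenter F.D :=
    F.isE_iff.1 ⟨x * v * x⁻¹, by simp, by rw [inv_mul_cancel]; exact one_mem _⟩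
  have := ((invar_le_conj hyE hwE).2.2 d hd).map (MulAut.conj y).toMonoidHom
  simpa [mul_assoc] using this

theorem D_normalizer {g : G} (hg : g ∈ F.R ∨ g ∈ Q) : g ∈ normalizer (F.D : Set G) := by
  have hQ : ∀ {g}, g ∈ Q → g ∈ normalizer (F.D : Set G) := fun hg =>
    mem_normalizer_of_invar fun d hd => F.D_normal hg hd
  rcases hg with hg | hg
  swap
  · exact hQ hg
  have hsD : s ∈ normalizer (F.D : Set G) := by
    refine mem_normalizer_of_invar fun d hd => Y.mem_D_of ?_ ?_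
    · exact F.R_normal T.s_mem (F.D_le_R hd)
    · obtain ⟨hdQ, c1, c2⟩ := F.mem_D.1 hd
      have e : x * v * x⁻¹ = s * (v * (x * v * x⁻¹)) * s⁻¹ := by
        have hsw : s * (x * v * x⁻¹) * s⁻¹ = v * (x * v * x⁻¹) := by
          have := Y.ws
          rw [commutatorElement_def, inv_eq_of_mul_eq_one_right F.w2] at this
          calc s * (x * v * x⁻¹) * s⁻¹
              = (x * v * x⁻¹)⁻¹ * ((x * v * x⁻¹) * s * (x * v * x⁻¹) * s⁻¹) := by group
            _ = (x * v * x⁻¹)⁻¹ * v := by rw [this]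
            _ = v * (x * v * x⁻¹) := by
              rw [inv_eq_of_mul_eq_one_right F.w2, F.vw_comm.eq]
        rw [show s * (v * (x * v * x⁻¹)) * s⁻¹ = s * v * s⁻¹ * (s * (x * v * x⁻¹) * s⁻¹) by group,
          Y.sv, hsw, ← mul_assoc, F.v2, one_mul]
      rw [e]
      simpa using (c1.mul_right c2).map (MulAut.conj s).toMonoidHom
  rcases Y.valW hg with ⟨hq, -⟩ | ⟨hq, -⟩
  · exact hQ hq
  · have := (normalizer (F.D : Set G)).mul_mem hsD (hQ ((T.index g (F.mem_R.1 hg).1).resolve_left hq))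
    rwa [mul_inv_cancel_left] at this

theorem isE_all (hw1 : F.IsE (y * (x * v * x⁻¹) * y⁻¹)) : ∀ d ∈ F.D, F.IsE d := by
  classical
  haveI : Fact (Nat.Prime 2) := ⟨Nat.prime_two⟩
  haveI : Fact (Nat.Prime 3) := ⟨Nat.prime_three⟩
  by_contra hne
  push Not at hne
  obtain ⟨d0, hd0, hd0E⟩ := hne
  set w := x * v * x⁻¹ with hw
  set N := normalizer (F.D : Set G) with hN
  have hDN : F.D ≤ N := le_normalizer
  have hxN : x ∈ N := mem_normalizer_of_invar F.D_invar
  have hyN : y ∈ N := Y.y_normalizer hw1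
  have hsN : s ∈ N := Y.D_normalizer (Or.inl Y.sR)
  set E := omegaCenter F.D with hE
  have hEN : E ≤ N := fun a ha => hDN ha.1
  haveI : (E.subgroupOf N).Normal := ⟨fun a ha g => omegaCenter_conj g.2 ha⟩
  set K := N ⧸ E.subgroupOf N
  set π : N →* K := QuotientGroup.mk' (E.subgroupOf N) with hπdef
  have hπ : ∀ g : N, π g = 1 ↔ (g : G) ∈ E := fun g => by
    rw [hπdef, QuotientGroup.mk'_apply, QuotientGroup.eq_one_iff, mem_subgroupOf]
  set Db := (F.D.subgroupOf N).map π with hDb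
  haveI : Db.Normal := (normal_in_normalizer (H := F.D)).map π (QuotientGroup.mk'_surjective _)
  set M := omegaCenter Db with hM
  haveI : M.Normal := ⟨fun a ha g => omegaCenter_conj
    (mem_normalizer_iff.2 fun k => ⟨fun hk => ‹Db.Normal›.conj_mem k hk g, fun hk => by
      simpa [mul_assoc] using ‹Db.Normal›.conj_mem _ hk g⁻¹⟩) ha⟩
  have hDp : IsPGroup 2 Db :=
    (IsPGroup.of_equiv (IsPGroup.to_le S.isPGroup' (F.D_le.trans F.le_S))
      (subgroupOfEquivOfLe hDN).symm).map π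
  have hMne : M ≠ ⊥ := fun e => by
    haveI : Nontrivial Db := ⟨⟨π ⟨d0, hDN hd0⟩, mem_map_of_mem _ hd0⟩, 1, fun e' =>
      hd0E (F.isE_iff.2 ((hπ _).1 (congrArg Subtype.val e')))⟩
    haveI := hDp.center_nontrivial
    obtain ⟨z, hz⟩ := exists_prime_orderOf_dvd_card' (G := center Db) 2 (by
      obtain ⟨k, hk0, hk'⟩ := ((hDp.to_subgroup (center Db)).nontrivial_iff_card).1 inferInstance
      rw [hk']; exact dvd_pow_self 2 hk0.ne')
    have hz2 : orderOf ((z : Db) : K) = 2 := by rw [orderOf_coe, orderOf_coe, hz]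
    have : ((z : Db) : K) ∈ M := ⟨(z : Db).2, Involution.mul_self hz2,
      fun g hg => congrArg Subtype.val (mem_center_iff.1 z.2 ⟨g, hg⟩)⟩
    rw [e, mem_bot] at this
    exact Involution.ne_one hz2 this
  have huE : u ∈ E := ⟨F.u_mem_D, h.u2, fun d hd => mem_Cu.1 (F.le_C (F.D_le hd))⟩
  have hlift : ∀ m ∈ M, ∃ d : N, (d : G) ∈ F.D ∧ π d = m := fun m hm => by
    obtain ⟨d, hd, e⟩ := hm.1
    exact ⟨d, hd, e⟩
  have hMD : ∀ m ∈ M, ∀ d : N, (d : G) ∈ F.D → Commute (π d) m := fun m hm d hd =>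
    hm.2.2 _ (mem_map_of_mem π hd)
  obtain ⟨⟨r0, hr0, v0, w0⟩, -⟩ := F.exists_rep
  have hr0R : r0 ∈ F.R :=
    F.mem_R.2 ⟨F.le_S hr0, (commutatorElement_eq_one_iff_commute.1 v0).symm⟩
  have hr0N : r0 ∈ N := Y.D_normalizer (Or.inl hr0R)
  set X := π ⟨x, hxN⟩
  set r := π ⟨r0, hr0N⟩
  set σ := π ⟨s, hsN⟩
  set η := π ⟨y, hyN⟩
  have hX3 : X ^ 3 = 1 := by
    rw [← map_pow, show (⟨x, hxN⟩ : N) ^ 3 = 1 from Subtype.ext (by simpa using h.x3), map_one]
  have hfpf : ∀ m ∈ M, Commute m X → m = 1 := by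
    intro m hm hc
    obtain ⟨d, hd, rfl⟩ := hlift m hm
    have hz := h.cube F.le_C F.three F.inv (F.D_le hd)
    have hzE : (d : G) * (x * d * x⁻¹) * (x * (x * d * x⁻¹) * x⁻¹) ∈ E :=
      (zpowers_le.2 huE) hz
    let d1 : N := ⟨x, hxN⟩ * d * ⟨x, hxN⟩⁻¹
    let d2 : N := ⟨x, hxN⟩ * d1 * ⟨x, hxN⟩⁻¹
    have e : π (d * d1 * d2) = 1 := (hπ _).2 hzE
    have e1 : π d1 = π d := by
      rw [map_mul, map_mul, map_inv]
      change X * π d * X⁻¹ = π d
      rw [hc.symm.eq, mul_inv_cancel_right]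
    have e2 : π d2 = π d := by
      rw [map_mul, map_mul, map_inv, e1]
      change X * π d * X⁻¹ = π d
      rw [hc.symm.eq, mul_inv_cancel_right]
    rw [map_mul, map_mul, e1, e2, hm.2.1, one_mul] at e
    exact e
  have hswap : ∀ m ∈ M, ⁅X * m * X⁻¹, r⁆ = ⁅m, X * r * X⁻¹⁆ := by
    intro m hm
    obtain ⟨d, hd, rfl⟩ := hlift m hm
    have hs' := F.swap (F.D_le hd) hr0
    rw [← inv_mul_eq_one, ← map_inv, ← map_mul, ← map_mul, ← map_mul, ← map_mul,
      ← map_commutatorElement, ← map_commutatorElement, ← map_inv, ← map_mul, hπ]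
    exact (zpowers_le.2 huE) hs'
  have hsq : ∀ {g : G} (hg : g ∈ N), g * g ∈ F.D → ∀ m ∈ M, Commute (π ⟨g, hg⟩ * π ⟨g, hg⟩) m :=
    fun hg hgD m hm => by rw [← map_mul]; exact hMD m hm _ hgD
  have hr2 : r0 * r0 ∈ F.D := F.mem_D_of_comm (mul_mem hr0 hr0)
    (by rw [F.comm_mul hr0 (F.plane _ hr0), v0, one_mul])
    (by rw [F.comm_mul hr0 (F.planeW hr0), w0, h.u2])
  have hs2 : s * s ∈ F.D := (zpowers_le.2 F.u_mem_D) T.s2
  have hwmul : ∀ {a b : G}, a ∈ F.R → b ∈ F.R → ⁅w, a * b⁆ = ⁅w, a⁆ * ⁅w, b⁆ :=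
    fun ha hb => Y.comm_mul_R (Y.inV_w hb) ha
  have hwinv : ∀ {a : G}, a ∈ F.R → ⁅w, a⁻¹⁆ = ⁅w, a⁆⁻¹ := fun ha => by
    refine eq_inv_of_mul_eq_one_right ?_
    rw [← hwmul ha (inv_mem ha), mul_inv_cancel, commutatorElement_one_right]
  have hrs : r0⁻¹ * s⁻¹ * r0 * s ∈ F.D := by
    have hm := mul_mem (mul_mem (mul_mem (inv_mem hr0R) (inv_mem Y.sR)) hr0R) Y.sR
    refine Y.mem_D_of hm (commutatorElement_eq_one_iff_commute.1 ?_).symm
    rw [hwmul (mul_mem (mul_mem (inv_mem hr0R) (inv_mem Y.sR)) hr0R) Y.sR,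
      hwmul (mul_mem (inv_mem hr0R) (inv_mem Y.sR)) hr0R, hwmul (inv_mem hr0R) (inv_mem Y.sR),
      hwinv hr0R, hwinv Y.sR, w0, Y.ws]
    rw [show u⁻¹ * v⁻¹ * u * v = ⁅u⁻¹, v⁻¹⁆ by simp only [commutatorElement_def]; group]
    exact commutatorElement_eq_one_iff_commute.2 Y.vu.symm.inv_inv
  have ht : s⁻¹ * (y * r0 * y⁻¹) ∈ F.D := by
    set t := y * r0 * y⁻¹ with ht
    have htR : t ∈ F.R := Y.yR _ hr0R
    refine Y.mem_D_of (mul_mem (inv_mem Y.sR) htR) (commutatorElement_eq_one_iff_commute.1 ?_).symm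
    have hw1t : ⁅y * w * y⁻¹, t⁆ = v := by rw [ht, ← conj_comm, w0, Y.yu]
    obtain ⟨e, he, hz⟩ := hw1
    have hwt : ⁅w, t⁆ = v := by
      have e1 : ⁅e, t⁆ = v := by
        rw [← hw1t, show y * w * y⁻¹ = e * (e⁻¹ * (y * w * y⁻¹)) by group, comm_mul_left,
          (commutatorElement_eq_one_iff_commute.2
            (h.Z_comm (F.S_le (F.mem_R.1 htR).1) hz).symm :), mul_one, mul_inv_cancel, one_mul]
      have hv1 : v ≠ 1 := Involution.ne_one F.v_ord
      have htv : ⁅v, t⁆ = 1 := commutatorElement_eq_one_iff_commute.2 (F.mem_R.1 htR).2.symm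
      rcases he with rfl | rfl | rfl | rfl
      · rw [commutatorElement_one_left] at e1; exact absurd e1.symm hv1
      · rw [htv] at e1; exact absurd e1.symm hv1
      · exact e1
      · rwa [comm_mul_left, htv, mul_one, (Y.inV_comm (Y.inV_w htR) Y.v_R).eq,
          mul_inv_cancel_right] at e1
    rw [hwmul (inv_mem Y.sR) htR, hwinv Y.sR, Y.ws, hwt, inv_mul_cancel]
  obtain ⟨hrr', m, hm, hm1, hmr, hms⟩ := commute_reflections (M := M) (fun m hm => hm.2.1) hMne
    (r := r) (s := σ) (t := η) hX3 hfpf hswap (hsq hr0N hr2) (hsq hsN hs2)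
    (by rw [← map_inv, ← map_mul, ← map_mul, ← map_inv]; exact congrArg π (Subtype.ext T.sx))
    (fun m hm => by
      simp only [r, σ, ← map_inv, ← map_mul]
      exact hMD m hm _ hrs)
    (fun m hm => by
      simp only [r, σ, η, ← map_inv, ← map_mul]
      exact hMD m hm _ ht)
  -- the elements of `R` fix `m`
  have hRfix : ∀ m ∈ M, Commute r m → Commute σ m → ∀ k : N, (k : G) ∈ F.R → Commute (π k) m := by
    intro m hm hmr hms k hk
    have hQfix : ∀ q : N, (q : G) ∈ Q → (q : G) ∈ F.R → Commute (π q) m := by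
      intro q hqQ hqR
      have hqv : ⁅v, (q : G)⁆ = 1 :=
        commutatorElement_eq_one_iff_commute.2 (F.mem_R.1 hqR).2.symm
      rcases h.mem_Z_iff.1 (F.planeW hqQ) with e | e
      · exact hMD m hm q (F.mem_D_of_comm hqQ hqv e)
      · have hd : r0⁻¹ * (q : G) ∈ F.D := by
          refine F.mem_D_of_comm (mul_mem (inv_mem hr0) hqQ) ?_ ?_
          · rw [F.comm_mul (inv_mem hr0) (F.plane _ hqQ), hqv, mul_one]
            exact commutatorElement_eq_one_iff_commute.2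
              (commutatorElement_eq_one_iff_commute.1 v0).inv_right
          · rw [hwmul (inv_mem hr0R) hqR, hwinv hr0R, w0, e, inv_mul_cancel]
        have := hmr.mul_left (hMD m hm (⟨r0, hr0N⟩⁻¹ * q) hd)
        rwa [← map_mul, mul_inv_cancel_left] at this
    rcases Y.valW hk with ⟨hq, -⟩ | ⟨hq, -⟩
    · exact hQfix k hq hk
    · have := hms.mul_left (hQfix (⟨s, hsN⟩⁻¹ * k)
        ((T.index _ (F.mem_R.1 hk).1).resolve_left hq) (mul_mem (inv_mem Y.sR) hk))
      rwa [← map_mul, mul_inv_cancel_left] at this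
  have hyr : ∀ k : N, (k : G) ∈ F.R → Commute (π k) (η⁻¹ * m * η) := fun k hk => by
    have := (hRfix m hm hmr hms (⟨y, hyN⟩ * k * ⟨y, hyN⟩⁻¹) (Y.yR _ hk)).map
      (MulAut.conj η⁻¹).toMonoidHom
    simpa [η, mul_assoc] using this
  have hm' : η⁻¹ * m * η ∈ M := by
    have := ‹M.Normal›.conj_mem m hm η⁻¹
    rwa [inv_inv] at this
  -- an element permuting `u, v, uv`
  have hr'N : x * r0 * x⁻¹ ∈ N := mul_mem (mul_mem hxN hr0N) (inv_mem hxN)
  set g : N := ⟨x * r0 * x⁻¹, hr'N⟩ * (⟨y, hyN⟩ * ⟨x * r0 * x⁻¹, hr'N⟩ * ⟨y, hyN⟩⁻¹) with hg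
  have hgm : Commute (π g) m := by
    rw [hg, map_mul, map_mul, map_mul, map_inv,
      show π ⟨x * r0 * x⁻¹, hr'N⟩ = X * r * X⁻¹ by rw [← map_inv, ← map_mul, ← map_mul]; rfl]
    refine Commute.mul_left ?_ ?_
    · exact hrr' m hm hmr
    · have h1 := (hrr' _ hm' (hyr ⟨r0, hr0N⟩ hr0R)).map (MulAut.conj η).toMonoidHom
      simpa [mul_assoc, η] using h1
  set r' := x * r0 * x⁻¹ with hr'
  have hr'Q : r' ∈ Q := F.inv _ hr0
  have hr'u : r' * u * r'⁻¹ = u := by rw [(mem_Cu.1 (F.le_C hr'Q)).eq, mul_inv_cancel_right]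
  have hvr' : ⁅v, r'⁆ = u := by
    have e1 : ⁅x * w * x⁻¹, r'⁆ = u := by rw [hr', ← conj_comm, hw, w0, h.x_conj_u]
    have e2 : ⁅w, r'⁆ = 1 := by rw [hr', hw, ← conj_comm, v0, mul_one, mul_inv_cancel]
    rw [hw, F.planeXW hr'Q, ← hw, e2, mul_one] at e1
    exact e1
  have hr'v : r' * v * r'⁻¹ = u * v := by
    rw [commutatorElement_def, inv_eq_of_mul_eq_one_right F.v2] at hvr'
    calc r' * v * r'⁻¹ = (v * v) * (r' * v * r'⁻¹) := by rw [F.v2, one_mul]
      _ = v * (v * r' * v * r'⁻¹) := by group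
      _ = v * u := by rw [hvr']
      _ = u * v := Y.vu.eq
  have hr'uv : r' * (u * v) * r'⁻¹ = v := by
    rw [show r' * (u * v) * r'⁻¹ = r' * u * r'⁻¹ * (r' * v * r'⁻¹) by group, hr'u, hr'v, ← mul_assoc,
      h.u2, one_mul]
  set g' : G := (g : G) with hg'
  have hgg : ∀ a, g' * a * g'⁻¹ = r' * (y * (r' * (y⁻¹ * a * y) * r'⁻¹) * y⁻¹) * r'⁻¹ := fun a => by
    simp only [g', g, r', Subgroup.coe_mul, InvMemClass.coe_inv]; group
  have yi : ∀ {a b : G}, y * a * y⁻¹ = b → y⁻¹ * b * y = a := fun {a b} e => by rw [← e]; group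
  have g1 : g' * u * g'⁻¹ = v := by
    rw [hgg, yi Y.yuv, hr'uv, Y.yv, hr'uv]
  have g2 : g' * v * g'⁻¹ = u * v := by
    rw [hgg, yi Y.yu, hr'u, Y.yu, hr'v]
  have g3 : g' * (u * v) * g'⁻¹ = u := by
    rw [hgg, yi Y.yv, hr'v, Y.yuv, hr'u]
  have h3g : 3 ∣ orderOf g := by
    by_contra hne
    obtain ⟨i, hi⟩ := exists_pow_eq_self_of_coprime (x := g) (n := 3)
      (Nat.prime_three.coprime_iff_not_dvd.2 hne)
    have hc : Commute (g' ^ 3) u := by
      refine mul_inv_eq_iff_eq_mul.1 ?_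
      rw [show g' ^ 3 * u * (g' ^ 3)⁻¹ = g' * (g' * (g' * u * g'⁻¹) * g'⁻¹) * g'⁻¹ by
        rw [pow_three]; group, g1, g2, g3]
    have : Commute g' u := by
      rw [show g' = (g' ^ 3) ^ i by rw [hg', ← SubgroupClass.coe_pow, ← SubgroupClass.coe_pow, hi]]
      exact hc.pow_left i
    rw [this.eq, mul_inv_cancel_right] at g1
    exact F.v_ne g1.symm
  set g₃ := g ^ (orderOf g / 3) with hg₃
  have hg₃o : orderOf g₃ = 3 := by
    rw [hg₃, orderOf_pow_of_dvd (by
      have := Nat.le_of_dvd (orderOf_pos g) h3g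
      omega) (Nat.div_dvd_of_dvd h3g), Nat.div_div_self h3g (orderOf_pos g).ne']
  have hg₃m : Commute (π g₃) m := by rw [map_pow]; exact hgm.pow_left _
  -- the Sylow 3-subgroups of `N` have order three
  have hsyl : ∀ P : Sylow 3 N, Nat.card (P : Subgroup N) ≤ 3 := by
    intro P
    let ψ : N →* MulAut (E.subgroupOf N) := MulAut.conjNormal
    letI : MulAction (P : Subgroup N) (E.subgroupOf N) :=
      MulAction.compHom _ (ψ.comp (P : Subgroup N).subtype)
    obtain ⟨b, hb1, hbfix⟩ := IsPGroup.exists_fixed P.isPGroup' (α := E.subgroupOf N) (a := 1)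
      (fun k => map_one (ψ (k : N))) (by
        rw [Nat.card_congr (subgroupOfEquivOfLe hEN).toEquiv, F.card_E]; decide)
    set e := ((b : N) : G)
    have he2 : orderOf e = 2 := Involution.orderOf_of_sq (mem_subgroupOf.1 b.2).2.1
      fun e' => hb1 (Subtype.ext (Subtype.ext e'))
    obtain ⟨c, hc⟩ := isConj_iff.1 (h.fused e u he2 h.ordu)
    let f : (P : Subgroup N) →* Cu u := MonoidHom.codRestrict
      ((MulAut.conj c).toMonoidHom.comp (N.subtype.comp (P : Subgroup N).subtype)) (Cu u) fun k => by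
        refine mem_Cu.2 ?_
        have hk : ((k : N) : G) * e * ((k : N) : G)⁻¹ = e :=
          congrArg (fun z : E.subgroupOf N => ((z : N) : G)) (hbfix k)
        rw [← hc]
        exact ((show Commute ((k : N) : G) e from mul_inv_eq_iff_eq_mul.1 hk)).map
          (MulAut.conj c).toMonoidHom
    have hinj : Function.Injective f := fun a b e' => Subtype.ext (Subtype.ext
      ((MulAut.conj c).injective (congrArg Subtype.val e')))
    have hdvd : Nat.card (P : Subgroup N) ∣ Nat.card (Cu u) := card_dvd_of_injective f hinj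
    obtain ⟨k, hk⟩ := IsPGroup.iff_card.1 P.isPGroup'
    rw [hk] at hdvd ⊢
    by_contra hlt
    have : 2 ≤ k := by
      by_contra hk2
      interval_cases k <;> norm_num at hlt
    exact h.not_nine ((pow_dvd_pow 3 this).trans hdvd)
  have key : ∀ a : N, orderOf a = 3 → ∃ P : Sylow 3 N, (P : Subgroup N) = zpowers a := by
    intro a ha
    obtain ⟨P, hP⟩ := (IsPGroup.of_card (n := 1) (by rw [Nat.card_zpowers, ha, pow_one]) :
      IsPGroup 3 (zpowers a)).exists_le_sylow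
    exact ⟨P, (eq_of_le_of_card_ge hP (by rw [Nat.card_zpowers, ha]; exact hsyl P)).symm⟩
  obtain ⟨P, hP⟩ := key ⟨x, hxN⟩ (by rw [← orderOf_coe]; exact h.ordx)
  obtain ⟨P', hP'⟩ := key g₃ hg₃o
  obtain ⟨n, hn⟩ := MulAction.exists_smul_eq N P' P
  have hmem : (⟨x, hxN⟩ : N) ∈ (P : Subgroup N) := hP ▸ mem_zpowers _
  rw [← hn] at hmem
  change _ ∈ MulAut.conj n • (P' : Subgroup N) at hmem
  rw [mem_pointwise_smul_iff_inv_smul_mem, ← map_inv, MulAut.smul_def, MulAut.conj_apply, inv_inv,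
    hP'] at hmem
  obtain ⟨i, hi⟩ := mem_zpowers_iff.1 hmem
  have hX' : Commute X (π n * m * (π n)⁻¹) := by
    have h1 := (hg₃m.zpow_left i)
    rw [← map_zpow, hi] at h1
    have h2 := h1.map (MulAut.conj (π n)).toMonoidHom
    simpa [X, mul_assoc] using h2
  have := hfpf _ (‹M.Normal›.conj_mem m hm (π n)) hX'.symm
  exact hm1 (conj_eq_one_iff.1 this)

end Turn

end Cfsg.Agent.SelfCentSix
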