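import Cfsg.Agent.Lib.SelfCentSix.Tools
import Cfsg.Agent.Lib.Involution.StronglyEmbedded
import Cfsg.Agent.Lib.CISylow.Regular
import Cfsg.Agent.Lib.CISylow.Linear
import Cfsg.Agent.Lib.CISylow.Ident

/-!
# No elementary abelian Sylow 2-subgroup normalized by the involution centralizer

`Hyp.not_elementary` : `N(S)` would be strongly embedded, so `G ≅ PSL(2, 2ⁿ)`, where involution
centralizers are 2-groups.
-/

set_option autoImplicit false
set_option linter.unusedSectionVars false
set_option linter.style.haveILetI false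

namespace Cfsg.Agent.SelfCentSix

open Subgroup
open scoped MatrixGroups

theorem no_three_commuting {F : Type} [Field F] [Fintype F] {n : ℕ} (hn : 1 ≤ n)
    (hF : Fintype.card F = 2 ^ n) {q : Matrix.ProjectiveSpecialLinearGroup (Fin 2) F}
    (hq : q ^ 3 = 1) (hc : Commute q (CISylow.upperHom F (Multiplicative.ofAdd 1))) : q = 1 := by
  haveI : CharP F 2 := by
    obtain ⟨p, hp⟩ := CharP.exists F
    obtain ⟨k, hprime, hk⟩ := FiniteField.card F p
    rw [hF] at hk
    have : p = 2 := by
      have h1 : p ∣ 2 ^ n := hk ▸ dvd_pow_self p k.pos.ne'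
      exact (Nat.prime_dvd_prime_iff_eq hprime Nat.prime_two).1 (hprime.dvd_of_dvd_pow h1)
    exact this ▸ hp
  have two : (2 : F) = 0 := CharTwo.two_eq_zero
  have cen : ∀ A : SL(2, F), A ∈ center SL(2, F) → A = 1 := by
    intro A hA
    obtain ⟨r, hr, e⟩ := Matrix.SpecialLinearGroup.mem_center_iff.1 hA
    rw [Fintype.card_fin] at hr
    have hr1 : r = 1 := by
      have : (r - 1) * (r - 1) = 0 := by linear_combination hr + (1 - r) * two
      exact sub_eq_zero.1 (mul_self_eq_zero.1 this)
    refine Subtype.ext ?_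
    rw [← e, hr1, map_one]
    rfl
  obtain ⟨X, rfl⟩ := QuotientGroup.mk'_surjective (center SL(2, F)) q
  have hX3 : X ^ 3 = 1 := cen _ ((QuotientGroup.eq_one_iff _).1 (by simpa using hq))
  have hcomm : CISylow.upperOne (1 : F) * X = X * CISylow.upperOne 1 := by
    have e : QuotientGroup.mk' (center SL(2, F)) (CISylow.upperOne (1 : F) * X) =
        QuotientGroup.mk' _ (X * CISylow.upperOne 1) := hc.symm.eq
    rw [QuotientGroup.mk'_apply, QuotientGroup.mk'_apply, QuotientGroup.eq] at e
    exact inv_mul_eq_one.1 (cen _ e)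
  have hm := congrArg (fun M : SL(2, F) => (M : Matrix (Fin 2) (Fin 2) F)) hcomm
  simp only [Matrix.SpecialLinearGroup.coe_mul, CISylow.coe_upperOne] at hm
  have h00 := congrFun (congrFun hm 0) 0
  have h01 := congrFun (congrFun hm 0) 1
  simp [Matrix.mul_apply, Fin.sum_univ_two] at h00 h01
  have hdet := X.det_coe
  rw [Matrix.det_fin_two] at hdet
  set a := (X : Matrix (Fin 2) (Fin 2) F) 0 0
  set b := (X : Matrix (Fin 2) (Fin 2) F) 0 1
  set c := (X : Matrix (Fin 2) (Fin 2) F) 1 0
  set d := (X : Matrix (Fin 2) (Fin 2) F) 1 1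
  have hda : d = a := by linear_combination h01
  have hc0 : c = 0 := by linear_combination h00
  have ha : a = 1 := by
    rw [hc0, hda, mul_zero, sub_zero] at hdet
    have : (a - 1) * (a - 1) = 0 := by linear_combination hdet + (1 - a) * two
    exact sub_eq_zero.1 (mul_self_eq_zero.1 this)
  have hX2 : X * X = 1 := by
    have hb : b + b = 0 := by linear_combination b * two
    refine Subtype.ext ?_
    ext i j
    fin_cases i <;> fin_cases j <;>
      simp [Matrix.SpecialLinearGroup.coe_mul, Matrix.mul_apply, Fin.sum_univ_two, a, b, c, d] at * <;>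
      simp_all
  have : X = 1 := by
    rw [pow_three, hX2, mul_one] at hX3
    exact hX3
  rw [this, map_one]

variable {G : Type*} [Group G] [Finite G] {u x : G}

theorem Hyp.not_elementary (h : Hyp u x) (S : Sylow 2 G) (hSC : (S : Subgroup G) ≤ Cu u)
    (he : ∀ a ∈ (S : Subgroup G), a * a = 1)
    (hn : Cu u ≤ normalizer ((S : Subgroup G) : Set G)) : False := by
  haveI : Fact (Nat.Prime 2) := ⟨Nat.prime_two⟩
  haveI := h.simple
  set M := normalizer ((S : Subgroup G) : Set G)
  have hcomm : ∀ a ∈ (S : Subgroup G), ∀ b ∈ (S : Subgroup G), Commute a b := fun a ha b hb => by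
    show a * b = b * a
    calc a * b = (a * b)⁻¹ := (inv_eq_of_mul_eq_one_right (he _ (mul_mem ha hb))).symm
      _ = b⁻¹ * a⁻¹ := mul_inv_rev a b
      _ = b * a := by rw [inv_eq_of_mul_eq_one_right (he a ha), inv_eq_of_mul_eq_one_right (he b hb)]
  have hmemS : ∀ a ∈ M, ∀ j : ℕ, a ^ 2 ^ j = 1 → a ∈ (S : Subgroup G) := by
    intro a ha j hj
    have hodd := odd_relIndex S (le_normalizer : (S : Subgroup G) ≤ M)
    haveI : ((S : Subgroup G).subgroupOf M).Normal := normal_in_normalizer
    have hm : ((⟨a, ha⟩ : M) : M ⧸ (S : Subgroup G).subgroupOf M) = 1 := by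
      refine orderOf_eq_one_iff.1 (Nat.eq_one_of_dvd_coprimes ?_ (orderOf_dvd_of_pow_eq_one
        (show ((⟨a, ha⟩ : M) : M ⧸ (S : Subgroup G).subgroupOf M) ^ 2 ^ j = 1 by
          rw [← QuotientGroup.mk_pow, show (⟨a, ha⟩ : M) ^ 2 ^ j = 1 from Subtype.ext (by simpa using hj),
            QuotientGroup.mk_one])) (orderOf_dvd_natCard _))
      rw [← Subgroup.index_eq_card]
      exact (Nat.coprime_two_left.2 hodd).pow_left j
    exact mem_subgroupOf.1 ((QuotientGroup.eq_one_iff _).1 hm)
  have huS : u ∈ (S : Subgroup G) :=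
    hmemS u (hn h.u_mem) 1 (by rw [pow_one, sq, h.u2])
  have hcent : ∀ a ∈ (S : Subgroup G), orderOf a = 2 → ∀ g, Commute g a → g ∈ M := by
    intro a ha ha2 g hg
    obtain ⟨n, hnM, e⟩ := exists_normalizer_conj S (fun s hs => hcomm s hs u huS)
      (fun s hs => hcomm s hs a ha) (h.fused u a h.ordu ha2)
    have hc : n⁻¹ * g * n ∈ Cu u := mem_Cu.2 (by
      have := hg.map (MulAut.conj n⁻¹).toMonoidHom
      simp only [MulEquiv.coe_toMonoidHom, MulAut.conj_apply, inv_inv] at this
      rwa [← e, show n⁻¹ * (n * u * n⁻¹) * n = u by group] at this)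
    have := mul_mem (mul_mem hnM (hn hc)) (inv_mem hnM)
    rwa [show n * (n⁻¹ * g * n) * n⁻¹ = g by group] at this
  have hM : Cfsg.IsStronglyEmbedded M := by
    refine Involution.isStronglyEmbedded_iff_forall.2 ⟨fun e => ?_,
      even_iff_two_dvd.2 (h.ordu ▸ Subgroup.orderOf_dvd_natCard M (le_normalizer huS)), ?_⟩
    · rcases (Subgroup.normalizer_eq_top_iff.1 e).eq_bot_or_eq_top with e' | e'
      · exact h.u_ne (mem_bot.1 (e' ▸ huS))
      · exact h.nonab ⟨⟨fun a b => (hcomm a (e' ▸ mem_top a) b (e' ▸ mem_top b)).eq⟩⟩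
    · intro g t ht htM hg
      have h2 : t ^ 2 ^ 1 = 1 := by rw [pow_one, ← ht, pow_orderOf_eq_one]
      have htS := hmemS t htM 1 h2
      have hgS := hmemS _ hg 1 (by rw [conj_pow, h2, mul_one, mul_inv_cancel])
      have key : ∀ s ∈ (S : Subgroup G), g * s * g⁻¹ ∈ (S : Subgroup G) := by
        intro s hs
        refine hmemS _ (hcent _ hgS ((Involution.orderOf_conj g t).trans ht) _ ?_) 1
          (by rw [pow_one, sq, show g * s * g⁻¹ * (g * s * g⁻¹) = g * (s * s) * g⁻¹ by group, he s hs,
            mul_one, mul_inv_cancel])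
        simpa using (hcomm s hs t htS).map (MulAut.conj g).toMonoidHom
      exact mem_normalizer_iff.2 fun s => ⟨key s, fun hs => by
        have := (SelfCentSix.invar_le_conj (x := g) (A := (S : Subgroup G)) key hs)
        rwa [show g⁻¹ * (g * s * g⁻¹) * g = s by group] at this⟩
  obtain ⟨-, hfam⟩ := CISylow.regular_families_of_se hM
  obtain ⟨F, _, _, n, hn2, hF, ⟨e⟩⟩ :=
    CISylow.psl_of_abelian hfam S ⟨⟨fun a b => Subtype.ext (hcomm a a.2 b b.2).eq⟩⟩
  set U1 := CISylow.upperHom F (Multiplicative.ofAdd (1 : F))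
  have hU : orderOf U1 = 2 := by
    have hne : Multiplicative.ofAdd (1 : F) ≠ 1 := by simp
    rw [orderOf_injective _ CISylow.upperHom_injective]
    refine Involution.orderOf_of_sq ?_ hne
    haveI : CharP F 2 := by
      obtain ⟨p, hp⟩ := CharP.exists F
      obtain ⟨k, hprime, hk⟩ := FiniteField.card F p
      rw [hF] at hk
      have : p = 2 := by
        have h1 : p ∣ 2 ^ n := hk ▸ dvd_pow_self p k.pos.ne'
        exact (Nat.prime_dvd_prime_iff_eq hprime Nat.prime_two).1 (hprime.dvd_of_dvd_pow h1)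
      exact this ▸ hp
    rw [← ofAdd_add, CharTwo.add_self_eq_zero, ofAdd_zero]
  obtain ⟨g, hg⟩ := isConj_iff.1 (h.fused u (e.symm U1) h.ordu (by rw [MulEquiv.orderOf_eq, hU]))
  have hq : e (g * x * g⁻¹) = 1 := by
    refine no_three_commuting (by omega) hF (by rw [← map_pow, conj_pow, h.x3, mul_one, mul_inv_cancel, map_one]) ?_
    have h1 := (h.comm.symm.map (MulAut.conj g).toMonoidHom).map e.toMonoidHom
    simpa [hg] using h1
  rw [map_eq_one_iff _ e.injective, conj_eq_one_iff] at hq
  have := h.ordx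
  rw [hq, orderOf_one] at this
  omega

end Cfsg.Agent.SelfCentSix
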