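import Cfsg.Agent.Lib.SelfCentSix.Tools

/-!
# An invariant four group modulo `⟨u⟩`

`Frame h Q S v` : `Q ≤ S` is `x`-invariant, `S` a Sylow 2-subgroup of `G` in `C_G(u)`, `v` an involution
of `Q` central modulo `⟨u⟩`, and `u` is the only central involution of `Q` and of `S`.  With
`w = x v x⁻¹` and `D = C_Q(⟨v, w⟩)`:

* `exists_cycle` : `y` of order three normalizing `C_S(v)` and permuting `u, v, uv` cyclically
* `isE_of_central` : the central involutions of `D` lie in `⟨u, v, w⟩`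
* `mem_Z_of_inV` : commutators with values in `⟨u, v⟩` have values in `⟨u⟩`
-/

set_option autoImplicit false
set_option linter.unusedSectionVars false
set_option linter.style.haveILetI false

namespace Cfsg.Agent.SelfCentSix

open Subgroup SelfCentThree
open scoped commutatorElement

theorem comm_mul_right {G : Type*} [Group G] (a g k : G) :
    ⁅a, g * k⁆ = ⁅a, g⁆ * (g * ⁅a, k⁆ * g⁻¹) := by
  simp only [commutatorElement_def]; group

theorem comm_mul_left {G : Type*} [Group G] (a b g : G) :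
    ⁅a * b, g⁆ = a * ⁅b, g⁆ * a⁻¹ * ⁅a, g⁆ := by
  simp only [commutatorElement_def]; group

theorem conj_comm {G : Type*} [Group G] (c a b : G) :
    c * ⁅a, b⁆ * c⁻¹ = ⁅c * a * c⁻¹, c * b * c⁻¹⁆ := by
  simp only [commutatorElement_def]; group

variable {G : Type*} [Group G] [Finite G] {u x : G}

/-- The hypotheses. -/
structure Frame (h : Hyp u x) (Q : Subgroup G) (S : Sylow 2 G) (v : G) : Prop where
  le_S : Q ≤ (S : Subgroup G)
  S_le : (S : Subgroup G) ≤ Cu u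
  inv : Invar x Q
  u_mem : u ∈ Q
  v_ord : orderOf v = 2
  v_mem : v ∈ Q
  v_ne : v ≠ u
  plane : ∀ g ∈ Q, ⁅v, g⁆ ∈ zpowers u
  planeS : ∀ g ∈ (S : Subgroup G), ⁅v, g⁆ ∈ zpowers u
  centerQ : ∀ z ∈ Q, orderOf z = 2 → (∀ g ∈ Q, Commute g z) → z = u
  centerS : ∀ z ∈ (S : Subgroup G), orderOf z = 2 → (∀ g ∈ (S : Subgroup G), Commute g z) → z = u

namespace Frame

variable {h : Hyp u x} {Q : Subgroup G} {S : Sylow 2 G} {v : G} (F : Frame h Q S v)
include F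

theorem le_C : Q ≤ Cu u := F.le_S.trans F.S_le

theorem three : ¬ 3 ∣ Nat.card Q :=
  not_three_dvd_of_two (IsPGroup.to_le S.isPGroup' F.le_S)

theorem invar_back {a : G} (ha : a ∈ Q) : x⁻¹ * a * x ∈ Q := invar_le_conj F.inv ha

theorem swap {a b : G} (ha : a ∈ Q) (hb : b ∈ Q) :
    ⁅x * a * x⁻¹, b⁆⁻¹ * ⁅a, x * b * x⁻¹⁆ ∈ zpowers u := h.swap F.le_C F.three F.inv ha hb

theorem v2 : v * v = 1 := Involution.mul_self F.v_ord

theorem vC : v ∈ Cu u := F.le_C F.v_mem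

theorem v_not_Z : v ∉ zpowers u := fun e => by
  rcases h.mem_Z_iff.1 e with e | e
  · exact Involution.ne_one F.v_ord e
  · exact F.v_ne e

theorem w_mem : x * v * x⁻¹ ∈ Q := F.inv _ F.v_mem

theorem w_ord : orderOf (x * v * x⁻¹) = 2 := (Involution.orderOf_conj _ _).trans F.v_ord

theorem w2 : x * v * x⁻¹ * (x * v * x⁻¹) = 1 := Involution.mul_self F.w_ord

theorem w_not_Z : x * v * x⁻¹ ∉ zpowers u := fun e => F.v_not_Z (by
  have : v = x⁻¹ * (x * v * x⁻¹) * x := by group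
  rw [this, mul_assoc, ← (h.Z_comm h.x_mem e).eq, inv_mul_cancel_left]
  exact e)

theorem vw_not_Z : v⁻¹ * (x * v * x⁻¹) ∉ zpowers u := fun e => F.v_not_Z (by
  refine h.fixed F.le_C F.three F.inv F.v_mem ?_
  have e' : x * v * x⁻¹ * v⁻¹ = v * (v⁻¹ * (x * v * x⁻¹)) * v⁻¹ := by group
  rw [e', (h.Z_comm F.vC e).eq, mul_inv_cancel_right]
  exact e)

theorem planeW {g : G} (hg : g ∈ Q) : ⁅x * v * x⁻¹, g⁆ ∈ zpowers u := by
  have e : ⁅x * v * x⁻¹, g⁆ = x * ⁅v, x⁻¹ * g * x⁆ * x⁻¹ := by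
    rw [conj_comm]; group
  rw [e, h.Z_x (F.plane _ (F.invar_back hg))]
  exact F.plane _ (F.invar_back hg)

theorem vw_comm : Commute v (x * v * x⁻¹) := by
  have hm := h.cube F.le_C F.three F.inv F.v_mem
  set w := x * v * x⁻¹ with hw
  set w' := x * w * x⁻¹ with hw'
  have hw'2 : w' * w' = 1 := by
    rw [hw']
    calc x * w * x⁻¹ * (x * w * x⁻¹) = x * (w * w) * x⁻¹ := by group
      _ = 1 := by rw [hw, F.w2]; group
  have hC : v * w ∈ Cu u := mul_mem F.vC (F.le_C F.w_mem)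
  have e : v * w = v * w * w' * w' := by rw [mul_assoc (v * w), hw'2, mul_one]
  have e2 : (v * w) * (v * w) = 1 := by
    rw [e]
    have hz : Commute (v * w * w') w' :=
      (h.Z_comm (F.le_C (F.inv _ F.w_mem)) hm).symm
    calc v * w * w' * w' * (v * w * w' * w') = (v * w * w') * (w' * (v * w * w')) * w' := by group
      _ = (v * w * w') * ((v * w * w') * w') * w' := by rw [hz.eq]
      _ = (v * w * w') * (v * w * w') * (w' * w') := by group
      _ = 1 := by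
        rw [hw'2, mul_one]
        rcases h.mem_Z_iff.1 hm with e | e <;> rw [e]
        · rw [one_mul]
        · exact h.u2
  show v * w = w * v
  calc v * w = (v * w)⁻¹ := (inv_eq_of_mul_eq_one_right e2).symm
    _ = w⁻¹ * v⁻¹ := mul_inv_rev _ _
    _ = w * v := by rw [inv_eq_of_mul_eq_one_right F.v2, hw, inv_eq_of_mul_eq_one_right F.w2]

/-- `x w x⁻¹ ≡ v w` modulo `⟨u⟩`. -/
theorem xw : (v * (x * v * x⁻¹))⁻¹ * (x * (x * v * x⁻¹) * x⁻¹) ∈ zpowers u := by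
  have hm := h.cube F.le_C F.three F.inv F.v_mem
  set w := x * v * x⁻¹
  have e : (v * w)⁻¹ = v * w := by
    rw [mul_inv_rev, inv_eq_of_mul_eq_one_right F.v2, inv_eq_of_mul_eq_one_right F.w2,
      F.vw_comm.eq]
  rw [e]
  exact hm

/-- Elements with commutators in `⟨u⟩` form a homomorphism. -/
theorem comm_mul {a g k : G} (hg : g ∈ Q) (hak : ⁅a, k⁆ ∈ zpowers u) :
    ⁅a, g * k⁆ = ⁅a, g⁆ * ⁅a, k⁆ := by
  rw [comm_mul_right, (h.Z_comm (F.le_C hg) hak).eq, mul_inv_cancel_right]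

/-- `x` permutes the values: `⁅xwx⁻¹, g⁆ = ⁅v, g⁆⁅w, g⁆`. -/
theorem planeXW {g : G} (hg : g ∈ Q) :
    ⁅x * (x * v * x⁻¹) * x⁻¹, g⁆ = ⁅v, g⁆ * ⁅x * v * x⁻¹, g⁆ := by
  have hz := F.xw
  set w := x * v * x⁻¹ with hw
  set z := (v * w)⁻¹ * (x * w * x⁻¹) with hzd
  rw [show x * w * x⁻¹ = v * w * z by rw [hzd]; group, comm_mul_left,
    (commutatorElement_eq_one_iff_commute.2 (h.Z_comm (F.le_C hg) hz).symm :), mul_one,
    mul_inv_cancel, one_mul, comm_mul_left, (h.Z_comm F.vC (F.planeW hg)).eq, mul_inv_cancel_right]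
  exact ((h.Z_comm (h.Z_le (F.plane g hg)) (F.planeW hg)).eq).symm

theorem exists_rep :
    (∃ r ∈ Q, ⁅v, r⁆ = 1 ∧ ⁅x * v * x⁻¹, r⁆ = u) ∧ ∃ r ∈ Q, ⁅v, r⁆ = u ∧ ⁅x * v * x⁻¹, r⁆ = 1 := by
  obtain ⟨g, hg, hgv⟩ : ∃ g ∈ Q, ⁅v, g⁆ = u := by
    by_contra hne
    push Not at hne
    refine F.v_ne (F.centerQ v F.v_mem F.v_ord fun g hg => ?_)
    rcases h.mem_Z_iff.1 (F.plane g hg) with e | e
    · exact (commutatorElement_eq_one_iff_commute.1 e).symm
    · exact absurd e (hne g hg)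
  set g1 := x * g * x⁻¹ with hg1
  set g2 := x * g1 * x⁻¹ with hg2
  have h1 : g1 ∈ Q := F.inv _ hg
  have h2 : g2 ∈ Q := F.inv _ h1
  have key : ∀ a k : G, ⁅a, k⁆ ∈ zpowers u → ⁅x * a * x⁻¹, x * k * x⁻¹⁆ = ⁅a, k⁆ := fun a k ha => by
    rw [← conj_comm, h.Z_x ha]
  have a1 : ⁅x * v * x⁻¹, g1⁆ = u := (key v g (F.plane g hg)).trans hgv
  have a2 : ⁅x * (x * v * x⁻¹) * x⁻¹, g2⁆ = u := (key _ g1 (F.planeW h1)).trans a1
  rw [F.planeXW h2] at a2
  have a3 : ⁅x * (x * v * x⁻¹) * x⁻¹, g1⁆ = ⁅x * v * x⁻¹, g⁆ := key _ g (F.planeW hg)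
  rw [F.planeXW h1, a1] at a3
  have mv : ∀ {k l : G}, k ∈ Q → l ∈ Q → ⁅v, k * l⁆ = ⁅v, k⁆ * ⁅v, l⁆ :=
    fun hk hl => F.comm_mul hk (F.plane _ hl)
  have mw : ∀ {k l : G}, k ∈ Q → l ∈ Q →
      ⁅x * v * x⁻¹, k * l⁆ = ⁅x * v * x⁻¹, k⁆ * ⁅x * v * x⁻¹, l⁆ :=
    fun hk hl => F.comm_mul hk (F.planeW hl)
  have hu := h.u2
  have a4 : ⁅v, g1⁆ = ⁅x * v * x⁻¹, g⁆ * u := by rw [← a3, mul_assoc, hu, mul_one]
  rcases h.mem_Z_iff.1 (F.planeW hg) with e | e
  · -- `g` is of the second kind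
    rw [e, one_mul] at a4
    exact ⟨⟨g * g1, mul_mem hg h1, by rw [mv hg h1, hgv, a4, hu], by rw [mw hg h1, e, a1, one_mul]⟩,
      g, hg, hgv, e⟩
  · -- `g1` is of the first kind
    rw [e, hu] at a4
    exact ⟨⟨g1, h1, a4, a1⟩, g * g1, mul_mem hg h1, by rw [mv hg h1, hgv, a4, mul_one],
      by rw [mw hg h1, e, a1, hu]⟩

/-- The subgroup `C_Q(⟨v, w⟩)`. -/
def D (_F : Frame h Q S v) : Subgroup G := Q ⊓ Cu v ⊓ Cu (x * v * x⁻¹)

theorem mem_D {d : G} : d ∈ F.D ↔ d ∈ Q ∧ Commute d v ∧ Commute d (x * v * x⁻¹) := by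
  simp only [Frame.D, mem_inf, mem_Cu, and_assoc]

theorem D_le : F.D ≤ Q := fun _ hd => (F.mem_D.1 hd).1

theorem mem_D_of_comm {d : G} (hd : d ∈ Q) (h1 : ⁅v, d⁆ = 1) (h2 : ⁅x * v * x⁻¹, d⁆ = 1) :
    d ∈ F.D :=
  F.mem_D.2 ⟨hd, (commutatorElement_eq_one_iff_commute.1 h1).symm,
    (commutatorElement_eq_one_iff_commute.1 h2).symm⟩

theorem D_normal {g d : G} (hg : g ∈ Q) (hd : d ∈ F.D) : g * d * g⁻¹ ∈ F.D := by
  obtain ⟨hdQ, h1, h2⟩ := F.mem_D.1 hd
  have e1 : ⁅v, d⁆ = 1 := commutatorElement_eq_one_iff_commute.2 h1.symm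
  have e2 : ⁅x * v * x⁻¹, d⁆ = 1 := commutatorElement_eq_one_iff_commute.2 h2.symm
  refine F.mem_D_of_comm (mul_mem (mul_mem hg hdQ) (inv_mem hg)) ?_ ?_
  · rw [F.comm_mul (mul_mem hg hdQ) (F.plane _ (inv_mem hg)), F.comm_mul hg (F.plane _ hdQ), e1,
      mul_one, ← F.comm_mul hg (F.plane _ (inv_mem hg)), mul_inv_cancel]
    exact commutatorElement_eq_one_iff_commute.2 (Commute.one_right v)
  · rw [F.comm_mul (mul_mem hg hdQ) (F.planeW (inv_mem hg)), F.comm_mul hg (F.planeW hdQ), e2,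
      mul_one, ← F.comm_mul hg (F.planeW (inv_mem hg)), mul_inv_cancel]
    exact commutatorElement_eq_one_iff_commute.2 (Commute.one_right _)

theorem D_invar : Invar x F.D := by
  intro d hd
  obtain ⟨hdQ, h1, h2⟩ := F.mem_D.1 hd
  have hw : Commute (x * d * x⁻¹) (x * v * x⁻¹) := by
    have := h1.map (MulAut.conj x).toMonoidHom
    simpa using this
  refine F.mem_D.2 ⟨F.inv _ hdQ, ?_, hw⟩
  have hw' : Commute (x * d * x⁻¹) (x * (x * v * x⁻¹) * x⁻¹) := by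
    have := h2.map (MulAut.conj x).toMonoidHom
    simpa using this
  have hzc : Commute (x * d * x⁻¹) ((v * (x * v * x⁻¹))⁻¹ * (x * (x * v * x⁻¹) * x⁻¹)) :=
    h.Z_comm (F.le_C (F.inv _ hdQ)) F.xw
  have e : v = x * (x * v * x⁻¹) * x⁻¹ * ((v * (x * v * x⁻¹))⁻¹ * (x * (x * v * x⁻¹) * x⁻¹))⁻¹ *
      (x * v * x⁻¹)⁻¹ := by group
  rw [e]
  exact (hw'.mul_right hzc.inv_right).mul_right hw.inv_right

theorem D_invar_back {d : G} (hd : d ∈ F.D) : x⁻¹ * d * x ∈ F.D := invar_le_conj F.D_invar hd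

theorem u_mem_D : u ∈ F.D :=
  F.mem_D.2 ⟨F.u_mem, (mem_Cu.1 F.vC).symm, (mem_Cu.1 (F.le_C F.w_mem)).symm⟩

theorem v_mem_D : v ∈ F.D := F.mem_D.2 ⟨F.v_mem, Commute.refl v, F.vw_comm⟩

theorem w_mem_D : x * v * x⁻¹ ∈ F.D := F.mem_D.2 ⟨F.w_mem, F.vw_comm.symm, Commute.refl _⟩

/-- Membership in `⟨u, v, w⟩`. -/
def IsE (_F : Frame h Q S v) (a : G) : Prop :=
  ∃ e ∈ ({1, v, x * v * x⁻¹, v * (x * v * x⁻¹)} : Set G), e⁻¹ * a ∈ zpowers u

theorem e_facts {e : G} (he : e ∈ ({1, v, x * v * x⁻¹, v * (x * v * x⁻¹)} : Set G)) :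
    e ∈ F.D ∧ e * e = 1 ∧ ∀ g ∈ Q, ⁅e, g⁆ ∈ zpowers u := by
  rcases he with rfl | rfl | rfl | rfl
  · exact ⟨one_mem _, one_mul 1, fun g _ => by simp [commutatorElement_one_left]⟩
  · exact ⟨F.v_mem_D, F.v2, F.plane⟩
  · exact ⟨F.w_mem_D, F.w2, fun g hg => F.planeW hg⟩
  · refine ⟨mul_mem F.v_mem_D F.w_mem_D, ?_, fun g hg => ?_⟩
    · rw [F.vw_comm.symm.mul_mul_mul_comm, F.v2, F.w2, one_mul]
    · rw [comm_mul_left, (h.Z_comm F.vC (F.planeW hg)).eq, mul_inv_cancel_right]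
      exact mul_mem (F.planeW hg) (F.plane g hg)

theorem isE_plane {a : G} (ha : F.IsE a) :
    a ∈ F.D ∧ ∀ g ∈ Q, ⁅a, g⁆ ∈ zpowers u := by
  obtain ⟨e, he, hz⟩ := ha
  obtain ⟨h1, -, h3⟩ := F.e_facts he
  have e' : a = e * (e⁻¹ * a) := by group
  refine ⟨?_, fun g hg => ?_⟩
  · rw [e']
    refine mul_mem h1 ?_
    rcases h.mem_Z_iff.1 hz with e | e <;> rw [e]
    exacts [one_mem _, F.u_mem_D]
  · rw [e', comm_mul_left, (commutatorElement_eq_one_iff_commute.2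
      (h.Z_comm (F.le_C hg) hz).symm :), mul_one, mul_inv_cancel, one_mul]
    exact h3 g hg

/-- An element with commutators in `⟨u⟩`, centralizing `D`, of square one, lies in `⟨u,v,w⟩`. -/
theorem isE_of_plane {a : G} (ha : a ∈ Q) (ha2 : a * a = 1) (hD : ∀ d ∈ F.D, Commute d a)
    (hp : ∀ g ∈ Q, ⁅a, g⁆ ∈ zpowers u) : F.IsE a := by
  obtain ⟨⟨r0, hr0, v0, w0⟩, r1, hr1, v1, w1⟩ := F.exists_rep
  obtain ⟨e, he, e0, e1⟩ : ∃ e ∈ ({1, v, x * v * x⁻¹, v * (x * v * x⁻¹)} : Set G),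
      ⁅e, r0⁆ = ⁅a, r0⁆ ∧ ⁅e, r1⁆ = ⁅a, r1⁆ := by
    have hvw : ∀ r ∈ Q, ⁅v * (x * v * x⁻¹), r⁆ = ⁅x * v * x⁻¹, r⁆ * ⁅v, r⁆ := fun r hr => by
      rw [comm_mul_left, (h.Z_comm F.vC (F.planeW hr)).eq, mul_inv_cancel_right]
    rcases h.mem_Z_iff.1 (hp r0 hr0) with a0 | a0 <;> rcases h.mem_Z_iff.1 (hp r1 hr1) with a1 | a1
    · exact ⟨1, by simp, by simp [a0], by simp [a1]⟩
    · exact ⟨v, by simp, v0.trans a0.symm, v1.trans a1.symm⟩
    · exact ⟨x * v * x⁻¹, by simp, w0.trans a0.symm, w1.trans a1.symm⟩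
    · exact ⟨v * (x * v * x⁻¹), by simp, by rw [hvw r0 hr0, v0, w0, mul_one, a0],
        by rw [hvw r1 hr1, v1, w1, one_mul, a1]⟩
  obtain ⟨heD, he2, hep⟩ := F.e_facts he
  set z := e⁻¹ * a with hz
  have hei : e⁻¹ = e := inv_eq_of_mul_eq_one_right he2
  have hzQ : z ∈ Q := mul_mem (inv_mem (F.D_le heD)) ha
  have hea : Commute e a := hD e heD
  have hz2 : z * z = 1 := by
    rw [hz, hei, hea.symm.mul_mul_mul_comm, he2, ha2, one_mul]
  have hzp : ∀ g ∈ Q, ⁅z, g⁆ = ⁅a, g⁆ * ⁅e, g⁆ := fun g hg => by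
    rw [hz, hei, comm_mul_left, (h.Z_comm (F.le_C (F.D_le heD)) (hp g hg)).eq, mul_inv_cancel_right]
  have hzc : ∀ g ∈ Q, Commute g z := by
    intro g hg
    have hr : ∀ r ∈ Q, ⁅e, r⁆ = ⁅a, r⁆ → ⁅z, r⁆ = 1 := fun r hr e' => by
      rw [hzp r hr, e']
      rcases h.mem_Z_iff.1 (hp r hr) with e | e <;> rw [e] <;> simp [h.u2]
    have zp : ∀ k ∈ Q, ⁅z, k⁆ ∈ zpowers u := fun k hk => by
      rw [hzp k hk]; exact mul_mem (hp k hk) (hep k hk)
    obtain ⟨s0, hs0, hs0v, hs0w, hs0z⟩ : ∃ s ∈ Q, ⁅v, g * s⁆ = 1 ∧ ⁅x * v * x⁻¹, g * s⁆ = 1 ∧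
        ⁅z, s⁆ = 1 := by
      have z0 := hr r0 hr0 e0
      have z1 := hr r1 hr1 e1
      rcases h.mem_Z_iff.1 (F.plane g hg) with a | a <;>
        rcases h.mem_Z_iff.1 (F.planeW hg) with b | b
      · exact ⟨1, one_mem _, by simpa using a, by simpa using b, by simp⟩
      · exact ⟨r0, hr0, by rw [F.comm_mul hg (F.plane _ hr0), a, v0, one_mul],
          by rw [F.comm_mul hg (F.planeW hr0), b, w0, h.u2], z0⟩
      · exact ⟨r1, hr1, by rw [F.comm_mul hg (F.plane _ hr1), a, v1, h.u2],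
          by rw [F.comm_mul hg (F.planeW hr1), b, w1, one_mul], z1⟩
      · exact ⟨r0 * r1, mul_mem hr0 hr1,
          by rw [F.comm_mul hg (F.plane _ (mul_mem hr0 hr1)), F.comm_mul hr0 (F.plane _ hr1), a, v0,
            v1, one_mul, h.u2],
          by rw [F.comm_mul hg (F.planeW (mul_mem hr0 hr1)), F.comm_mul hr0 (F.planeW hr1), b, w0,
            w1, mul_one, h.u2],
          by rw [F.comm_mul hr0 (zp r1 hr1), z0, z1, one_mul]⟩
    have hd := F.mem_D_of_comm (mul_mem hg hs0) hs0v hs0w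
    have hzD : Commute (g * s0) z := by
      rw [hz, hei]
      refine Commute.mul_right ?_ (hD _ hd)
      obtain ⟨-, c1, c2⟩ := F.mem_D.1 hd
      rcases he with rfl | rfl | rfl | rfl
      exacts [Commute.one_right _, c1, c2, c1.mul_right c2]
    have hzs : Commute s0 z := (commutatorElement_eq_one_iff_commute.1 hs0z).symm
    have := hzD.mul_left hzs.inv_left
    rwa [mul_inv_cancel_right] at this
  refine ⟨e, he, ?_⟩
  by_cases hz1 : z = 1
  · rw [← hz, hz1]; exact one_mem _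
  · rw [← hz, F.centerQ z hzQ (Involution.orderOf_of_sq hz2 hz1) hzc]
    exact mem_zpowers u

/-- The central involutions of `D` lie in `⟨u, v, w⟩`. -/
theorem isE_of_central {a : G} (ha : a ∈ F.D) (ha2 : a * a = 1) (hc : ∀ d ∈ F.D, Commute d a) :
    F.IsE a := by
  obtain ⟨⟨r0, hr0, v0, w0⟩, -, -, -, -⟩ := F.exists_rep
  refine F.isE_of_plane (F.D_le ha) ha2 hc ?_
  -- the property for all central involutions
  let Y : G → Prop := fun b => b ∈ F.D ∧ b * b = 1 ∧ ∀ d ∈ F.D, Commute d b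
  have hYx : ∀ {b}, Y b → Y (x * b * x⁻¹) := by
    rintro b ⟨b1, b2, b3⟩
    refine ⟨F.D_invar _ b1, by rw [show x * b * x⁻¹ * (x * b * x⁻¹) = x * (b * b) * x⁻¹ by group, b2,
      mul_one, mul_inv_cancel], fun d hd => ?_⟩
    have := (b3 _ (F.D_invar_back hd)).map (MulAut.conj x).toMonoidHom
    simpa [mul_assoc] using this
  have hYb : ∀ {b}, Y b → Y (x⁻¹ * b * x) := by
    rintro b ⟨b1, b2, b3⟩
    refine ⟨F.D_invar_back b1, by rw [show x⁻¹ * b * x * (x⁻¹ * b * x) = x⁻¹ * (b * b) * x by group,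
      b2, mul_one, inv_mul_cancel], fun d hd => ?_⟩
    have := (b3 _ (F.D_invar _ hd)).map (MulAut.conj x⁻¹).toMonoidHom
    simpa [mul_assoc] using this
  -- commutators with `C_Q(v)` commute with `C_Q(v)`
  have hA : ∀ {b}, Y b → ∀ r ∈ Q, ⁅v, r⁆ = 1 → ∀ k ∈ Q, ⁅v, k⁆ = 1 → Commute k ⁅b, r⁆ := by
    rintro b ⟨b1, b2, b3⟩ r hr hrv k hk hkv
    have hbi : b⁻¹ = b := inv_eq_of_mul_eq_one_right b2
    have hbr : r * b * r⁻¹ ∈ F.D := F.D_normal hr b1
    have hcD : ∀ d ∈ F.D, Commute d ⁅b, r⁆ := fun d hd => by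
      rw [commutatorElement_def, hbi,
        show b * r * b * r⁻¹ = b * (r * b * r⁻¹) by group]
      refine (b3 d hd).mul_right ?_
      have := (b3 _ (F.D_normal (inv_mem hr) hd)).map (MulAut.conj r).toMonoidHom
      simpa [mul_assoc] using this
    rcases h.mem_Z_iff.1 (F.planeW hr) with hrw | hrw
    · have hrD := F.mem_D_of_comm hr hrv hrw
      rw [(commutatorElement_eq_one_iff_commute.2 (b3 r hrD).symm :)]
      exact Commute.one_right k
    have hr2 : r * r ∈ F.D := F.mem_D_of_comm (mul_mem hr hr)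
      (by rw [F.comm_mul hr (F.plane _ hr), hrv, one_mul])
      (by rw [F.comm_mul hr (F.planeW hr), hrw, h.u2])
    have hrc : Commute r ⁅b, r⁆ := by
      have e2 : r * r * b = b * (r * r) := (b3 _ hr2).eq
      have hbc : Commute b (r * b * r⁻¹) := (b3 _ hbr).symm
      rw [commutatorElement_def, hbi, show b * r * b * r⁻¹ = b * (r * b * r⁻¹) by group]
      show r * (b * (r * b * r⁻¹)) = b * (r * b * r⁻¹) * r
      calc r * (b * (r * b * r⁻¹)) = (r * b * r⁻¹) * (r * r * b) * r⁻¹ := by group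
        _ = (r * b * r⁻¹) * (b * (r * r)) * r⁻¹ := by rw [e2]
        _ = ((r * b * r⁻¹) * b) * r := by group
        _ = (b * (r * b * r⁻¹)) * r := by rw [hbc.eq]
    rcases h.mem_Z_iff.1 (F.planeW hk) with hkw | hkw
    · exact hcD _ (F.mem_D_of_comm hk hkv hkw)
    · have hkr : k * r ∈ F.D := F.mem_D_of_comm (mul_mem hk hr)
        (by rw [F.comm_mul hk (F.plane _ hr), hkv, hrv, one_mul])
        (by rw [F.comm_mul hk (F.planeW hr), hkw, hrw, h.u2])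
      have := (hcD _ hkr).mul_left hrc.inv_left
      rwa [mul_inv_cancel_right] at this
  have hB : ∀ {b}, Y b → ∀ r ∈ Q, ⁅v, r⁆ = 1 → ⁅b, x * r * x⁻¹⁆ ∈ zpowers u := by
    intro b hb r hr hrv
    obtain ⟨b1, b2, b3⟩ := hb
    have hs := F.swap (F.D_le b1) hr
    set c := ⁅b, x * r * x⁻¹⁆ with hc'
    have hbQ := F.D_le b1
    have hrx := F.inv _ hr
    have hcQ : c ∈ Q := by
      rw [hc', commutatorElement_def]
      exact mul_mem (mul_mem (mul_mem hbQ hrx) (inv_mem hbQ)) (inv_mem hrx)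
    have c1 : ∀ k ∈ Q, ⁅v, k⁆ = 1 → Commute k c := by
      intro k hk hkv
      have e := hA (hYx ⟨b1, b2, b3⟩) r hr hrv k hk hkv
      have hz : Commute k (⁅x * b * x⁻¹, r⁆⁻¹ * c) := h.Z_comm (F.le_C hk) hs
      have := e.mul_right hz
      rwa [mul_inv_cancel_left] at this
    have c2 : ∀ k ∈ Q, ⁅v, k⁆ = 1 → Commute (x * k * x⁻¹) c := by
      intro k hk hkv
      have e := (hA (hYb ⟨b1, b2, b3⟩) r hr hrv k hk hkv).map (MulAut.conj x).toMonoidHom
      simp only [MulEquiv.coe_toMonoidHom, MulAut.conj_apply, conj_comm] at e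
      rwa [show x * (x⁻¹ * b * x) * x⁻¹ = b by group] at e
    have hcc : ∀ g ∈ Q, Commute g c := by
      intro g hg
      rcases h.mem_Z_iff.1 (F.plane g hg) with e | e
      · exact c1 g hg e
      · set r1 := x * r0 * x⁻¹
        have hr1Q : r1 ∈ Q := F.inv _ hr0
        have er : ⁅v, r1⁆ = u := by
          have e1 : ⁅x * (x * v * x⁻¹) * x⁻¹, r1⁆ = u := by rw [← conj_comm, w0, h.x_conj_u]
          have e2 : ⁅x * v * x⁻¹, r1⁆ = 1 := by rw [← conj_comm, v0, mul_one, mul_inv_cancel]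
          rw [F.planeXW hr1Q, e2, mul_one] at e1
          exact e1
        have hgr : ⁅v, g * r1⁆ = 1 := by rw [F.comm_mul hg (F.plane _ hr1Q), e, er, h.u2]
        have := (c1 _ (mul_mem hg hr1Q) hgr).mul_left (c2 r0 hr0 v0).inv_left
        rwa [mul_inv_cancel_right] at this
    by_cases hc1 : c = 1
    · rw [hc1]; exact one_mem _
    have hc2 : c * c = 1 := by
      have hbi : b⁻¹ = b := inv_eq_of_mul_eq_one_right b2
      have hbr : x * r * x⁻¹ * b * (x * r * x⁻¹)⁻¹ ∈ F.D := F.D_normal hrx b1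
      rw [hc', commutatorElement_def, hbi,
        show b * (x * r * x⁻¹) * b * (x * r * x⁻¹)⁻¹ = b * ((x * r * x⁻¹) * b * (x * r * x⁻¹)⁻¹) by group]
      rw [(b3 _ hbr).mul_mul_mul_comm, b2, one_mul]
      calc _ = (x * r * x⁻¹) * (b * b) * (x * r * x⁻¹)⁻¹ := by group
        _ = 1 := by rw [b2, mul_one, mul_inv_cancel]
    rw [F.centerQ c hcQ (Involution.orderOf_of_sq hc2 hc1) hcc]
    exact mem_zpowers u
  intro g hg
  have hC : ∀ r ∈ Q, ⁅v, r⁆ = 1 → ⁅a, r⁆ ∈ zpowers u := by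
    intro r hr hrv
    have e := hB (hYx ⟨ha, ha2, hc⟩) r hr hrv
    rw [← conj_comm] at e
    have e' : ⁅a, r⁆ = x⁻¹ * (x * ⁅a, r⁆ * x⁻¹) * x := by group
    rw [e', mul_assoc, ← (h.Z_comm h.x_mem e).eq, inv_mul_cancel_left]
    exact e
  have hD' := hB ⟨ha, ha2, hc⟩ r0 hr0 v0
  rcases h.mem_Z_iff.1 (F.plane g hg) with e | e
  · exact hC g hg e
  · set r1 := x * r0 * x⁻¹
    have hr1Q : r1 ∈ Q := F.inv _ hr0
    have er : ⁅v, r1⁆ = u := by
      have e1 : ⁅x * (x * v * x⁻¹) * x⁻¹, r1⁆ = u := by rw [← conj_comm, w0, h.x_conj_u]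
      have e2 : ⁅x * v * x⁻¹, r1⁆ = 1 := by rw [← conj_comm, v0, mul_one, mul_inv_cancel]
      rw [F.planeXW hr1Q, e2, mul_one] at e1
      exact e1
    have hgr : ⁅v, g * r1⁆ = 1 := by rw [F.comm_mul hg (F.plane _ hr1Q), e, er, h.u2]
    have := hC _ (mul_mem hg hr1Q) hgr
    rw [F.comm_mul hg hD'] at this
    have h2 := mul_mem this (inv_mem hD')
    rwa [mul_inv_cancel_right] at h2

/-- The set `⟨u, v⟩`. -/
def InV (_F : Frame h Q S v) (c : G) : Prop := c ∈ zpowers u ∨ v⁻¹ * c ∈ zpowers u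

/-- Commutators with values in `⟨u, v⟩` on an invariant subgroup have values in `⟨u⟩`. -/
theorem mem_Z_of_inV {M : Subgroup G} (hM : M ≤ Q) (hMx : Invar x M) {a : G} (ha : a ∈ Q)
    (hv : ∀ d ∈ M, F.InV ⁅a, d⁆) {d : G} (hd : d ∈ M) : ⁅a, d⁆ ∈ zpowers u := by
  obtain ⟨d', hd', rfl⟩ : ∃ d' ∈ M, d = x * d' * x⁻¹ :=
    ⟨x⁻¹ * d * x, invar_le_conj hMx hd, by group⟩
  have hs := F.swap ha (hM hd')
  have e1 : ⁅x * a * x⁻¹, d'⁆ = x * ⁅a, x⁻¹ * d' * x⁆ * x⁻¹ := by rw [conj_comm]; group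
  have hb := hv _ (invar_le_conj hMx hd')
  have hs0 := hs
  rw [e1] at hs0
  rcases hv _ hd with h1 | h1
  · exact h1
  exfalso
  set c := ⁅a, x * d' * x⁻¹⁆
  set c' := ⁅a, x⁻¹ * d' * x⁆
  rcases hb with h2 | h2
  · rw [h.Z_x h2] at hs0
    have hc : c ∈ zpowers u := by
      have := mul_mem h2 hs0
      rwa [mul_inv_cancel_left] at this
    have : v⁻¹ ∈ zpowers u := by
      have := mul_mem h1 (inv_mem hc)
      rwa [mul_inv_cancel_right] at this
    exact F.v_not_Z (inv_mem_iff.1 this)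
  · set z1 := v⁻¹ * c
    set z2 := v⁻¹ * c'
    have ec : c = v * z1 := by simp [z1]
    have ec' : c' = v * z2 := by simp [z2]
    rw [ec, ec', show x * (v * z2) * x⁻¹ = x * v * x⁻¹ * (x * z2 * x⁻¹) by group, h.Z_x h2] at hs0
    have e3 : (x * v * x⁻¹ * z2)⁻¹ * (v * z1) = z2⁻¹ * ((x * v * x⁻¹)⁻¹ * v) * z1 := by group
    rw [e3] at hs0
    have : (x * v * x⁻¹)⁻¹ * v ∈ zpowers u := by
      have := mul_mem (mul_mem h2 hs0) (inv_mem h1)
      convert this using 1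
      group
    refine F.vw_not_Z ?_
    have := inv_mem this
    rwa [mul_inv_rev, inv_inv] at this

theorem exists_outer : ∃ g ∈ (S : Subgroup G), ⁅v, g⁆ = u := by
  obtain ⟨-, r, hr, e, -⟩ := F.exists_rep
  exact ⟨r, F.le_S hr, e⟩

theorem commute_S {g : G} (hg : g ∈ (S : Subgroup G)) : Commute g v ∨ g * v * g⁻¹ = u * v := by
  rcases h.mem_Z_iff.1 (F.planeS g hg) with e | e
  · exact Or.inl (commutatorElement_eq_one_iff_commute.1 e).symm
  · refine Or.inr ?_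
    have hvi : v⁻¹ = v := inv_eq_of_mul_eq_one_right F.v2
    rw [commutatorElement_def, hvi] at e
    calc g * v * g⁻¹ = v * (v * g * v * g⁻¹) := by
          rw [← mul_assoc, ← mul_assoc, ← mul_assoc, F.v2, one_mul]
      _ = v * u := by rw [e]
      _ = u * v := (mem_Cu.1 F.vC).eq

/-- `C_S(v)`. -/
def R (_F : Frame h Q S v) : Subgroup G := (S : Subgroup G) ⊓ Cu v

theorem mem_R {g : G} : g ∈ F.R ↔ g ∈ (S : Subgroup G) ∧ Commute g v := by
  simp only [Frame.R, mem_inf, mem_Cu]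

theorem D_le_R : F.D ≤ F.R := fun _ hd =>
  F.mem_R.2 ⟨F.le_S (F.D_le hd), (F.mem_D.1 hd).2.1⟩

theorem R_mul {g k : G} (hg : g ∈ (S : Subgroup G)) (hk : k ∈ (S : Subgroup G)) (h1 : g ∉ F.R)
    (h2 : k ∉ F.R) : g⁻¹ * k ∈ F.R := by
  have eg := (F.commute_S hg).resolve_left fun c => h1 (F.mem_R.2 ⟨hg, c⟩)
  have ek := (F.commute_S hk).resolve_left fun c => h2 (F.mem_R.2 ⟨hk, c⟩)
  refine F.mem_R.2 ⟨mul_mem (inv_mem hg) hk, ?_⟩
  show g⁻¹ * k * v = v * (g⁻¹ * k)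
  calc g⁻¹ * k * v = g⁻¹ * (k * v * k⁻¹) * k := by group
    _ = g⁻¹ * (g * v * g⁻¹) * k := by rw [ek, ← eg]
    _ = _ := by group

theorem R_normal {g r : G} (hg : g ∈ (S : Subgroup G)) (hr : r ∈ F.R) : g * r * g⁻¹ ∈ F.R := by
  obtain ⟨hrS, hrv⟩ := F.mem_R.1 hr
  have hm := mul_mem (mul_mem hg hrS) (inv_mem hg)
  rcases F.commute_S hg with c | c
  · exact F.mem_R.2 ⟨hm, (c.mul_left hrv).mul_left c.inv_left⟩
  refine F.mem_R.2 ⟨hm, ?_⟩
  have hru : Commute r (u * v) := (mem_Cu.1 (F.S_le hrS)).mul_right hrv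
  have hgc : Commute (g * r * g⁻¹) (g * (u * v) * g⁻¹) := by
    have := hru.map (MulAut.conj g).toMonoidHom
    simpa using this
  have e : g * (u * v) * g⁻¹ = v := by
    rw [show g * (u * v) * g⁻¹ = g * u * g⁻¹ * (g * v * g⁻¹) by group, c,
      (mem_Cu.1 (F.S_le hg)).eq, mul_inv_cancel_right, ← mul_assoc, h.u2, one_mul]
  rwa [e] at hgc

theorem card_R : Nat.card (S : Subgroup G) = 2 * Nat.card F.R := by
  have hRS : F.R ≤ (S : Subgroup G) := fun g hg => (F.mem_R.1 hg).1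
  obtain ⟨g, hg, eg⟩ := F.exists_outer
  have hgR : g ∉ F.R := fun hc => h.u_ne (by
    rw [← eg]; exact commutatorElement_eq_one_iff_commute.2 (F.mem_R.1 hc).2.symm)
  have hidx : (F.R.subgroupOf (S : Subgroup G)).index = 2 := by
    refine index_eq_two_iff.2 ⟨⟨g, hg⟩, fun b => ?_⟩
    simp only [mem_subgroupOf, Subgroup.coe_mul]
    by_cases hb : (b : G) ∈ F.R
    · exact Or.inr ⟨hb, fun hbg => hgR (by simpa using mul_mem (inv_mem hb) hbg)⟩
    · refine Or.inl ⟨?_, hb⟩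
      have := F.R_mul (inv_mem b.2) hg (fun hc => hb (inv_mem_iff.1 hc)) hgR
      simpa using this
  rw [← card_mul_index (F.R.subgroupOf (S : Subgroup G)), hidx,
    Nat.card_congr (subgroupOfEquivOfLe hRS).toEquiv, mul_comm]

theorem center_R {z : G} (hz : z ∈ F.R) (hz2 : z * z = 1) (hc : ∀ r ∈ F.R, Commute r z) :
    F.InV z := by
  obtain ⟨g, hg, eg⟩ := F.exists_outer
  have hgR : g ∉ F.R := fun hc' => h.u_ne (by
    rw [← eg]; exact commutatorElement_eq_one_iff_commute.2 (F.mem_R.1 hc').2.symm)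
  have hgv := (F.commute_S hg).resolve_left fun c => hgR (F.mem_R.2 ⟨hg, c⟩)
  have fixed : ∀ c ∈ F.R, c * c = 1 → (∀ r ∈ F.R, Commute r c) → g * c * g⁻¹ = c → c ∈ zpowers u := by
    intro c hcR hc2 hcr e
    by_cases hc1 : c = 1
    · rw [hc1]; exact one_mem _
    refine h.mem_Z_iff.2 (Or.inr (F.centerS c (F.mem_R.1 hcR).1 (Involution.orderOf_of_sq hc2 hc1)
      fun k hk => ?_))
    by_cases hkR : k ∈ F.R
    · exact hcr k hkR
    have h1 := hcr _ (F.R_mul hg hk hgR hkR)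
    have h2 : Commute g c := mul_inv_eq_iff_eq_mul.1 e
    have := h2.mul_left h1
    rwa [mul_inv_cancel_left] at this
  set z' := g * z * g⁻¹ with hz'
  have hz'R : z' ∈ F.R := F.R_normal hg hz
  have hz'c : ∀ r ∈ F.R, Commute r z' := fun r hr => by
    have := (hc _ (F.R_normal (inv_mem hg) hr)).map (MulAut.conj g).toMonoidHom
    simpa [mul_assoc, z'] using this
  have hg2 : g * g ∈ F.R := by
    have hgi : g⁻¹ ∉ F.R := fun hc' => hgR (inv_mem_iff.1 hc')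
    simpa using F.R_mul (inv_mem hg) hg hgi hgR
  have hz'2 : z' * z' = 1 := by
    rw [hz', show g * z * g⁻¹ * (g * z * g⁻¹) = g * (z * z) * g⁻¹ by group, hz2, mul_one,
      mul_inv_cancel]
  have hzz : Commute z z' := hz'c z hz
  have hfz : g * (z * z') * g⁻¹ = z * z' := by
    rw [show g * (z * z') * g⁻¹ = z' * (g * g * z * (g * g)⁻¹) by rw [hz']; group,
      (hc _ hg2).eq, mul_inv_cancel_right, hzz.eq]
  have hm := fixed (z * z') (mul_mem hz hz'R)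
    (by rw [hzz.symm.mul_mul_mul_comm, hz2, hz'2, one_mul])
    (fun r hr => (hc r hr).mul_right (hz'c r hr)) hfz
  rcases h.mem_Z_iff.1 hm with e | e
  · refine Or.inl (fixed z hz hz2 hc ?_)
    rw [← hz', eq_inv_of_mul_eq_one_right e, inv_eq_of_mul_eq_one_right hz2]
  · refine Or.inr ?_
    have hvR : v ∈ F.R := F.mem_R.2 ⟨F.le_S F.v_mem, Commute.refl v⟩
    rw [inv_eq_of_mul_eq_one_right F.v2]
    refine fixed (v * z) (mul_mem hvR hz) (by rw [(hc v hvR).symm.mul_mul_mul_comm, F.v2, hz2, one_mul])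
      (fun r hr => (F.mem_R.1 hr).2.mul_right (hc r hr)) ?_
    have ez : z' = z * u := by rw [← e, ← mul_assoc, hz2, one_mul]
    rw [show g * (v * z) * g⁻¹ = g * v * g⁻¹ * (g * z * g⁻¹) by group, hgv, ← hz', ez,
      ← (mem_Cu.1 (F.S_le (F.mem_R.1 hz).1)).eq.symm.trans rfl]
    calc u * v * (u * z) = u * (v * u) * z := by group
      _ = u * (u * v) * z := by rw [(mem_Cu.1 F.vC).eq]
      _ = v * z := by rw [← mul_assoc u, h.u2, one_mul]

/-- An element of order three permuting `u, v, uv` and normalizing `C_S(v)`. -/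
theorem exists_cycle : ∃ y : G, y ^ 3 = 1 ∧ y * u * y⁻¹ = v ∧ y * v * y⁻¹ = u * v ∧
    y * (u * v) * y⁻¹ = u ∧ ∀ r ∈ F.R, y * r * y⁻¹ ∈ F.R := by
  haveI : Fact (Nat.Prime 2) := ⟨Nat.prime_two⟩
  have hRS : F.R ≤ (S : Subgroup G) := fun g hg => (F.mem_R.1 hg).1
  obtain ⟨T, hRT, hTv⟩ := h.exists_sylow_above F.v_ord (IsPGroup.to_le S.isPGroup' hRS) inf_le_right
  have hcT : Nat.card (T : Subgroup G) = 2 * Nat.card F.R := by
    rw [T.card_eq_multiplicity, ← S.card_eq_multiplicity, F.card_R]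
  obtain ⟨g, hgT, hgR⟩ : ∃ g ∈ (T : Subgroup G), g ∉ F.R := by
    by_contra hne
    push Not at hne
    have := card_le_of_le (H := (T : Subgroup G)) (K := F.R) hne
    have := Nat.card_pos (α := F.R)
    omega
  have hgn : ∀ r ∈ F.R, g * r * g⁻¹ ∈ F.R := by
    intro r hr
    haveI : (F.R.subgroupOf (T : Subgroup G)).Normal := Subgroup.normal_of_index_eq_two (by
      have e := card_mul_index (F.R.subgroupOf (T : Subgroup G))
      rw [Nat.card_congr (subgroupOfEquivOfLe hRT).toEquiv, hcT] at e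
      exact Nat.eq_of_mul_eq_mul_left Nat.card_pos (e.trans (mul_comm _ _)))
    exact this.conj_mem (⟨r, hRT hr⟩ : (T : Subgroup G)) hr ⟨g, hgT⟩
  have hgv : Commute g v := mem_Cu.1 (hTv hgT)
  have hgu : ¬ Commute g u := by
    intro hc
    have hTu : (T : Subgroup G) ≤ Cu u := by
      intro k hk
      have hidx := @SelfCentThree.SC.mul_mem_of_index_two _ _ _ _ _ hRT hcT
      by_cases hkR : k ∈ F.R
      · exact F.S_le (hRS hkR)
      · have := mul_mem (mem_Cu.2 hc) (F.S_le (hRS (hidx hgT hgR hk hkR)))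
        rwa [mul_inv_cancel_left] at this
    obtain ⟨e, heC, he⟩ := exists_conj_sylow S T F.S_le hTu
    have hvT : v ∈ (T : Subgroup G) := hRT (F.mem_R.2 ⟨F.le_S F.v_mem, Commute.refl v⟩)
    have hvS : e⁻¹ * v * e ∈ (S : Subgroup G) := by
      rw [he, show e * (e⁻¹ * v * e) * e⁻¹ = v by group]; exact hvT
    have := F.centerS _ hvS (by
      rw [show e⁻¹ * v * e = e⁻¹ * v * (e⁻¹)⁻¹ by group, Involution.orderOf_conj, F.v_ord])
      fun s hs => by
        have hc := (mem_Cu.1 (hTv ((he s).1 hs))).map (MulAut.conj e⁻¹).toMonoidHom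
        simpa [mul_assoc] using hc
    refine F.v_ne ?_
    calc v = e * (e⁻¹ * v * e) * e⁻¹ := by group
      _ = u := by rw [this, (mem_Cu.1 heC).eq, mul_inv_cancel_right]
  have huR : u ∈ F.R := F.D_le_R F.u_mem_D
  have hguv : g * u * g⁻¹ = u * v := by
    have hz := F.center_R (hgn u huR)
      (by rw [show g * u * g⁻¹ * (g * u * g⁻¹) = g * (u * u) * g⁻¹ by group, h.u2, mul_one,
        mul_inv_cancel])
      fun r hr => by
        have hr' : g⁻¹ * r * g ∈ F.R := by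
          obtain ⟨n, hn⟩ : ∃ n : ℕ, g ^ n = g⁻¹ := ⟨orderOf g - 1, eq_inv_of_mul_eq_one_left (by
            rw [← pow_succ, Nat.sub_add_cancel (orderOf_pos g), pow_orderOf_eq_one])⟩
          have key : ∀ n : ℕ, g ^ n * r * (g ^ n)⁻¹ ∈ F.R := fun n => by
            induction n with
            | zero => simpa using hr
            | succ n ih => convert hgn _ ih using 1; rw [pow_succ']; group
          have := key n
          rwa [hn, inv_inv] at this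
        have := (mem_Cu.1 (F.S_le (hRS hr'))).map (MulAut.conj g).toMonoidHom
        simpa [mul_assoc] using this
    rcases hz with hz | hz
    · exfalso
      rcases h.mem_Z_iff.1 hz with e | e
      · rw [conj_eq_one_iff] at e; exact h.u_ne e
      · exact hgu (mul_inv_eq_iff_eq_mul.1 e)
    · rcases h.mem_Z_iff.1 hz with e | e
      · exfalso
        have : g * u * g⁻¹ = g * v * g⁻¹ := by
          rw [hgv.eq, mul_inv_cancel_right]; exact (inv_mul_eq_one.1 e).symm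
        exact F.v_ne (mul_left_cancel (mul_right_cancel this)).symm
      · rw [inv_mul_eq_iff_eq_mul] at e
        rw [e, (mem_Cu.1 F.vC).eq]
  obtain ⟨k, hk, ek⟩ := F.exists_outer
  have hkv : k * v * k⁻¹ = u * v := (F.commute_S hk).resolve_left fun c => h.u_ne (by
    rw [← ek]; exact commutatorElement_eq_one_iff_commute.2 c.symm)
  have hku : k * u * k⁻¹ = u := by rw [(mem_Cu.1 (F.S_le hk)).eq, mul_inv_cancel_right]
  set y := k * g
  have y1 : y * u * y⁻¹ = v := by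
    rw [show y * u * y⁻¹ = k * (g * u * g⁻¹) * k⁻¹ by simp only [y]; group, hguv,
      show k * (u * v) * k⁻¹ = k * u * k⁻¹ * (k * v * k⁻¹) by group, hku, hkv, ← mul_assoc, h.u2,
      one_mul]
  have y2 : y * v * y⁻¹ = u * v := by
    rw [show y * v * y⁻¹ = k * (g * v * g⁻¹) * k⁻¹ by simp only [y]; group, hgv.eq,
      mul_inv_cancel_right, hkv]
  have y3 : y * (u * v) * y⁻¹ = u := by
    rw [show y * (u * v) * y⁻¹ = y * u * y⁻¹ * (y * v * y⁻¹) by group, y1, y2, ← mul_assoc,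
      (mem_Cu.1 F.vC).eq, mul_assoc, F.v2, mul_one]
  have yR : ∀ n : ℕ, ∀ r ∈ F.R, y ^ n * r * (y ^ n)⁻¹ ∈ F.R := by
    intro n
    induction n with
    | zero => intro r hr; simpa using hr
    | succ n ih =>
      intro r hr
      have := F.R_normal hk (hgn _ (ih r hr))
      rwa [show y ^ (n + 1) * r * (y ^ (n + 1))⁻¹ = k * (g * (y ^ n * r * (y ^ n)⁻¹) * g⁻¹) * k⁻¹ by
        rw [pow_succ', mul_inv_rev, show y⁻¹ = g⁻¹ * k⁻¹ from mul_inv_rev k g,
          show y = k * g from rfl]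
        simp [mul_assoc]]
  -- powers of `y`
  have ymod : ∀ n : ℕ, (y ^ (3 * n)) * u * (y ^ (3 * n))⁻¹ = u ∧
      (y ^ (3 * n)) * v * (y ^ (3 * n))⁻¹ = v := by
    intro n
    induction n with
    | zero => simp
    | succ n ih =>
      obtain ⟨i1, i2⟩ := ih
      have e : ∀ a, y ^ (3 * (n + 1)) * a * (y ^ (3 * (n + 1)))⁻¹ =
          y * (y * (y * (y ^ (3 * n) * a * (y ^ (3 * n))⁻¹) * y⁻¹) * y⁻¹) * y⁻¹ := fun a => by
        rw [show 3 * (n + 1) = 3 * n + 1 + 1 + 1 by ring, pow_succ', pow_succ', pow_succ']; group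
      rw [e, e, i1, i2, y1, y2, y3, y1]
      exact ⟨rfl, rfl⟩
  have h3 : 3 ∣ orderOf y := by
    by_contra hne
    obtain ⟨i, hi⟩ : ∃ i, y ^ (3 * i) = y := by
      have hco : Nat.Coprime 3 (orderOf y) := Nat.prime_three.coprime_iff_not_dvd.2 hne
      obtain ⟨i, hi⟩ := exists_pow_eq_self_of_coprime hco
      exact ⟨i, by rw [pow_mul]; exact hi⟩
    have := (ymod i).1
    rw [hi, y1] at this
    exact F.v_ne this
  obtain ⟨b, m, hm, hbm⟩ : ∃ b m, ¬ 3 ∣ m ∧ orderOf y = 3 ^ b * m :=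
    Nat.exists_eq_pow_mul_and_not_dvd (orderOf_pos y).ne' 3 (by norm_num)
  obtain ⟨e, he⟩ : ∃ e, m * e % 3 = 1 := by
    rcases (by omega : m % 3 = 1 ∨ m % 3 = 2) with e | e
    · exact ⟨1, by rw [mul_one]; exact e⟩
    · exact ⟨2, by omega⟩
  obtain ⟨j, hj⟩ : ∃ j, m * e = 3 * j + 1 := ⟨m * e / 3, by omega⟩
  set y' := y ^ (m * e)
  have key : ∀ a, y' * a * y'⁻¹ = y ^ (3 * j) * (y * a * y⁻¹) * (y ^ (3 * j))⁻¹ := fun a => by
    simp only [y', hj, pow_succ]; group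
  refine ⟨y', ?_, by rw [key, y1]; exact (ymod j).2, ?_, ?_, fun r hr => yR _ r hr⟩
  · obtain ⟨i1, i2⟩ := ymod (m * e)
    have hcu : Commute (y' ^ 3) u := by
      rw [show y' ^ 3 = y ^ (3 * (m * e)) by rw [← pow_mul, mul_comm]]
      exact mul_inv_eq_iff_eq_mul.1 i1
    have hcv : Commute (y' ^ 3) v := by
      rw [show y' ^ 3 = y ^ (3 * (m * e)) by rw [← pow_mul, mul_comm]]
      exact mul_inv_eq_iff_eq_mul.1 i2
    refine h.eq_one_of_three F.v_ord (mem_Cu.1 F.vC) F.v_ne (mem_Cu.2 hcu) (n := b) ?_ hcv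
    rw [← pow_mul, ← pow_mul, ← orderOf_dvd_iff_pow_eq_one, hbm]
    exact Dvd.intro (e * 3) (by ring)
  · rw [key, y2, show y ^ (3 * j) * (u * v) * (y ^ (3 * j))⁻¹ =
      (y ^ (3 * j) * u * (y ^ (3 * j))⁻¹) * (y ^ (3 * j) * v * (y ^ (3 * j))⁻¹) by group,
      (ymod j).1, (ymod j).2]
  · rw [key, y3]; exact (ymod j).1

end Frame

end Cfsg.Agent.SelfCentSix
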