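import Cfsg.Agent.Lib.SelfCentSix.Small
import Cfsg.Agent.Lib.SelfCentSix.CoreMain
import Cfsg.Agent.S2916
import Cfsg.Agent.Lib.PReduced.Tools

/-!
# The quaternion case: `PSL(3,3)` and the Mathieu group of degree eleven

* `Nf.m` : the multiplication of `GL(2,3)` in normal form
* `Top.recognise` : a `Top` with quaternion `Q` of order 8
-/

set_option autoImplicit false
set_option linter.unusedSectionVars false
set_option linter.style.haveILetI false

namespace Cfsg.Agent.SelfCentSix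

open Subgroup SelfCentThree
open scoped commutatorElement

namespace Nf

/-- The quaternion part of a normal form. -/
abbrev QW := Fin 4 × Fin 2

/-- A normal form. -/
abbrev W := QW × (Fin 3 × Fin 2)

/-- Product in the quaternion group. -/
def qmul (p q : QW) : QW :=
  (p.1 + (if p.2 = 1 then 3 * q.1 else q.1) + (if p.2 = 1 ∧ q.2 = 1 then 2 else 0), p.2 + q.2)

/-- Powers of the second generator. -/
def jpow (a : Fin 4) : QW := if a = 0 then (0, 0) else if a = 1 then (0, 1) else if a = 2 then (2, 0) else (2, 1)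

/-- The automorphism of order three. -/
def phiX (p : QW) : QW := qmul (jpow p.1) (if p.2 = 1 then (1, 1) else (0, 0))

/-- The automorphism of order two. -/
def phiS (p : QW) : QW := (3 * p.1 + (if p.2 = 1 then 3 else 0), p.2)

/-- Conjugation by a complement element. -/
def act (c : Fin 3) (e : Fin 2) (p : QW) : QW :=
  let r := if e = 1 then phiS p else p
  if c = 0 then r else if c = 1 then phiX r else phiX (phiX r)

/-- The multiplication. -/
def m (w w' : W) : W :=
  (qmul w.1 (act w.2.1 w.2.2 w'.1),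
    (w.2.1 + (if w.2.2 = 1 then 2 * w'.2.1 else w'.2.1), w.2.2 + w'.2.2))

/-- Powers in the table. -/
def pw (k : Fin 48) : ℕ → Fin 48
  | 0 => GL23Cent.k1
  | n + 1 => GL23Cent.mul (pw k n) k

/-- The model. -/
def F0 (w : W) : Fin 48 :=
  GL23Cent.mul (GL23Cent.mul (pw 3 w.1.1.val) (pw 21 w.1.2.val))
    (GL23Cent.mul (pw 5 w.2.1.val) (pw 0 w.2.2.val))

theorem F0_bijective : Function.Bijective F0 := by decide +kernel

theorem F0_m : ∀ w w', F0 (m w w') = GL23Cent.mul (F0 w) (F0 w') := by decide +kernel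

theorem F0_q8 : ∀ w, GL23Core.q8 (F0 w) → w.2 = (0, 0) := by decide +kernel

theorem F0_one : F0 ((0, 0), (0, 0)) = GL23Cent.k1 := by decide +kernel

end Nf

variable {G : Type*} [Group G] [Finite G] {u x : G}

namespace Top

open Nf

variable {h : Hyp u x} {Q D : Subgroup G} {S : Sylow 2 G} {s : G}

theorem small (T : Top h Q D S s) (h8 : Nat.card Q = 8) : Small h Q S s :=
  ⟨T.Q_le, h8, T.inv, T.u_mem, T.Q_normal s T.sC, T.le_S, T.S_le, T.s_mem, T.sx, T.s2, T.index⟩

theorem recognise (T : Top h Q D S s) (h8 : Nat.card Q = 8) {M : Subgroup G}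
    (hQM : Q ≤ M) (hDM : D ≤ M) (hM : ∀ c ∈ Cu u, ∀ a ∈ M, c * a * c⁻¹ ∈ M)
    (hM3 : ¬ 3 ∣ Nat.card M) (hnil : Group.IsNilpotent D) :
    (∃ (F : Type) (_ : Field F) (_ : Fintype F), Fintype.card F = 3 ∧
      Nonempty (G ≃* Matrix.ProjectiveSpecialLinearGroup (Fin 3) F)) ∨ Cfsg.Spor.IsoM11 G := by
  haveI := h.simple
  obtain ⟨hsq, hs2⟩ := (T.small h8).quat
  obtain ⟨a0, ha0, ha0Z⟩ := (T.small h8).exists_moved
  have hxC := h.x_mem
  have hsC := T.sC
  -- the frame
  obtain ⟨i, j, hiQ, hiZ, hj, hk, hsi⟩ : ∃ i j : G, i ∈ Q ∧ i ∉ zpowers u ∧ j = x * i * x⁻¹ ∧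
      x * j * x⁻¹ = i * j ∧ s * i * s⁻¹ = i⁻¹ := by
    set e := ⁅s, a0⁆ with he
    have heQ : e ∈ Q := by
      rw [he, commutatorElement_def]; exact mul_mem (T.Q_normal s hsC a0 ha0) (inv_mem ha0)
    have hse : s * e * s⁻¹ = e⁻¹ := by
      rw [he, commutatorElement_def]
      calc s * (s * a0 * s⁻¹ * a0⁻¹) * s⁻¹ = (s * s) * a0 * (s * s)⁻¹ * (s * a0⁻¹ * s⁻¹) := by group
        _ = a0 * (s * a0⁻¹ * s⁻¹) := by rw [hs2, one_mul, inv_one, mul_one]
        _ = _ := by group
    set d := x * e * x⁻¹ with hd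
    have hdQ : d ∈ Q := T.inv e heQ
    have hed : e * d ∉ zpowers u := fun e' => ha0Z (h.fixed T.Q_le T.three T.inv heQ (by
      rw [← hd]
      have h2 : e * d * (e * e)⁻¹ ∈ zpowers u := by
        rw [hsq e heQ ha0Z, h.u_inv]
        exact mul_mem e' (mem_zpowers u)
      rw [show d * e⁻¹ = e⁻¹ * (e * d * (e * e)⁻¹) * e by group,
        mul_assoc, ← (h.Z_comm (T.Q_le heQ) h2).eq, inv_mul_cancel_left]
      exact h2))
    have hcube := h.cube T.Q_le T.three T.inv heQ
    rw [← hd] at hcube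
    have hed2 := hsq _ (mul_mem heQ hdQ) hed
    rcases h.mem_Z_iff.1 hcube with e1 | e1
    · refine ⟨e * u, d * u, mul_mem heQ T.u_mem, fun e' => ha0Z ?_, ?_, ?_, ?_⟩
      · have := mul_mem e' (mem_zpowers u)
        rwa [mul_assoc, h.u2, mul_one] at this
      · rw [hd]
        calc x * e * x⁻¹ * u = x * e * x⁻¹ * (x * u * x⁻¹) := by rw [h.x_conj_u]
          _ = _ := by group
      · have hu : Commute u (d * u) := (mem_Cu.1 (T.Q_le (mul_mem hdQ T.u_mem))).symm
        calc x * (d * u) * x⁻¹ = (x * d * x⁻¹) * (x * u * x⁻¹) := by group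
          _ = (e * d)⁻¹ * u := by rw [h.x_conj_u, ← eq_inv_of_mul_eq_one_right e1]
          _ = (e * d)⁻¹ * (e * d * (e * d)) := by rw [hed2]
          _ = e * d := by group
          _ = e * (d * u) * u := by rw [mul_assoc e (d * u) u, mul_assoc d u u, h.u2, mul_one]
          _ = e * u * (d * u) := by rw [mul_assoc e (d * u) u, ← hu.eq, ← mul_assoc]
      · calc s * (e * u) * s⁻¹ = (s * e * s⁻¹) * (s * u * s⁻¹) := by group
          _ = e⁻¹ * u := by rw [hse, (mem_Cu.1 hsC).eq, mul_inv_cancel_right]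
          _ = (e * u)⁻¹ := by
            rw [mul_inv_rev, h.u_inv, ← (mem_Cu.1 (inv_mem (T.Q_le heQ))).eq]
    · refine ⟨e, d, heQ, ha0Z, hd, ?_, hse⟩
      calc x * d * x⁻¹ = (e * d)⁻¹ * (e * d * (x * d * x⁻¹)) := by group
        _ = (e * d)⁻¹ * (e * d * (e * d)) := by rw [e1, hed2]
        _ = e * d := by group
  have hjQ : j ∈ Q := hj ▸ T.inv i hiQ
  have hjZ : j ∉ zpowers u := fun e => hiZ (by
    rw [show i = x⁻¹ * j * x by rw [hj]; group, mul_assoc, ← (h.Z_comm hxC e).eq, inv_mul_cancel_left]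
    exact e)
  have hijZ : i * j ∉ zpowers u := fun e => hjZ (by
    rw [show j = x⁻¹ * (i * j) * x by rw [← hk]; group, mul_assoc, ← (h.Z_comm hxC e).eq,
      inv_mul_cancel_left]
    exact e)
  have hii := hsq i hiQ hiZ
  have hjj := hsq j hjQ hjZ
  have hijij := hsq _ (mul_mem hiQ hjQ) hijZ
  have hi4 : i ^ 4 = 1 := by
    rw [show (4 : ℕ) = 2 + 2 from rfl, pow_add, sq, hii, h.u2]
  have hji : j * i = i ^ 3 * j := by
    calc j * i = i⁻¹ * (i * j * (i * j)) * j⁻¹ := by group
      _ = i⁻¹ * (i * i) * j⁻¹ := by rw [hijij, hii]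
      _ = i * j⁻¹ := by group
      _ = i * ((i * i) * j) := by
        congr 1
        exact inv_eq_of_mul_eq_one_right (by
          rw [hii, ← mul_assoc, (mem_Cu.1 (T.Q_le hjQ)).eq, mul_assoc, hjj, h.u2])
      _ = _ := by simp only [pow_three, mul_assoc]
  have hsxi : x * x = x⁻¹ :=
    (inv_eq_of_mul_eq_one_right (by rw [← pow_three, h.x3])).symm
  have hsj : s * j * s⁻¹ = i ^ 3 * j := by
    calc s * j * s⁻¹ = (s * x * s⁻¹) * (s * i * s⁻¹) * (s * x * s⁻¹)⁻¹ := by rw [hj]; group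
      _ = x⁻¹ * i⁻¹ * x := by rw [T.sx, hsi, inv_inv]
      _ = (x * x * i * (x * x)⁻¹)⁻¹ := by rw [hsxi]; group
      _ = (x * j * x⁻¹)⁻¹ := by rw [hj]; group
      _ = j⁻¹ * i⁻¹ := by rw [hk, mul_inv_rev]
      _ = j⁻¹ * i⁻¹ * (i * j * (i * j)) * (i * i)⁻¹ := by rw [hijij, hii, mul_inv_cancel_right]
      _ = i * j * (i * i)⁻¹ := by group
      _ = i * (i * i) * j := by
        rw [hii, h.u_inv, mul_assoc, mul_assoc i u j, (mem_Cu.1 (T.Q_le hjQ)).eq]
      _ = _ := by simp only [pow_three]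
  -- the normal forms
  let P : Fin 4 → G := fun a => i ^ a.val
  have hP : ∀ a b, P a * P b = P (a + b) := fun a b => by
    show i ^ a.val * i ^ b.val = i ^ (a + b).val
    rw [← pow_add, Fin.val_add]
    exact pow_eq_pow_mod _ hi4
  have hP2 : P 2 = u := by show i ^ 2 = u; rw [sq, hii]
  have hjP : ∀ a, j * P a = P (3 * a) * j := fun a => by
    show j * i ^ a.val = i ^ (3 * a).val * j
    rw [Fin.val_mul, ← pow_eq_pow_mod _ hi4, show ((3 : Fin 4).val) = 3 from rfl, pow_mul]
    exact (show SemiconjBy j i (i ^ 3) from hji).pow_right a.val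
  let Fq : QW → G := fun p => P p.1 * j ^ p.2.val
  have h01 : ∀ b : Fin 2, b = 0 ∨ b = 1 := by decide
  have hq : ∀ p q : QW, Fq p * Fq q = Fq (qmul p q) := by
    rintro ⟨a, b⟩ ⟨a', b'⟩
    rcases h01 b with rfl | rfl <;> rcases h01 b' with rfl | rfl
    · simp [Fq, qmul, hP]
    · simp [Fq, qmul, ← mul_assoc, hP]
    · simp [Fq, qmul]
      rw [mul_assoc, hjP, ← mul_assoc, hP]
    · simp [Fq, qmul]
      rw [mul_assoc (P a), ← mul_assoc j, hjP, mul_assoc (P (3 * a')), hjj, ← mul_assoc, hP, ← hP2, hP]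
  have hX : ∀ p : QW, x * Fq p * x⁻¹ = Fq (phiX p) := by
    intro p
    rw [← conj_mul, phiX, ← hq]
    congr 1
    · show x * i ^ p.1.val * x⁻¹ = _
      rw [← conj_pow, ← hj]
      have hc : ∀ a : Fin 4, a = 0 ∨ a = 1 ∨ a = 2 ∨ a = 3 := by decide
      rcases hc p.1 with e | e | e | e <;> rw [e]
      · simp [Fq, P, jpow]
      · simp [Fq, P, jpow]
      · show j ^ 2 = P 2 * j ^ 0
        rw [sq, hjj, hP2, pow_zero, mul_one]
      · show j ^ 3 = P 2 * j ^ 1
        rw [pow_succ, sq, hjj, hP2, pow_one]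
    · show x * j ^ p.2.val * x⁻¹ = _
      rcases h01 p.2 with e | e <;> rw [e]
      · simp [Fq, P]
      · simp [Fq, P, hk]
  have hS : ∀ p : QW, s * Fq p * s⁻¹ = Fq (phiS p) := by
    intro p
    have e1 : s * P p.1 * s⁻¹ = P (3 * p.1) := by
      show s * i ^ p.1.val * s⁻¹ = i ^ (3 * p.1).val
      rw [← conj_pow, hsi, Fin.val_mul, ← pow_eq_pow_mod _ hi4, show ((3 : Fin 4).val) = 3 from rfl,
        pow_mul, inv_eq_of_mul_eq_one_right (show i * i ^ 3 = 1 by rw [← pow_succ', hi4])]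
    show s * (P p.1 * j ^ p.2.val) * s⁻¹ = _
    rw [← conj_mul, e1, ← conj_pow, hsj]
    rcases h01 p.2 with e | e <;> simp only [phiS, Fq, e]
    · simp
    · simp
      rw [← mul_assoc]
      exact congrArg (· * j) (hP (3 * p.1) 3)
  let Fc : Fin 3 × Fin 2 → G := fun r => x ^ r.1.val * s ^ r.2.val
  let Fw : W → G := fun w => Fq w.1 * Fc w.2
  have hact : ∀ (c : Fin 3) (e : Fin 2) (p : QW),
      Fc (c, e) * Fq p * (Fc (c, e))⁻¹ = Fq (act c e p) := by
    intro c e p
    have hse : s ^ e.val * Fq p * (s ^ e.val)⁻¹ = Fq (if e = 1 then phiS p else p) := by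
      rcases h01 e with rfl | rfl <;> simp [hS]
    show x ^ c.val * s ^ e.val * Fq p * (x ^ c.val * s ^ e.val)⁻¹ = _
    rw [show x ^ c.val * s ^ e.val * Fq p * (x ^ c.val * s ^ e.val)⁻¹ =
      x ^ c.val * (s ^ e.val * Fq p * (s ^ e.val)⁻¹) * (x ^ c.val)⁻¹ by group, hse]
    have hc : c = 0 ∨ c = 1 ∨ c = 2 := (by decide : ∀ c : Fin 3, c = 0 ∨ c = 1 ∨ c = 2) c
    rcases hc with rfl | rfl | rfl
    · simp [act]
    · simp [act, hX]
    · show x ^ 2 * _ * (x ^ 2)⁻¹ = _
      rw [sq, mul_inv_rev, show x * x * Fq (if e = 1 then phiS p else p) * (x⁻¹ * x⁻¹) =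
        x * (x * Fq (if e = 1 then phiS p else p) * x⁻¹) * x⁻¹ by group, hX, hX]
      simp [act]
  have hxa : ∀ n k : Fin 3, x ^ n.val * x ^ k.val = x ^ (n + k).val := fun n k => by
    rw [← pow_add, Fin.val_add]; exact pow_eq_pow_mod _ h.x3
  have hsa : ∀ n k : Fin 2, s ^ n.val * s ^ k.val = s ^ (n + k).val := fun n k => by
    rw [← pow_add, Fin.val_add]; exact pow_eq_pow_mod _ (by rw [sq, hs2])
  have hFw : ∀ w w', Fw w * Fw w' = Fw (m w w') := by
    rintro ⟨p, c, e⟩ ⟨p', c', e'⟩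
    have htail : s ^ e.val * x ^ c'.val = x ^ (if e = 1 then 2 * c' else c').val * s ^ e.val := by
      rcases h01 e with rfl | rfl
      · simp
      · rw [show ((1 : Fin 2).val) = 1 from rfl, pow_one, if_pos rfl, Fin.val_mul,
          ← pow_eq_pow_mod _ h.x3, show ((2 : Fin 3).val) = 2 from rfl, pow_mul, sq, hsxi]
        exact (show SemiconjBy s x x⁻¹ from (mul_inv_eq_iff_eq_mul.1 T.sx)).pow_right c'.val
    calc Fq p * Fc (c, e) * (Fq p' * Fc (c', e'))
        = Fq p * (Fc (c, e) * Fq p' * (Fc (c, e))⁻¹) * (Fc (c, e) * Fc (c', e')) := by group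
      _ = Fq (qmul p (act c e p')) * (Fc (c, e) * Fc (c', e')) := by rw [hact, hq]
      _ = _ := by
        congr 1
        show x ^ c.val * s ^ e.val * (x ^ c'.val * s ^ e'.val) = x ^ _ * s ^ _
        rw [mul_assoc, ← mul_assoc (s ^ e.val), htail, mul_assoc, hsa, ← mul_assoc, hxa]
        rfl
  have hFqQ : ∀ p, Fq p ∈ Q := fun p => mul_mem (pow_mem hiQ _) (pow_mem hjQ _)
  have hFwC : ∀ w, Fw w ∈ Cu u := fun w =>
    mul_mem (T.Q_le (hFqQ _)) (mul_mem (pow_mem hxC _) (pow_mem hsC _))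
  -- injectivity
  have hxM : x ∉ M := fun e => hM3 (h.ordx ▸ orderOf_dvd_natCard M e)
  have hQD : ∀ q ∈ Q, q ∈ D → q = 1 := by
    intro q hq hd
    refine orderOf_eq_one_iff.1 (Nat.eq_one_of_dvd_coprimes ?_ (orderOf_dvd_natCard Q hq)
      (orderOf_dvd_natCard D hd))
    rw [h8, show (8 : ℕ) = 2 ^ 3 from rfl]
    exact Nat.Coprime.pow_left _ (Nat.coprime_two_left.2 T.D_odd)
  have hFq1 : ∀ p, Fq p = 1 → p = (0, 0) := by
    rintro ⟨a, b⟩ e
    have hji' : j ∉ zpowers i := by
      intro hmem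
      obtain ⟨n, hn⟩ := mem_zpowers_iff.1 hmem
      refine hiZ (h.fixed T.Q_le T.three T.inv hiQ ?_)
      rw [← hj, ← hn]
      have hu' : i ^ (2 : ℤ) = u := by rw [zpow_two, hii]
      rcases Int.even_or_odd n with ⟨k, hk'⟩ | ⟨k, hk'⟩
      · exact absurd (by rw [← hn, hk', ← two_mul, zpow_mul, hu']; exact zpow_mem (mem_zpowers u) k) hjZ
      · rw [hk', zpow_add, zpow_one, mul_inv_cancel_right, zpow_mul, hu']
        exact zpow_mem (mem_zpowers u) k
    rcases h01 b with rfl | rfl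
    · have e' : i ^ a.val = 1 := by simpa [Fq] using e
      have ho : orderOf i = 2 ^ (1 + 1) :=
        orderOf_eq_prime_pow (hp := ⟨Nat.prime_two⟩) (fun e'' => h.u_ne (by
          rw [pow_one, sq, hii] at e''; exact e'')) hi4
      have := orderOf_dvd_of_pow_eq_one e'
      rw [ho] at this
      have ha : a.val = 0 := Nat.eq_zero_of_dvd_of_lt this (by simp [a.isLt])
      exact Prod.ext (Fin.ext ha) rfl
    · refine absurd ?_ hji'
      have e' : i ^ a.val * j = 1 := by simpa [Fq, P] using e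
      rw [eq_inv_of_mul_eq_one_right e']
      exact inv_mem (pow_mem (mem_zpowers i) _)
  have hker : ∀ w, Fw w ∈ D → w = ((0, 0), (0, 0)) := by
    rintro ⟨p, c, e⟩ hw
    have hw' : Fq p * (x ^ c.val * s ^ e.val) ∈ D := hw
    have hm : x ^ c.val * s ^ e.val ∈ M := by
      have := mul_mem (inv_mem (hQM (hFqQ p))) (hDM hw')
      rwa [inv_mul_cancel_left] at this
    have he : e = 0 := by
      rcases h01 e with rfl | rfl
      · rfl
      exfalso
      rw [show ((1 : Fin 2).val) = 1 from rfl, pow_one] at hm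
      set m0 := x ^ c.val * s
      have e1 : m0 * x * m0⁻¹ = x⁻¹ := by
        calc m0 * x * m0⁻¹ = x ^ c.val * (s * x * s⁻¹) * (x ^ c.val)⁻¹ := by simp only [m0]; group
          _ = x⁻¹ := by rw [T.sx]; group
      have h2 : m0 * (x * m0⁻¹ * x⁻¹) ∈ M := mul_mem hm (hM x hxC _ (inv_mem hm))
      rw [show m0 * (x * m0⁻¹ * x⁻¹) = m0 * x * m0⁻¹ * x⁻¹ by group, e1, ← mul_inv_rev, hsxi,
        inv_inv] at h2
      exact hxM h2
    subst he
    rw [show ((0 : Fin 2).val) = 0 from rfl, pow_zero, mul_one] at hm hw'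
    have hc : c = 0 := by
      by_contra hc
      refine hxM ?_
      have hc' : c = 1 ∨ c = 2 := (by decide : ∀ c : Fin 3, c ≠ 0 → c = 1 ∨ c = 2) c hc
      rcases hc' with rfl | rfl
      · simpa using hm
      · have := inv_mem hm
        rwa [show ((2 : Fin 3).val) = 2 from rfl, sq, hsxi, inv_inv] at this
    subst hc
    rw [show ((0 : Fin 3).val) = 0 from rfl, pow_zero, mul_one] at hw'
    exact Prod.ext (hFq1 p (hQD _ (hFqQ p) hw')) rfl
  have hFqsurj : ∀ q ∈ Q, ∃ p, Fq p = q := by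
    let f : QW → Q := fun p => ⟨Fq p, hFqQ p⟩
    have key : ∀ p : QW, ∃ p', qmul p' p = (0, 0) ∧ ∀ r, qmul p' r = (0, 0) → r = p := by decide +kernel
    have hf : Function.Injective f := by
      intro p r e
      have e' : Fq p = Fq r := congrArg Subtype.val e
      obtain ⟨p', hp', huniq⟩ := key p
      refine (huniq r (hFq1 _ ?_)).symm
      rw [← hq, ← e', hq, hp']
      simp [Fq, P]
    intro q hq'
    obtain ⟨p, hp⟩ := (hf.bijective_of_nat_card_le (by simp [h8])).2 ⟨q, hq'⟩
    exact ⟨p, congrArg Subtype.val hp⟩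
  -- the map to `GL(2,3)`
  set D' : Subgroup (Cu u) := D.subgroupOf (Cu u) with hD'
  haveI : D'.Normal := ⟨fun d hd g => T.D_normal g g.2 d hd⟩
  let F0e : W ≃ Fin 48 := Equiv.ofBijective Nf.F0 Nf.F0_bijective
  let wl : GL (Fin 2) (ZMod 3) → W := fun k => F0e.symm (GL23Core.tab.φ k)
  have hwl : ∀ k, Nf.F0 (wl k) = GL23Core.tab.φ k := fun k => F0e.apply_symm_apply _
  have hwlm : ∀ k l, wl (k * l) = Nf.m (wl k) (wl l) := fun k l => by
    refine Nf.F0_bijective.1 ?_
    rw [hwl, Nf.F0_m, hwl, hwl, GL23Core.tab.φ_mul]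
  let lam : GL (Fin 2) (ZMod 3) →* Cu u ⧸ D' :=
    MonoidHom.mk' (fun k => QuotientGroup.mk' D' ⟨Fw (wl k), hFwC _⟩) fun k l => by
      rw [← map_mul]
      refine congrArg _ (Subtype.ext ?_)
      show Fw (wl (k * l)) = Fw (wl k) * Fw (wl l)
      rw [hwlm, hFw]
  have hlinj : Function.Injective lam := by
    rw [injective_iff_map_eq_one]
    intro k hk'
    have h1 := hker _ (mem_subgroupOf.1 ((QuotientGroup.eq_one_iff _).1 hk'))
    have h2 := hwl k
    rw [h1, Nf.F0_one] at h2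
    exact GL23Core.tab.eq_one_iff.1 h2.symm
  have hlsurj : Function.Surjective lam := by
    intro z
    obtain ⟨⟨c, hc⟩, rfl⟩ := QuotientGroup.mk'_surjective D' z
    obtain ⟨d, hd, q, hq', n, hcase⟩ := T.cover c hc
    obtain ⟨p, rfl⟩ := hFqsurj q hq'
    obtain ⟨e, he⟩ : ∃ e : Fin 2, c = d * Fw (p, (Fin.ofNat 3 n, e)) := by
      have hn : x ^ n = x ^ (Fin.ofNat 3 n).val := by
        exact pow_eq_pow_mod _ h.x3
      rcases hcase with rfl | rfl
      · exact ⟨0, by simp [Fw, Fc, hn, mul_assoc]⟩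
      · exact ⟨1, by simp [Fw, Fc, hn, mul_assoc]⟩
    obtain ⟨k, hk'⟩ := GL23Core.tab.φ.surjective (Nf.F0 (p, (Fin.ofNat 3 n, e)))
    refine ⟨k, ?_⟩
    have hw : wl k = (p, (Fin.ofNat 3 n, e)) := Nf.F0_bijective.1 (by rw [hwl, hk'])
    show QuotientGroup.mk' D' _ = QuotientGroup.mk' D' _
    rw [QuotientGroup.mk'_apply, QuotientGroup.mk'_apply, QuotientGroup.eq, mem_subgroupOf]
    simp only [Subgroup.coe_mul, InvMemClass.coe_inv, hw, he]
    have := T.D_normal _ (inv_mem (hFwC (p, (Fin.ofNat 3 n, e)))) d hd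
    rwa [inv_inv, mul_assoc] at this
  let π : Cu u →* GL (Fin 2) (ZMod 3) :=
    (MulEquiv.ofBijective lam ⟨hlinj, hlsurj⟩).symm.toMonoidHom.comp (QuotientGroup.mk' D')
  have hπker : π.ker = D' := by
    ext g
    simp [π]
  have hπsurj : Function.Surjective π :=
    (MulEquiv.ofBijective lam ⟨hlinj, hlsurj⟩).symm.surjective.comp (QuotientGroup.mk'_surjective D')
  have hD3 : ¬ 3 ∣ Nat.card D := fun e => hM3 (e.trans (card_dvd_of_le hDM))
  have hcardD : Nat.card D' = Nat.card D := Nat.card_congr (subgroupOfEquivOfLe T.D_le).toEquiv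
  let C : Core u :=
    { ord := h.ordu
      π := π
      surj := hπsurj
      odd := by rw [hπker, hcardD]; exact T.D_odd
      fused := fun p hp => h.fused u p h.ordu hp
      nil := by
        rw [hπker]
        haveI := hnil
        exact Group.nilpotent_of_mulEquiv (subgroupOfEquivOfLe T.D_le).symm
      fpf := fun b o ho hb1 hb3 hbo => by
        rw [hπker, mem_subgroupOf] at ho
        have hb3' : b ^ 3 ∈ D' := by rw [← hπker, MonoidHom.mem_ker, map_pow, hb3]
        set n := Nat.card D'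
        have hg3 : (b ^ n) ^ 3 = 1 := by
          rw [← pow_mul, mul_comm, pow_mul]
          have := congrArg Subtype.val (pow_card_eq_one' (x := (⟨_, hb3'⟩ : D')))
          simpa only [SubgroupClass.coe_pow, OneMemClass.coe_one, n] using this
        have hg1 : b ^ n ≠ 1 := fun e => hb1 (by
          have e1 : π b ^ n = 1 := by rw [← map_pow, e, map_one]
          refine orderOf_eq_one_iff.1 (Nat.eq_one_of_dvd_coprimes
            ((Nat.prime_three.coprime_iff_not_dvd).2 (show ¬ 3 ∣ n from hcardD ▸ hD3))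
            (orderOf_dvd_of_pow_eq_one hb3) (orderOf_dvd_of_pow_eq_one e1)))
        have hgo : orderOf ((b ^ n : Cu u) : G) = 3 := by
          rw [Subgroup.orderOf_coe]
          exact orderOf_eq_prime (hp := ⟨Nat.prime_three⟩) hg3 hg1
        obtain ⟨c, hc, hcase⟩ := h.three_conj (b ^ n).2 hgo
        have hcD : c⁻¹ * (o : G) * c ∈ D := by
          have := T.D_normal c⁻¹ (inv_mem hc) o ho
          rwa [inv_inv] at this
        have hxD : Invar x D := T.D_normal x hxC
        have hog : Commute (o : G) ((b ^ n : Cu u) : G) :=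
          congrArg Subtype.val ((hbo.pow_left n).symm.eq)
        have hoc : Commute (c⁻¹ * (o : G) * c) x := by
          have hh : Commute (o : G) (c * x * c⁻¹) := by
            rcases hcase with e | e
            · exact e ▸ hog
            · have := (e ▸ hog : Commute (o : G) (c * x⁻¹ * c⁻¹)).inv_right
              rwa [show (c * x⁻¹ * c⁻¹)⁻¹ = c * x * c⁻¹ by group] at this
          have := hh.map (MulAut.conj c⁻¹).toMonoidHom
          simpa [mul_assoc] using this
        have hz := h.eq_of_commute T.D_le hD3 hxD hcD hoc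
        have h1 : c⁻¹ * (o : G) * c = 1 := by
          refine (h.mem_Z_iff.1 hz).resolve_right fun e => ?_
          rw [e] at hcD
          obtain ⟨k, hk'⟩ := T.D_odd
          have := orderOf_dvd_natCard D hcD
          rw [h.ordu, hk'] at this
          omega
        exact Subtype.ext (by
          calc (o : G) = c * (c⁻¹ * (o : G) * c) * c⁻¹ := by group
            _ = 1 := by rw [h1, mul_one, mul_inv_cancel])
      centQ := fun b o ho hb8 hq8 => by
        rw [hπker, mem_subgroupOf] at ho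
        have hb : lam (π b) = QuotientGroup.mk' D' b :=
          (MulEquiv.ofBijective lam ⟨hlinj, hlsurj⟩).apply_symm_apply _
        obtain ⟨hw0, -⟩ : (wl (π b)).2 = (0, 0) ∧ True :=
          ⟨Nf.F0_q8 _ (by rw [hwl]; exact hq8), trivial⟩
        set w := wl (π b) with hw
        have hd := (QuotientGroup.eq (s := D')).1 (show (QuotientGroup.mk ⟨Fw w, hFwC w⟩ : Cu u ⧸ D') = QuotientGroup.mk b from hb)
        rw [mem_subgroupOf] at hd
        simp only [Subgroup.coe_mul, InvMemClass.coe_inv] at hd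
        have hwq : Fw w = Fq w.1 := by simp [Fw, Fc, hw0]
        rw [hwq] at hd
        set d := (Fq w.1)⁻¹ * (b : G) with hdd
        have hb' : (b : G) = Fq w.1 * d := by rw [hdd, mul_inv_cancel_left]
        have hc := T.D_cent d hd _ (hFqQ w.1)
        have h1 : d = 1 := by
          have e8 : (b : G) ^ 8 = 1 := by simpa using congrArg Subtype.val hb8
          rw [hb', hc.symm.mul_pow] at e8
          have hq1 : Fq w.1 ^ 8 = 1 := by
            have := congrArg Subtype.val (pow_card_eq_one' (x := (⟨_, hFqQ w.1⟩ : Q)))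
            rw [h8] at this
            simpa using this
          rw [hq1, one_mul] at e8
          refine orderOf_eq_one_iff.1 (Nat.eq_one_of_dvd_coprimes ?_
            (orderOf_dvd_of_pow_eq_one e8) (orderOf_dvd_natCard D hd))
          rw [show (8 : ℕ) = 2 ^ 3 from rfl]
          exact Nat.Coprime.pow_left _ (Nat.coprime_two_left.2 T.D_odd)
        rw [h1, mul_one] at hb'
        refine Subtype.ext ?_
        show (b : G) * (o : G) = o * b
        rw [hb']
        exact (T.D_cent o ho _ (hFqQ w.1)).symm.eq }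
  have := Fintype.ofFinite G
  obtain ⟨e⟩ := C.centralizer_equiv
  refine S2916.result ?_ u h.ordu ⟨e⟩
  rcases (PReduced.pResidual_normal 2 G).eq_bot_or_eq_top with e' | e'
  · exfalso
    have hx' : x ∈ Cfsg.pResidual 2 G :=
      subset_closure (show Nat.Coprime (orderOf x) 2 by rw [h.ordx]; norm_num)
    rw [e', mem_bot] at hx'
    have := h.ordx
    rw [hx', orderOf_one] at this
    omega
  · exact e'

end Top

end Cfsg.Agent.SelfCentSix
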