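import Cfsg.Agent.Lib.SelfCentSix.Cycle
import Mathlib.GroupTheory.Nilpotent

/-!
# The symmetric-group layer with `|Q| = 32`: an elementary abelian subgroup of order 16

* `Turn.plane_Q` : `Q` is elementary abelian modulo `⟨u⟩`
* `Turn.exists_fourth` : an involution `a` of `Q` with `⁅x v x⁻¹, a⁆ = u`, commuting with `v` and `s`
-/

set_option autoImplicit false
set_option linter.unusedSectionVars false
set_option linter.style.haveILetI false

namespace Cfsg.Agent.SelfCentSix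

open Subgroup SelfCentThree
open scoped commutatorElement

variable {G : Type*} [Group G] [Finite G] {u x : G}

namespace Turn

variable {h : Hyp u x} {Q D : Subgroup G} {S : Sylow 2 G} {s v y : G} {T : Top h Q D S s}
  {F : Frame h Q S v} (Y : Turn T F y) (hQ : Nat.card Q = 32)
include Y hQ

theorem isE_D {d : G} (hd : d ∈ F.D) : F.IsE d := by
  have e : omegaCenter F.D = F.D := eq_of_le_of_card_ge (fun a ha => ha.1) (by
    have := F.card_Q
    rw [F.card_E]
    omega)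
  exact F.isE_iff.2 (e.symm ▸ hd)

theorem plane_D {d g : G} (hd : d ∈ F.D) (hg : g ∈ Q) : ⁅d, g⁆ ∈ zpowers u :=
  (F.isE_plane (Y.isE_D hQ hd)).2 g hg

theorem plane_Q {g k : G} (hg : g ∈ Q) (hk : k ∈ Q) : ⁅g, k⁆ ∈ zpowers u := by
  obtain ⟨⟨r0, hr0, v0, w0⟩, -⟩ := F.exists_rep
  set w := x * v * x⁻¹ with hw
  set r1 := x * r0 * x⁻¹ with hr1
  set r2 := x * r1 * x⁻¹ with hr2
  have hr1Q : r1 ∈ Q := F.inv _ hr0
  have e1 : ⁅w, r1⁆ = 1 := by rw [hr1, hw, ← conj_comm, v0, mul_one, mul_inv_cancel]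
  have e2 : ⁅v, r1⁆ = u := by
    have e' : ⁅x * w * x⁻¹, r1⁆ = u := by rw [hr1, ← conj_comm, hw, w0, h.x_conj_u]
    rw [hw, F.planeXW hr1Q, ← hw, e1, mul_one] at e'
    exact e'
  -- the commutator of the two generators
  have hc : ⁅r0, r1⁆ ∈ zpowers u := by
    set c := ⁅r0, r1⁆ with hc
    have hcQ : c ∈ Q := by
      rw [hc, commutatorElement_def]
      exact mul_mem (mul_mem (mul_mem hr0 hr1Q) (inv_mem hr0)) (inv_mem hr1Q)
    have hcD : c ∈ F.D := by
      have key : ∀ (p : G), (∀ g ∈ Q, ⁅p, g⁆ ∈ zpowers u) → ⁅p, c⁆ = 1 := by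
        intro p hp
        let f : Q →* zpowers u := MonoidHom.mk' (fun g => ⟨⁅p, (g : G)⁆, hp g g.2⟩) fun a b =>
          Subtype.ext (F.comm_mul a.2 (hp b b.2))
        have e : f ⁅(⟨r0, hr0⟩ : Q), ⟨r1, hr1Q⟩⁆ = 1 := by
          rw [map_commutatorElement, commutatorElement_eq_one_iff_commute]
          exact Subtype.ext (h.Z_comm (h.Z_le (f ⟨r0, hr0⟩).2) (f ⟨r1, hr1Q⟩).2).eq
        exact congrArg Subtype.val e
      exact F.mem_D_of_comm hcQ (key v F.plane) (key _ fun g hg => F.planeW hg)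
    refine h.fixed F.le_C F.three F.inv hcQ ?_
    have hz := h.cube F.le_C F.three F.inv hr0
    rw [← hr1, ← hr2] at hz
    set z := r0 * r1 * r2 with hz'
    have hr2' : r2 = r1⁻¹ * r0⁻¹ * z := by rw [hz']; group
    have e : x * c * x⁻¹ = (r0 * r1)⁻¹ * c * (r0 * r1) := by
      rw [hc, conj_comm, ← hr1, ← hr2, hr2', comm_mul_right,
        (commutatorElement_eq_one_iff_commute.2 (h.Z_comm (F.le_C hr1Q) hz) :), mul_one,
        mul_inv_cancel, mul_one]
      simp only [commutatorElement_def]; group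
    rw [e, show (r0 * r1)⁻¹ * c * (r0 * r1) * c⁻¹ = ⁅(r0 * r1)⁻¹, c⁆ by
      simp only [commutatorElement_def]; group]
    exact comm_symm_mem (Y.plane_D hQ hcD (inv_mem (mul_mem hr0 hr1Q)))
  let A : Subgroup G :=
    { carrier := {g | g ∈ Q ∧ ∀ k ∈ Q, ⁅g, k⁆ ∈ zpowers u}
      one_mem' := ⟨one_mem _, fun k _ => by rw [commutatorElement_one_left]; exact one_mem _⟩
      mul_mem' := fun {a b} ha hb => ⟨mul_mem ha.1 hb.1, fun k hk => by
        rw [comm_mul_left, (h.Z_comm (F.le_C ha.1) (hb.2 k hk)).eq, mul_inv_cancel_right]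
        exact mul_mem (hb.2 k hk) (ha.2 k hk)⟩
      inv_mem' := fun {a} ha => ⟨inv_mem ha.1, fun k hk => by
        have e : ⁅a⁻¹, k⁆ = a⁻¹ * ⁅a, k⁆⁻¹ * a := by simp only [commutatorElement_def]; group
        rw [e, mul_assoc, ← (h.Z_comm (F.le_C ha.1) (inv_mem (ha.2 k hk))).eq, inv_mul_cancel_left]
        exact inv_mem (ha.2 k hk)⟩ }
  have cover : ∀ g ∈ Q, ∃ e ∈ ({1, r0, r1, r0 * r1} : Set G), e ∈ Q ∧ e⁻¹ * g ∈ F.D := by
    intro g hg
    have hinv : ∀ e ∈ Q, ⁅v, e⁆ = ⁅v, g⁆ → ⁅w, e⁆ = ⁅w, g⁆ → e⁻¹ * g ∈ F.D := fun e he a b => by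
      have hm := mul_mem (inv_mem he) hg
      refine F.mem_D_of_comm hm ?_ ?_
      · have := F.comm_mul he (F.plane _ hm)
        rw [mul_inv_cancel_left, a] at this
        exact mul_eq_left.1 this.symm
      · have := F.comm_mul he (F.planeW hm)
        rw [mul_inv_cancel_left, ← hw, b] at this
        exact mul_eq_left.1 this.symm
    rcases h.mem_Z_iff.1 (F.plane g hg) with a | a <;> rcases h.mem_Z_iff.1 (F.planeW hg) with b | b
    · exact ⟨1, by simp, one_mem _, hinv 1 (one_mem _) (by simp [a]) (by simp [hw, b])⟩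
    · exact ⟨r0, by simp, hr0, hinv _ hr0 (v0.trans a.symm) (w0.trans b.symm)⟩
    · exact ⟨r1, by simp, hr1Q, hinv _ hr1Q (e2.trans a.symm) (e1.trans b.symm)⟩
    · exact ⟨_, by simp, mul_mem hr0 hr1Q, hinv _ (mul_mem hr0 hr1Q)
        (by rw [F.comm_mul hr0 (F.plane _ hr1Q), v0, e2, one_mul, a])
        (by rw [hw, F.comm_mul hr0 (F.planeW hr1Q), ← hw, w0, e1, mul_one]; exact b.symm)⟩
  have hr0A : r0 ∈ A := by
    refine ⟨hr0, fun k hk => ?_⟩
    obtain ⟨e, he, heQ, hd⟩ := cover k hk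
    rw [show k = e * (e⁻¹ * k) by group, comm_mul_right]
    refine mul_mem ?_ ?_
    · rcases he with rfl | rfl | rfl | rfl
      · rw [commutatorElement_one_right]; exact one_mem _
      · rw [commutatorElement_self]; exact one_mem _
      · exact hc
      · rw [comm_mul_right, commutatorElement_self, one_mul, (h.Z_comm (F.le_C hr0) hc).eq,
          mul_inv_cancel_right]
        exact hc
    · have hz := comm_symm_mem (Y.plane_D hQ hd hr0)
      rw [(h.Z_comm (F.le_C heQ) hz).eq, mul_inv_cancel_right]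
      exact hz
  have hr1A : r1 ∈ A := ⟨hr1Q, fun k hk => by
    have := hr0A.2 _ (F.invar_back hk)
    rw [show ⁅r1, k⁆ = x * ⁅r0, x⁻¹ * k * x⁆ * x⁻¹ by rw [hr1, conj_comm]; group, h.Z_x this]
    exact this⟩
  obtain ⟨e, he, heQ, hd⟩ := cover g hg
  have hgA : g ∈ A := by
    rw [show g = e * (e⁻¹ * g) by group]
    refine A.mul_mem ?_ ⟨F.D_le hd, fun k hk => Y.plane_D hQ hd hk⟩
    rcases he with rfl | rfl | rfl | rfl
    exacts [one_mem _, hr0A, hr1A, mul_mem hr0A hr1A]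
  exact hgA.2 k hk

theorem sq_Q {g : G} (hg : g ∈ Q) : g * g ∈ zpowers u := by
  have hc : ∀ k ∈ Q, Commute k (g * g) := fun k hk => by
    refine (commutatorElement_eq_one_iff_commute.1 ?_).symm
    have hz := Y.plane_Q hQ hg hk
    rw [comm_mul_left, (h.Z_comm (F.le_C hg) hz).eq, mul_inv_cancel_right]
    rcases h.mem_Z_iff.1 hz with e | e <;> rw [e] <;> simp [h.u2]
  refine T.center_eq (by omega) _ ⟨mul_mem hg hg, ?_, hc⟩
  have hd : g * g ∈ F.D :=
    F.mem_D.2 ⟨mul_mem hg hg, (hc v F.v_mem).symm, (hc _ F.w_mem).symm⟩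
  exact (F.isE_iff.1 (Y.isE_D hQ hd)).2.1

theorem exists_fourth : ∃ a ∈ Q, a * a = 1 ∧ ⁅x * v * x⁻¹, a⁆ = u ∧ Commute a v ∧ s * a * s⁻¹ = a := by
  obtain ⟨⟨r0, hr0, v0, w0⟩, -⟩ := F.exists_rep
  set w := x * v * x⁻¹ with hw
  have hwv : Commute v w := F.vw_comm
  have hwi : w⁻¹ = w := by rw [hw]; exact inv_eq_of_mul_eq_one_right F.w2
  have hvi : v⁻¹ = v := inv_eq_of_mul_eq_one_right F.v2
  have hsw : s * w * s⁻¹ = w * v := by
    calc s * w * s⁻¹ = w⁻¹ * ⁅w, s⁆ * (s * (w * w) * s⁻¹) := by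
          simp only [commutatorElement_def]; group
      _ = w * v := by rw [hwi, Y.ws, hw, F.w2]; group
  have hsws : ⁅s, w⁆ = v := by rw [← commutatorElement_inv, Y.ws, hvi]
  have hr0v : Commute r0 v := (commutatorElement_eq_one_iff_commute.1 v0).symm
  obtain ⟨a, haQ, haw, hav, has⟩ : ∃ a ∈ Q, ⁅w, a⁆ = u ∧ Commute a v ∧ ⁅s, a⁆ ∈ zpowers u := by
    set e := ⁅s, r0⁆ with he
    have heQ : e ∈ Q := by
      rw [he, commutatorElement_def]
      exact mul_mem (T.Q_normal s T.sC _ hr0) (inv_mem hr0)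
    have heD : e ∈ F.D := by
      have h1 : e ∈ F.R := by
        rw [he, commutatorElement_def]
        exact mul_mem (mul_mem (mul_mem Y.sR (F.mem_R.2 ⟨F.le_S hr0, hr0v⟩)) (inv_mem Y.sR))
          (inv_mem (F.mem_R.2 ⟨F.le_S hr0, hr0v⟩))
      refine F.mem_D_of_comm heQ (commutatorElement_eq_one_iff_commute.2 (F.mem_R.1 h1).2.symm) ?_
      have hq : s * r0 * s⁻¹ ∈ Q := T.Q_normal s T.sC _ hr0
      rw [he, show ⁅s, r0⁆ = s * r0 * s⁻¹ * r0⁻¹ from rfl, F.comm_mul hq (F.planeW (inv_mem hr0)), ← hw]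
      have e1 : ⁅w, s * r0 * s⁻¹⁆ = u := by
        have e' : ⁅w, s * r0 * s⁻¹⁆ = s * ⁅w * v, r0⁆ * s⁻¹ := by
          have hsi : s⁻¹ * w * s = w * v := by
            have := congrArg (fun g => s⁻¹ * g * s) hsw
            simp only [show s⁻¹ * (s * w * s⁻¹) * s = w by group] at this
            have hsv : s⁻¹ * v * s = v := by
              calc s⁻¹ * v * s = s⁻¹ * (s * v * s⁻¹) * s := by rw [Y.sv]
                _ = v := by group
            calc s⁻¹ * w * s = (s⁻¹ * (w * v) * s) * (s⁻¹ * v * s)⁻¹ := by group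
              _ = w * v := by rw [← this, hsv, hvi]
          rw [conj_comm, ← hsi]; group
        rw [e', comm_mul_left, v0, mul_one, mul_inv_cancel, one_mul, w0,
          (mem_Cu.1 T.sC).eq, mul_inv_cancel_right]
      have e2 : ⁅w, r0⁻¹⁆ = u := by
        have := F.comm_mul (a := w) hr0 (F.planeW (inv_mem hr0))
        rw [mul_inv_cancel, commutatorElement_one_right, w0] at this
        rw [eq_inv_of_mul_eq_one_right this.symm, h.u_inv]
      rw [e1, e2, h.u2]
    have hse : ⁅s, e⁆ ∈ zpowers u := by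
      have e1 : s * e * s⁻¹ = (s * s) * r0 * (s * s)⁻¹ * (s * r0 * s⁻¹)⁻¹ := by
        rw [he, commutatorElement_def]; group
      rw [(h.Z_comm (F.le_C hr0) T.s2).symm.eq, mul_inv_cancel_right] at e1
      have e2 : r0 * (s * r0 * s⁻¹)⁻¹ = e⁻¹ := by rw [he, commutatorElement_def]; group
      rw [commutatorElement_def, e1, e2, ← mul_inv_rev]
      exact inv_mem ((F.isE_iff.1 (Y.isE_D hQ heD)).2.1.symm ▸ one_mem _)
    obtain ⟨p, hp, hz⟩ := Y.isE_D hQ heD
    have hpD := (F.e_facts hp).1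
    have hsp : ⁅s, p⁆ ∈ zpowers u := by
      have e1 : ⁅s, e⁆ = ⁅s, p⁆ := by
        rw [show e = p * (p⁻¹ * e) by group, comm_mul_right,
          (commutatorElement_eq_one_iff_commute.2 (h.Z_comm T.sC hz) :), mul_one, mul_inv_cancel,
          mul_one]
      rwa [← e1]
    rcases hp with e' | e' | e' | e' <;> rw [e'] at hz hsp
    · exact ⟨r0, hr0, w0, hr0v, by simpa [e] using hz⟩
    · refine ⟨r0 * w, mul_mem hr0 F.w_mem, ?_, hr0v.mul_left hwv.symm, ?_⟩
      · rw [hw, F.comm_mul hr0 (F.planeW F.w_mem), ← hw, w0, commutatorElement_self, mul_one]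
      · rw [comm_mul_right, hsws, ← he, hr0v.eq, mul_inv_cancel_right,
          show e * v = v * (v⁻¹ * e) * v by group, mul_assoc, ← (h.Z_comm F.vC hz).eq, ← mul_assoc,
          F.v2, one_mul]
        exact hz
    · exact absurd (hsws ▸ hsp) F.v_not_Z
    · refine absurd ?_ F.v_not_Z
      rwa [comm_mul_right, hsws, (commutatorElement_eq_one_iff_commute.2
        (mul_inv_eq_iff_eq_mul.1 Y.sv) :), one_mul, (show Commute v v from rfl).eq,
        mul_inv_cancel_right] at hsp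
  by_cases ha2 : a * a = 1
  · obtain ⟨a', ha', ha'2, hz, -, hfix⟩ := T.normalise haQ ha2 has
    have e : a' = a * (a⁻¹ * a') := by group
    refine ⟨a', ha', ha'2, ?_, ?_, hfix⟩
    · rw [e, hw, F.comm_mul haQ (F.planeW (T.Z_le hz)), ← hw, haw,
        (commutatorElement_eq_one_iff_commute.2 (h.Z_comm (F.le_C F.w_mem) hz) :), mul_one]
    · rw [e]; exact hav.mul_left (h.Z_comm F.vC hz).symm
  exfalso
  have ha2' : a * a = u := (h.mem_Z_iff.1 (Y.sq_Q hQ haQ)).resolve_left ha2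
  set a1 := x * a * x⁻¹ with ha1
  set a2 := x * a1 * x⁻¹ with ha2d
  have ha1Q : a1 ∈ Q := F.inv _ haQ
  have ha2Q : a2 ∈ Q := F.inv _ ha1Q
  have hwa1 : ⁅w, a1⁆ = 1 := by
    rw [hw, ha1, ← conj_comm, (commutatorElement_eq_one_iff_commute.2 hav.symm :), mul_one,
      mul_inv_cancel]
  have hva1 : ⁅v, a1⁆ = u := by
    have e' : ⁅x * w * x⁻¹, a1⁆ = u := by rw [ha1, ← conj_comm, haw, h.x_conj_u]
    rw [hw, F.planeXW ha1Q, ← hw, hwa1, mul_one] at e'
    exact e'
  have hcube := h.cube F.le_C F.three F.inv haQ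
  have hva2 : ⁅v, a2⁆ = u := by
    have e := commutatorElement_eq_one_iff_commute.2 (h.Z_comm F.vC hcube)
    rw [F.comm_mul (mul_mem haQ ha1Q) (F.plane _ ha2Q), F.comm_mul haQ (F.plane _ ha1Q),
      (commutatorElement_eq_one_iff_commute.2 hav.symm :), one_mul, hva1] at e
    rw [eq_inv_of_mul_eq_one_right e, h.u_inv]
  have hcomm : ⁅a1, a⁆ = u := by
    set z := a * a1 * a2 with hz
    have hzc : Commute a2⁻¹ z := h.Z_comm (inv_mem (F.le_C ha2Q)) hcube
    have e22 : a2 * a2 = u := by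
      rw [ha2d, ha1, show x * (x * a * x⁻¹) * x⁻¹ * (x * (x * a * x⁻¹) * x⁻¹) =
        x * (x * (a * a) * x⁻¹) * x⁻¹ by group, ha2', h.x_conj_u, h.x_conj_u]
    have e11 : a1 * a1 = u := by
      rw [ha1, show x * a * x⁻¹ * (x * a * x⁻¹) = x * (a * a) * x⁻¹ by group, ha2', h.x_conj_u]
    have e4 : (a * a1) * (a * a1) = u := by
      rw [show a * a1 = z * a2⁻¹ by rw [hz]; group, hzc.mul_mul_mul_comm, ← mul_inv_rev, e22, h.u_inv,
        show z * z = 1 by rcases h.mem_Z_iff.1 hcube with e | e <;> rw [e] <;> simp [h.u2], one_mul]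
    have e5 : (a * a1) * (a * a1) = ⁅a1, a⁆ * (a * a) * (a1 * a1) := by
      have hzz := Y.plane_Q hQ ha1Q haQ
      calc (a * a1) * (a * a1) = a * ⁅a1, a⁆ * (a * a1) * a1 := by
            simp only [commutatorElement_def]; group
        _ = ⁅a1, a⁆ * a * (a * a1) * a1 := by rw [(h.Z_comm (F.le_C haQ) hzz).eq]
        _ = _ := by group
    rw [e4, ha2', e11, mul_assoc, h.u2, mul_one] at e5
    exact e5.symm
  -- the involution `a w`
  set j := a * w with hj
  have hjQ : j ∈ Q := mul_mem haQ F.w_mem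
  have hwa : w * a = u * (a * w) := by
    rw [← haw]; simp only [commutatorElement_def]; group
  have hj2 : j * j = 1 := by
    rw [hj, show a * w * (a * w) = a * (w * a) * w by group, hwa,
      show a * (u * (a * w)) * w = (a * u) * a * (w * w) by group, hw, F.w2, mul_one,
      (mem_Cu.1 (F.le_C haQ)).eq, mul_assoc, ha2', h.u2]
  have hjv : Commute j v := hav.mul_left hwv.symm
  have hjw : ⁅j, w⁆ = u := by
    rw [hj, comm_mul_left, commutatorElement_self, mul_one, mul_inv_cancel, one_mul,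
      ← commutatorElement_inv, haw, h.u_inv]
  have hja1 : ⁅j, a1⁆ = u := by
    rw [hj, comm_mul_left, hwa1, mul_one, mul_inv_cancel, one_mul, ← commutatorElement_inv, hcomm,
      h.u_inv]
  have hjo : orderOf j = 2 := Involution.orderOf_of_sq hj2 fun e => by
    rw [e, commutatorElement_one_left] at hjw; exact h.u_ne hjw.symm
  set k := a1 * w with hk
  have hkQ : k ∈ Q := mul_mem ha1Q F.w_mem
  have hjk : Commute j k := commutatorElement_eq_one_iff_commute.1 (by
    rw [hk, F.comm_mul ha1Q (Y.plane_Q hQ hjQ F.w_mem), hja1, hjw, h.u2])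
  have hvk : ⁅v, k⁆ = u := by
    rw [hk, F.comm_mul ha1Q (F.plane _ F.w_mem), hva1,
      (commutatorElement_eq_one_iff_commute.2 hwv :), mul_one]
  set T0 := Q ⊓ Cu j with hT0
  haveI : Fact (Nat.Prime 2) := ⟨Nat.prime_two⟩
  obtain ⟨U, hU, hUj⟩ := h.exists_sylow_above hjo (R := T0)
    (IsPGroup.to_le S.isPGroup' (inf_le_left.trans T.le_S)) inf_le_right
  have hlt : T0.subgroupOf (U : Subgroup G) < ⊤ := by
    refine lt_top_iff_ne_top.2 fun e => ?_
    have hUT : (U : Subgroup G) ≤ Q := (subgroupOf_eq_top.1 e).trans inf_le_left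
    have h1 := card_le_of_le hUT
    have h2 : Nat.card (U : Subgroup G) = Nat.card (S : Subgroup G) := by
      rw [U.card_eq_multiplicity, S.card_eq_multiplicity]
    have hQS : Q = (S : Subgroup G) := eq_of_le_of_card_ge T.le_S (by omega)
    exact T.s_not (hQS ▸ T.s_mem)
  haveI : Group.IsNilpotent (U : Subgroup G) := U.isPGroup'.isNilpotent
  obtain ⟨⟨g, hgU⟩, hgN, hgT⟩ := SetLike.exists_of_lt (Group.normalizerCondition_of_isNilpotent _ hlt)
  have hconjT : ∀ t ∈ T0, g * t * g⁻¹ ∈ T0 := fun t ht =>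
    mem_subgroupOf.1 ((mem_normalizer_iff.1 hgN ⟨t, hU ht⟩).1 (mem_subgroupOf.2 ht))
  have hgu : Commute g u := by
    have h1 := hconjT v (mem_inf.2 ⟨F.v_mem, mem_Cu.2 hjv.symm⟩)
    have h2 := hconjT k (mem_inf.2 ⟨hkQ, mem_Cu.2 hjk.symm⟩)
    have h3 := Y.plane_Q hQ (mem_inf.1 h1).1 (mem_inf.1 h2).1
    rw [← conj_comm, hvk] at h3
    rcases h.mem_Z_iff.1 h3 with e | e
    · exact absurd (conj_eq_one_iff.1 e) h.u_ne
    · exact mul_inv_eq_iff_eq_mul.1 e
  have hgj : Commute g j := mem_Cu.1 (hUj hgU)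
  obtain ⟨n, hn⟩ := U.isPGroup' ⟨g, hgU⟩
  have hn' : g ^ 2 ^ n = 1 := by simpa using congrArg Subtype.val hn
  -- conjugation by `d q x^i` modulo `⟨u⟩`
  have hmod : ∀ d ∈ D, ∀ q ∈ Q, ∀ m ∈ Q, (d * q) * m * (d * q)⁻¹ * m⁻¹ ∈ zpowers u := by
    intro d hd q hq m hm
    rw [show d * q * m * (d * q)⁻¹ = d * (q * m * q⁻¹) * d⁻¹ by group,
      (T.D_cent d hd _ (mul_mem (mul_mem hq hm) (inv_mem hq))).eq, mul_inv_cancel_right,
      ← commutatorElement_def]
    exact Y.plane_Q hQ hq hm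
  have hvm : ∀ m ∈ Q, ∀ m', m' * m⁻¹ ∈ zpowers u → ⁅v, m'⁆ = ⁅v, m⁆ := fun m hm m' hm' => by
    rw [show m' = (m' * m⁻¹) * m by group, F.comm_mul (T.Z_le hm') (F.plane m hm),
      (commutatorElement_eq_one_iff_commute.2 (h.Z_comm F.vC hm') :), one_mul]
  have hxpow : ∀ i : ℕ, x ^ i = 1 ∨ x ^ i = x ∨ x ^ i = x * x := fun i => by
    rcases mem_zpowers_three h.ordx (pow_mem (mem_zpowers x) i) with e | e | e
    · exact Or.inl e
    · exact Or.inr (Or.inl e)
    · exact Or.inr (Or.inr (e.trans (inv_eq_of_mul_eq_one_right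
        (by rw [← mul_assoc, ← pow_three', h.x3]))))
  have hxx : ∀ {g : G}, x * x * g * (x * x)⁻¹ = x * (x * g * x⁻¹) * x⁻¹ := fun {g} => by group
  have hvD : ∀ d ∈ F.D, ⁅v, d⁆ = 1 := fun d hd =>
    commutatorElement_eq_one_iff_commute.2 (F.mem_D.1 hd).2.1.symm
  have key : ∀ i : ℕ, ∀ e ∈ F.D, x ^ i ≠ 1 → ⁅v, x ^ i * (a * e) * (x ^ i)⁻¹⁆ = u := by
    intro i e he hne
    rcases hxpow i with e' | e' | e'
    · exact absurd e' hne
    · have he1 := F.D_invar e he
      rw [e', show x * (a * e) * x⁻¹ = a1 * (x * e * x⁻¹) by rw [ha1]; group,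
        F.comm_mul ha1Q (F.plane _ (F.D_le he1)), hva1, hvD _ he1, mul_one]
    · have he1 := F.D_invar _ (F.D_invar e he)
      rw [e', hxx, show x * (x * (a * e) * x⁻¹) * x⁻¹ = a2 * (x * (x * e * x⁻¹) * x⁻¹) by
          rw [ha2d, ha1]; group,
        F.comm_mul ha2Q (F.plane _ (F.D_le he1)), hva2, hvD _ he1, mul_one]
  have hvj : ⁅v, j⁆ = 1 := commutatorElement_eq_one_iff_commute.2 hjv.symm
  have hgj' : g * j * g⁻¹ = j := by rw [hgj.eq, mul_inv_cancel_right]
  obtain ⟨d, hd, q, hq, i, hg | hg⟩ := T.cover g (mem_Cu.2 hgu)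
  · by_cases hi : x ^ i = 1
    · rw [hi, mul_one] at hg
      have hdq : Commute d q := T.D_cent d hd q hq
      rw [hg, hdq.mul_pow] at hn'
      have hdQ : d ^ 2 ^ n ∈ Q := by
        rw [eq_inv_of_mul_eq_one_left hn']; exact inv_mem (pow_mem hq _)
      have hd1 : d = 1 := by
        have h1 : orderOf (d ^ 2 ^ n) = 1 := Nat.eq_one_of_dvd_coprimes
          (show Nat.Coprime (Nat.card D) (Nat.card Q) by
              rw [hQ, show (32 : ℕ) = 2 ^ 5 from rfl]
              exact (Nat.coprime_two_right.2 T.D_odd).pow_right 5)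
          (Subgroup.orderOf_dvd_natCard D (pow_mem hd _)) (Subgroup.orderOf_dvd_natCard Q hdQ)
        refine orderOf_eq_one_iff.1 (Nat.eq_one_of_dvd_coprimes ?_
          (orderOf_dvd_of_pow_eq_one (orderOf_eq_one_iff.1 h1)) (Subgroup.orderOf_dvd_natCard D hd))
        exact (Nat.coprime_two_left.2 T.D_odd).pow_left n
      rw [hd1, one_mul] at hg
      exact hgT (mem_subgroupOf.2 (mem_inf.2 ⟨hg ▸ hq, hUj hgU⟩))
    · have hjx : x ^ i * j * (x ^ i)⁻¹ ∈ Q := T.Q_normal _ (pow_mem h.x_mem i) _ hjQ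
      have := hvm _ hjx j (by
        have e := hmod d hd q hq _ hjx
        rw [show d * q * (x ^ i * j * (x ^ i)⁻¹) * (d * q)⁻¹ = g * j * g⁻¹ by rw [hg]; group, hgj']
          at e
        exact e)
      rw [hvj, hj, key i w F.w_mem_D hi] at this
      exact h.u_ne this.symm
  · set j' := s * j * s⁻¹ with hj'
    have hj'Q : j' ∈ Q := T.Q_normal s T.sC _ hjQ
    set e := a⁻¹ * j' with he
    have hez : (w * v)⁻¹ * e ∈ zpowers u := by
      have : e = a⁻¹ * ⁅s, a⁆ * a * (w * v) := by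
        rw [he, hj', hj, show s * (a * w) * s⁻¹ = s * a * s⁻¹ * (s * w * s⁻¹) by group, hsw]
        simp only [commutatorElement_def]; group
      rw [this, mul_assoc a⁻¹, ← (h.Z_comm (F.le_C haQ) has).eq, inv_mul_cancel_left,
        (h.Z_comm (mul_mem (F.le_C F.w_mem) F.vC) has).symm.eq, inv_mul_cancel_left]
      exact has
    have heD : e ∈ F.D := by
      rw [show e = w * v * ((w * v)⁻¹ * e) by group]
      exact mul_mem (mul_mem F.w_mem_D F.v_mem_D) ((zpowers_le.2 F.u_mem_D) hez)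
    have hjx : x ^ i * j' * (x ^ i)⁻¹ ∈ Q := T.Q_normal _ (pow_mem h.x_mem i) _ hj'Q
    have := hvm _ hjx j (by
      have e := hmod d hd q hq _ hjx
      rw [show d * q * (x ^ i * j' * (x ^ i)⁻¹) * (d * q)⁻¹ = g * j * g⁻¹ by rw [hg, hj']; group, hgj']
        at e
      exact e)
    by_cases hi : x ^ i = 1
    · rw [hi] at hjx
      have hm := hmod d hd q hq j' hj'Q
      rw [show d * q * j' * (d * q)⁻¹ = g * j * g⁻¹ by rw [hg, hi, hj']; group, hgj'] at hm
      set z := j * j'⁻¹ with hz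
      have e1 : e = z⁻¹ * w := by
        have e2 : j' = z⁻¹ * j := by rw [hz]; group
        rw [he, e2, ← mul_assoc, (h.Z_comm (inv_mem (F.le_C haQ)) (inv_mem hm)).eq, hj]; group
      refine F.v_not_Z (inv_mem_iff.1 ?_)
      rw [e1, (h.Z_comm (F.le_C F.w_mem) (inv_mem hm)).symm.eq,
        show (w * v)⁻¹ * (w * z⁻¹) = v⁻¹ * z⁻¹ by group] at hez
      have := mul_mem hez hm
      rwa [inv_mul_cancel_right] at this
    · rw [hvj, show j' = a * e by rw [he]; group, key i e heD hi] at this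
      exact h.u_ne this.symm

end Turn

end Cfsg.Agent.SelfCentSix
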