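import Cfsg.Agent.Lib.SelfCentSix.KTwo

/-!
# The symmetric-group layer with `|Q| = 32` does not occur

* `no_three_fixed` : a group of odd order less than 27 with a four group of automorphisms
* `Top.card_lt` : `|Q| < 32`
-/

set_option autoImplicit false
set_option linter.unusedSectionVars false
set_option linter.style.haveILetI false

namespace Cfsg.Agent.SelfCentSix

open Subgroup SelfCentThree
open scoped commutatorElement

section generic

variable {H : Type*} [Group H] [Finite H]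

theorem eq_of_sq_eq {K : Subgroup H} (hK : Odd (Nat.card K)) {a b : H} (ha : a ∈ K) (hb : b ∈ K)
    (e : a * a = b * b) : a = b := by
  have hroot : ∀ c ∈ K, ∀ m, Nat.card K = 2 * m + 1 → c = (c * c) ^ (m + 1) := fun c hc m hm => by
    have h1 : c ^ Nat.card K = 1 := by
      have := congrArg Subtype.val (pow_card_eq_one' (x := (⟨c, hc⟩ : K)))
      simpa only [SubgroupClass.coe_pow, OneMemClass.coe_one] using this
    rw [← pow_two, ← pow_mul, show 2 * (m + 1) = Nat.card K + 1 by omega, pow_succ, h1, one_mul]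
  obtain ⟨m, hm⟩ := hK
  rw [hroot a ha m hm, hroot b hb m hm, e]

theorem inverts {K : Subgroup H} (hKn : K.Normal) (hK : Odd (Nat.card K)) {C : Subgroup H} (hC : C ≤ K)
    {σ : H} (hσ : σ * σ = 1) (hinv : ∀ c ∈ C, σ * c * σ⁻¹ ∈ C)
    (hfix : ∀ c ∈ C, σ * c * σ⁻¹ = c → c = 1) : ∀ c ∈ C, σ * c * σ⁻¹ = c⁻¹ := by
  let g : C → C := fun k => ⟨(k : H)⁻¹ * (σ * k * σ⁻¹), mul_mem (inv_mem k.2) (hinv k k.2)⟩
  have hg : Function.Injective g := by
    intro a b e
    have e' : (a : H)⁻¹ * (σ * (a : H) * σ⁻¹) = (b : H)⁻¹ * (σ * (b : H) * σ⁻¹) :=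
      congrArg Subtype.val e
    refine Subtype.ext (mul_inv_eq_one.1 (hfix _ (mul_mem b.2 (inv_mem a.2)) ?_)).symm
    calc σ * ((b : H) * (a : H)⁻¹) * σ⁻¹
        = (b : H) * ((b : H)⁻¹ * (σ * b * σ⁻¹)) * ((a : H)⁻¹ * (σ * a * σ⁻¹))⁻¹ * (a : H)⁻¹ := by
          group
      _ = (b : H) * (a : H)⁻¹ := by rw [← e']; group
  intro c hc
  obtain ⟨k, hk⟩ := Finite.surjective_of_injective hg ⟨c, hc⟩
  have e : (k : H)⁻¹ * (σ * (k : H) * σ⁻¹) = c := congrArg Subtype.val hk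
  have hσi : σ⁻¹ = σ := inv_eq_of_mul_eq_one_right hσ
  rw [← e]
  calc σ * ((k : H)⁻¹ * (σ * (k : H) * σ⁻¹)) * σ⁻¹
      = σ * (k : H)⁻¹ * σ * (k : H) * (σ * σ)⁻¹ := by group
    _ = σ * (k : H)⁻¹ * σ⁻¹ * (k : H) := by rw [hσ, hσi]; group
    _ = _ := by group

theorem no_three_fixed {K : Subgroup H} (hKn : K.Normal) (hK : Odd (Nat.card K))
    (hK27 : Nat.card K < 27) {i j : H} (hi : i * i = 1) (hj : j * j = 1) (hij : Commute i j)
    (hboth : ∀ k ∈ K, Commute k i → Commute k j → k = 1)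
    (h1 : ∃ k ∈ K, k ≠ 1 ∧ Commute k i) (h2 : ∃ k ∈ K, k ≠ 1 ∧ Commute k j)
    (h3 : ∃ k ∈ K, k ≠ 1 ∧ Commute k (i * j)) : False := by
  set C1 := K ⊓ centralizer ({i} : Set H) with hC1
  set C2 := K ⊓ centralizer ({j} : Set H) with hC2
  set C3 := K ⊓ centralizer ({i * j} : Set H) with hC3
  have m1 : ∀ {c}, c ∈ C1 → c ∈ K ∧ Commute c i := fun hc =>
    ⟨(mem_inf.1 hc).1, mem_centralizer_singleton_iff.1 (mem_inf.1 hc).2⟩
  have m2 : ∀ {c}, c ∈ C2 → c ∈ K ∧ Commute c j := fun hc =>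
    ⟨(mem_inf.1 hc).1, mem_centralizer_singleton_iff.1 (mem_inf.1 hc).2⟩
  have m3 : ∀ {c}, c ∈ C3 → c ∈ K ∧ Commute c (i * j) := fun hc =>
    ⟨(mem_inf.1 hc).1, mem_centralizer_singleton_iff.1 (mem_inf.1 hc).2⟩
  have inv_of : ∀ (σ τ : H), σ * σ = 1 → Commute σ τ →
      (∀ k ∈ K, Commute k σ → Commute k τ → k = 1) →
      ∀ c ∈ K ⊓ centralizer ({τ} : Set H), σ * c * σ⁻¹ = c⁻¹ := by
    intro σ τ hσ hστ hnofix
    refine inverts hKn hK inf_le_left hσ (fun c hc => mem_inf.2 ⟨hKn.conj_mem c (mem_inf.1 hc).1 σ,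
      mem_centralizer_singleton_iff.2 ?_⟩) fun c hc e => hnofix c (mem_inf.1 hc).1
        (mul_inv_eq_iff_eq_mul.1 e).symm (mem_centralizer_singleton_iff.1 (mem_inf.1 hc).2)
    exact ((hστ.mul_left (mem_centralizer_singleton_iff.1 (mem_inf.1 hc).2)).mul_left hστ.inv_left)
  have hijj : i * j * j = i := by rw [mul_assoc, hj, mul_one]
  have hiij : i * (i * j) = j := by rw [← mul_assoc, hi, one_mul]
  have ci2 := inv_of i j hi hij hboth
  have ci3 := inv_of i (i * j) hi ((Commute.refl i).mul_right hij) fun k hk c1 c2 => hboth k hk c1 (by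
    have := c1.mul_right c2; rwa [hiij] at this)
  have cj3 := inv_of j (i * j) hj (hij.symm.mul_right (Commute.refl j)) fun k hk c1 c2 =>
    hboth k hk (by have := c2.mul_right c1; rwa [hijj] at this) c1
  have cj2 : ∀ c ∈ C2, j * c * j⁻¹ = c := fun c hc => by
    rw [(m2 hc).2.symm.eq, mul_inv_cancel_right]
  have ci1 : ∀ c ∈ C1, i * c * i⁻¹ = c := fun c hc => by
    rw [(m1 hc).2.symm.eq, mul_inv_cancel_right]
  have habel2 : ∀ a ∈ C2, ∀ b ∈ C2, Commute a b := fun a ha b hb => by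
    have e := ci2 _ (mul_mem ha hb)
    rw [show i * (a * b) * i⁻¹ = i * a * i⁻¹ * (i * b * i⁻¹) by group, ci2 a ha, ci2 b hb] at e
    exact Commute.inv_inv_iff.1 (show Commute a⁻¹ b⁻¹ from e.trans (mul_inv_rev a b))
  let f : C1 × C2 × C3 → K := fun p =>
    ⟨(p.1 : H) * ((p.2.1 : H) * (p.2.2 : H) * (p.2.1 : H)),
      mul_mem (m1 p.1.2).1 (mul_mem (mul_mem (m2 p.2.1.2).1 (m3 p.2.2.2).1) (m2 p.2.1.2).1)⟩
  have hf : Function.Injective f := by
    rintro ⟨⟨a, ha⟩, ⟨b, hb⟩, ⟨c, hc⟩⟩ ⟨⟨a', ha'⟩, ⟨b', hb'⟩, ⟨c', hc'⟩⟩ e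
    replace e : a * (b * c * b) = a' * (b' * c' * b') := congrArg Subtype.val e
    set t := b * c * b with ht
    set t' := b' * c' * b' with ht'
    have hti : ∀ b ∈ C2, ∀ c ∈ C3, i * (b * c * b) * i⁻¹ = (b * c * b)⁻¹ := fun b hb c hc => by
      rw [show i * (b * c * b) * i⁻¹ = i * b * i⁻¹ * (i * c * i⁻¹) * (i * b * i⁻¹) by group, ci2 b hb,
        ci3 c hc]
      group
    have e2 : a * t⁻¹ = a' * t'⁻¹ := by
      calc a * t⁻¹ = i * a * i⁻¹ * (i * t * i⁻¹) := by rw [ci1 a ha, ht, hti b hb c hc]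
        _ = i * (a * t) * i⁻¹ := by group
        _ = i * (a' * t') * i⁻¹ := by rw [e]
        _ = i * a' * i⁻¹ * (i * t' * i⁻¹) := by group
        _ = _ := by rw [ci1 a' ha', ht', hti b' hb' c' hc']
    have e3 : t * t = t' * t' := by
      calc t * t = (a * t⁻¹)⁻¹ * (a * t) := by group
        _ = (a' * t'⁻¹)⁻¹ * (a' * t') := by rw [e, e2]
        _ = _ := by group
    have et : t = t' := eq_of_sq_eq hK (mul_mem (mul_mem (m2 hb).1 (m3 hc).1) (m2 hb).1)
      (mul_mem (mul_mem (m2 hb').1 (m3 hc').1) (m2 hb').1) e3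
    rw [et] at e
    have ea : a = a' := mul_right_cancel e
    -- now `b c b = b' c' b'`
    set g := b'⁻¹ * b
    have hgC : g ∈ C2 := mul_mem (inv_mem hb') hb
    have g1 : g * c * g = c' := by
      have hgb : g = b * b'⁻¹ := (habel2 b hb _ (inv_mem hb')).eq.symm
      calc g * c * g = b'⁻¹ * b * c * (b * b'⁻¹) := by nth_rw 2 [hgb]
        _ = b'⁻¹ * t * b'⁻¹ := by rw [ht]; group
        _ = c' := by rw [et, ht']; group
    have hjconj : j * (g * c * g) * j⁻¹ = g * c⁻¹ * g := by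
      rw [show j * (g * c * g) * j⁻¹ = j * g * j⁻¹ * (j * c * j⁻¹) * (j * g * j⁻¹) by group, cj2 g hgC,
        cj3 c hc]
    have g2 : g * c⁻¹ * g = (g * c * g)⁻¹ := by
      rw [← hjconj, g1, cj3 c' hc']
    have hgg : g * g * c * (g * g) = c := by
      have e' : g * c * g = g⁻¹ * c * g⁻¹ := by
        calc g * c * g = (g * c * g)⁻¹⁻¹ := (inv_inv _).symm
          _ = (g * c⁻¹ * g)⁻¹ := by rw [g2]
          _ = _ := by group
      calc g * g * c * (g * g) = g * (g * c * g) * g := by group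
        _ = g * (g⁻¹ * c * g⁻¹) * g := by rw [e']
        _ = c := by group
    have hcc : Commute (c * c) (g * g) := by
      show c * c * (g * g) = g * g * (c * c)
      calc c * c * (g * g) = (g * g * c * (g * g)) * c * (g * g) := by rw [hgg]
        _ = g * g * c * (g * g * c * (g * g)) := by group
        _ = _ := by rw [hgg, mul_assoc]
    have hcg : Commute c (g * g) := by
      obtain ⟨m, hm⟩ := hK
      have h1 : c ^ Nat.card K = 1 := by
        have := congrArg Subtype.val (pow_card_eq_one' (x := (⟨c, (m3 hc).1⟩ : K)))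
        simpa only [SubgroupClass.coe_pow, OneMemClass.coe_one] using this
      have : c = (c * c) ^ (m + 1) := by
        rw [← pow_two, ← pow_mul, show 2 * (m + 1) = Nat.card K + 1 by omega, pow_succ, h1, one_mul]
      rw [this]; exact hcc.pow_left _
    rw [show g * g * c * (g * g) = g * g * (c * (g * g)) by group, hcg.eq, ← mul_assoc] at hgg
    have hgK := (m2 hgC).1
    have hg2 : g * g = 1 := by
      refine eq_of_sq_eq hK (mul_mem hgK hgK) K.one_mem ?_
      rw [one_mul]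
      exact mul_eq_right.1 hgg
    have hg1 : g = 1 := eq_of_sq_eq hK hgK K.one_mem (by rw [hg2, one_mul])
    rw [hg1, one_mul, mul_one] at g1
    have eb : b = b' := (inv_mul_eq_one.1 hg1).symm
    subst ea eb g1
    rfl
  have hcard := Nat.card_le_card_of_injective f hf
  rw [Nat.card_prod, Nat.card_prod] at hcard
  have h3le : ∀ C : Subgroup H, C ≤ K → (∃ k ∈ C, k ≠ 1) → 3 ≤ Nat.card C := by
    rintro C hCK ⟨k, hk, hk1⟩
    have hodd : Odd (Nat.card C) := hK.of_dvd_nat (card_dvd_of_le hCK)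
    haveI : Nontrivial C := ⟨⟨k, hk⟩, 1, fun e => hk1 (congrArg Subtype.val e)⟩
    have := Finite.one_lt_card (α := C)
    obtain ⟨m, hm⟩ := hodd
    omega
  obtain ⟨k1, a1, b1, c1⟩ := h1
  obtain ⟨k2, a2, b2, c2⟩ := h2
  obtain ⟨k3, a3, b3, c3⟩ := h3
  have l1 := h3le C1 inf_le_left ⟨k1, mem_inf.2 ⟨a1, mem_centralizer_singleton_iff.2 c1⟩, b1⟩
  have l2 := h3le C2 inf_le_left ⟨k2, mem_inf.2 ⟨a2, mem_centralizer_singleton_iff.2 c2⟩, b2⟩
  have l3 := h3le C3 inf_le_left ⟨k3, mem_inf.2 ⟨a3, mem_centralizer_singleton_iff.2 c3⟩, b3⟩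
  have := Nat.mul_le_mul l1 (Nat.mul_le_mul l2 l3)
  omega

end generic

end Cfsg.Agent.SelfCentSix
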