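import Cfsg.Agent.Lib.SelfCentSix.KTwoFinal

/-!
# The symmetric-group layer: `|Q| = 32` is impossible

* `Quad T F y a` : the data of `Turn.exists_fourth`, with `A = C_S(⟨v, a, s⟩)` abelian of index two in
  `C_S(p)` for each `p ∈ {v, a, va}`
* `Top.card_lt` : `|Q| < 32`
-/

set_option autoImplicit false
set_option linter.unusedSectionVars false
set_option linter.style.haveILetI false

namespace Cfsg.Agent.SelfCentSix

open Subgroup SelfCentThree
open scoped commutatorElement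

variable {G : Type*} [Group G] [Finite G] {u x : G}

/-- `v`, `a` and `s` span an abelian subgroup. -/
structure Quad {h : Hyp u x} {Q D : Subgroup G} {S : Sylow 2 G} {s v : G} (T : Top h Q D S s)
    (F : Frame h Q S v) (y a : G) : Prop where
  turn : Turn T F y
  card : Nat.card Q = 32
  aQ : a ∈ Q
  a2 : a * a = 1
  wa : ⁅x * v * x⁻¹, a⁆ = u
  av : Commute a v
  sa : s * a * s⁻¹ = a

namespace Quad

variable {h : Hyp u x} {Q D : Subgroup G} {S : Sylow 2 G} {s v y a : G} {T : Top h Q D S s}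
  {F : Frame h Q S v} (Z : Quad T F y a)
include Z

/-- `C_S(⟨v, a, s⟩)`. -/
def A (_Z : Quad T F y a) : Subgroup G := (S : Subgroup G) ⊓ Cu v ⊓ Cu a ⊓ Cu s

theorem mem_A {g : G} :
    g ∈ Z.A ↔ g ∈ (S : Subgroup G) ∧ Commute g v ∧ Commute g a ∧ Commute g s := by
  simp only [Quad.A, mem_inf, mem_Cu, and_assoc]

theorem plane {g k : G} (hg : g ∈ Q) (hk : k ∈ Q) : ⁅g, k⁆ ∈ zpowers u :=
  Z.turn.plane_Q Z.card hg hk

theorem sv' : Commute s v := mul_inv_eq_iff_eq_mul.1 Z.turn.sv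

theorem sa' : Commute s a := mul_inv_eq_iff_eq_mul.1 Z.sa

theorem au : Commute a u := mem_Cu.1 (T.Q_le Z.aQ)

theorem sA : s ∈ Z.A := Z.mem_A.2 ⟨T.s_mem, Z.sv', Z.sa', Commute.refl s⟩

theorem Z_le_A : zpowers u ≤ Z.A := fun _ hz =>
  Z.mem_A.2 ⟨T.le_S (T.Z_le hz), (h.Z_comm F.vC hz).symm, (h.Z_comm (T.Q_le Z.aQ) hz).symm,
    (h.Z_comm T.sC hz).symm⟩

theorem vA : v ∈ Z.A := Z.mem_A.2 ⟨T.le_S F.v_mem, Commute.refl v, Z.av.symm, Z.sv'.symm⟩

theorem aA : a ∈ Z.A := Z.mem_A.2 ⟨T.le_S Z.aQ, Z.av, Commute.refl a, Z.sa'.symm⟩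

/-- The elements of `Q` commuting with `v` and `a`. -/
theorem qA {q : G} (hq : q ∈ Q) (hqv : Commute q v) (hqa : Commute q a) :
    ∃ p ∈ ({1, v, a, v * a} : Set G), p⁻¹ * q ∈ zpowers u := by
  set w := x * v * x⁻¹ with hw
  have key : ∀ d ∈ F.D, Commute d a → ∃ p, (p = 1 ∨ p = v) ∧ p⁻¹ * d ∈ zpowers u := by
    intro d hd hda
    obtain ⟨p, hp, hz⟩ := Z.turn.isE_D Z.card hd
    have hpa : Commute p a := by
      rw [show p = d * (p⁻¹ * d)⁻¹ by group]
      exact hda.mul_left (h.Z_comm (T.Q_le Z.aQ) hz).symm.inv_left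
    have hwa : ¬ Commute w a := fun e => h.u_ne (by
      rw [← Z.wa]; exact commutatorElement_eq_one_iff_commute.2 e)
    rcases hp with e | e | e | e
    · exact ⟨p, Or.inl e, hz⟩
    · exact ⟨p, Or.inr e, hz⟩
    · rw [e] at hpa
      exact absurd hpa hwa
    · refine absurd ?_ hwa
      rw [e] at hpa
      have := Z.av.symm.inv_left.mul_left hpa
      rwa [inv_mul_cancel_left] at this
  have hqv' : ⁅v, q⁆ = 1 := commutatorElement_eq_one_iff_commute.2 hqv.symm
  rcases h.mem_Z_iff.1 (F.planeW hq) with e | e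
  · obtain ⟨p, hp, hz⟩ := key q (F.mem_D_of_comm hq hqv' e) hqa
    rcases hp with e' | e'
    · exact ⟨p, by simp [e'], hz⟩
    · exact ⟨p, by simp [e'], hz⟩
  · have hd : a⁻¹ * q ∈ F.D := by
      have hm := mul_mem (inv_mem Z.aQ) hq
      refine F.mem_D_of_comm hm (commutatorElement_eq_one_iff_commute.2
        (Z.av.symm.inv_right.mul_right hqv.symm)) ?_
      have := F.comm_mul (a := x * v * x⁻¹) Z.aQ (F.planeW hm)
      rw [mul_inv_cancel_left, Z.wa, e] at this
      exact mul_eq_left.1 this.symm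
    obtain ⟨p, hp, hz⟩ := key _ hd ((Commute.refl a).inv_left.mul_left hqa)
    rcases hp with rfl | rfl
    · exact ⟨a, by simp, by simpa using hz⟩
    · refine ⟨p * a, by simp, ?_⟩
      rw [Z.av.symm.eq, mul_inv_rev, mul_assoc]
      exact hz

theorem qA_mem {q : G} (hq : q ∈ Q) (hqv : Commute q v) (hqa : Commute q a) :
    q ∈ Z.A ∧ q * q = 1 := by
  obtain ⟨p, hp, hz⟩ := Z.qA hq hqv hqa
  have hpA : p ∈ Z.A ∧ p * p = 1 := by
    rcases hp with rfl | rfl | rfl | rfl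
    · exact ⟨one_mem _, one_mul 1⟩
    · exact ⟨Z.vA, F.v2⟩
    · exact ⟨Z.aA, Z.a2⟩
    · exact ⟨mul_mem Z.vA Z.aA, by rw [Z.av.mul_mul_mul_comm, F.v2, Z.a2, one_mul]⟩
  have e : q = p * (p⁻¹ * q) := by group
  refine ⟨e ▸ mul_mem hpA.1 (Z.Z_le_A hz), ?_⟩
  have hc : Commute (p⁻¹ * q) p := (h.Z_comm (T.S_le (Z.mem_A.1 hpA.1).1) hz).symm
  rw [e, hc.mul_mul_mul_comm, hpA.2, one_mul]
  rcases h.mem_Z_iff.1 hz with e' | e' <;> rw [e'] <;> simp [h.u2]

theorem A_cases {g : G} (hg : g ∈ Z.A) : ∃ q ∈ Q, q ∈ Z.A ∧ q * q = 1 ∧ (g = q ∨ g = s * q) := by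
  obtain ⟨hgS, hgv, hga, hgs⟩ := Z.mem_A.1 hg
  rcases T.index g hgS with hq | hq
  · exact ⟨g, hq, hg, (Z.qA_mem hq hgv hga).2, Or.inl rfl⟩
  · obtain ⟨h1, h2⟩ := Z.qA_mem hq (Z.sv'.inv_left.mul_left hgv) (Z.sa'.inv_left.mul_left hga)
    exact ⟨_, hq, h1, h2, Or.inr (by group)⟩

theorem A_comm {g k : G} (hg : g ∈ Z.A) (hk : k ∈ Z.A) : Commute g k := by
  have hq : ∀ {q}, q ∈ Q → q ∈ Z.A → Commute g q := fun {q} hq hqA => by
    obtain ⟨-, hqv, hqa, -⟩ := Z.mem_A.1 hqA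
    obtain ⟨p, hp, hz⟩ := Z.qA hq hqv hqa
    obtain ⟨hgS, hgv, hga, -⟩ := Z.mem_A.1 hg
    rw [show q = p * (p⁻¹ * q) by group]
    refine Commute.mul_right ?_ (h.Z_comm (T.S_le hgS) hz)
    rcases hp with rfl | rfl | rfl | rfl
    exacts [Commute.one_right _, hgv, hga, hgv.mul_right hga]
  obtain ⟨q, hqQ, hqA, -, rfl | rfl⟩ := Z.A_cases hk
  · exact hq hqQ hqA
  · exact (Z.mem_A.1 hg).2.2.2.mul_right (hq hqQ hqA)

/-- Classes fixed by `s` lie in `A`. -/
theorem fixed {e : G} (he : e ∈ Q) (hs : ⁅s, e⁆ ∈ zpowers u) : e ∈ Z.A := by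
  set w := x * v * x⁻¹ with hw
  have hwi : w⁻¹ = w := by rw [hw]; exact inv_eq_of_mul_eq_one_right F.w2
  have hsw : s * w * s⁻¹ = w * v := by
    calc s * w * s⁻¹ = w⁻¹ * ⁅w, s⁆ * (s * (w * w) * s⁻¹) := by
          simp only [commutatorElement_def]; group
      _ = w * v := by rw [hwi, Z.turn.ws, hw, F.w2]; group
  have hsws : ⁅s, w⁆ = v := by
    rw [← commutatorElement_inv, Z.turn.ws, inv_eq_of_mul_eq_one_right F.v2]
  have hev : ⁅v, e⁆ = 1 := by
    have hz := F.planeW he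
    have e1 : ⁅w * v, s * e * s⁻¹⁆ = ⁅w, e⁆ := by
      rw [← hsw, ← conj_comm, (h.Z_comm T.sC hz).eq, mul_inv_cancel_right]
    have e2 : ∀ p, (∀ g ∈ Q, ⁅p, g⁆ ∈ zpowers u) → p ∈ Cu u → ⁅p, s * e * s⁻¹⁆ = ⁅p, e⁆ := by
      intro p hp hpC
      rw [show s * e * s⁻¹ = ⁅s, e⁆ * e by simp [commutatorElement_def],
        F.comm_mul (T.Z_le hs) (hp e he),
        (commutatorElement_eq_one_iff_commute.2 (h.Z_comm hpC hs) :), one_mul]
    have hsq : s * e * s⁻¹ ∈ Q := T.Q_normal s T.sC e he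
    rw [comm_mul_left, (h.Z_comm (T.Q_le F.w_mem) (F.plane _ hsq)).eq, mul_inv_cancel_right,
      e2 v F.plane F.vC, e2 w (fun g hg => F.planeW hg) (T.Q_le F.w_mem)] at e1
    exact mul_eq_right.1 e1
  have key : ∀ d ∈ F.D, ⁅s, d⁆ ∈ zpowers u → d ∈ Z.A := by
    intro d hd hds
    obtain ⟨p, hp, hz⟩ := Z.turn.isE_D Z.card hd
    have hsp : ⁅s, p⁆ ∈ zpowers u := by
      have e1 : ⁅s, d⁆ = ⁅s, p⁆ := by
        rw [show d = p * (p⁻¹ * d) by group, comm_mul_right,
          (commutatorElement_eq_one_iff_commute.2 (h.Z_comm T.sC hz) :), mul_one, mul_inv_cancel,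
          mul_one]
      rwa [← e1]
    have hpA : p ∈ Z.A := by
      rcases hp with e' | e' | e' | e' <;> rw [e'] at hsp ⊢
      · exact one_mem _
      · exact Z.vA
      · exact absurd (hsws ▸ hsp) F.v_not_Z
      · refine absurd ?_ F.v_not_Z
        rwa [comm_mul_right, hsws, (commutatorElement_eq_one_iff_commute.2 Z.sv' :), one_mul,
          (show Commute v v from rfl).eq, mul_inv_cancel_right] at hsp
    have := mul_mem hpA (Z.Z_le_A hz)
    rwa [mul_inv_cancel_left] at this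
  rcases h.mem_Z_iff.1 (F.planeW he) with e' | e'
  · exact key e (F.mem_D_of_comm he hev e') hs
  · have hm := mul_mem (inv_mem Z.aQ) he
    have hd : a⁻¹ * e ∈ F.D := by
      refine F.mem_D_of_comm hm ?_ ?_
      · have := F.comm_mul (a := v) Z.aQ (F.plane _ hm)
        rw [mul_inv_cancel_left, hev, (commutatorElement_eq_one_iff_commute.2 Z.av.symm :),
          one_mul] at this
        exact this.symm
      · have := F.comm_mul (a := x * v * x⁻¹) Z.aQ (F.planeW hm)
        rw [mul_inv_cancel_left, Z.wa, e'] at this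
        exact mul_eq_left.1 this.symm
    have hsd : ⁅s, a⁻¹ * e⁆ ∈ zpowers u := by
      rw [comm_mul_right, (commutatorElement_eq_one_iff_commute.2 Z.sa'.inv_right :), one_mul,
        (h.Z_comm (inv_mem (T.Q_le Z.aQ)) hs).eq, mul_inv_cancel_right]
      exact hs
    have := mul_mem Z.aA (key _ hd hsd)
    rwa [mul_inv_cancel_left] at this

theorem commS {q : G} (hq : q ∈ Q) : ⁅q, s⁆ ∈ Z.A := by
  set c := ⁅q, s⁆ with hc
  have hcQ : c ∈ Q := by
    rw [hc, show ⁅q, s⁆ = q * (s * q⁻¹ * s⁻¹) by simp only [commutatorElement_def]; group]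
    exact mul_mem hq (T.Q_normal s T.sC _ (inv_mem hq))
  refine Z.fixed hcQ ?_
  have e : s * c * s⁻¹ = c⁻¹ := by
    have h2 : s * s * q⁻¹ * (s * s)⁻¹ = q⁻¹ := by
      rw [(h.Z_comm (inv_mem (T.Q_le hq)) T.s2).symm.eq, mul_inv_cancel_right]
    calc s * c * s⁻¹ = (s * q * s⁻¹) * (s * s * q⁻¹ * (s * s)⁻¹) := by
          rw [hc, commutatorElement_def]; group
      _ = _ := by rw [h2, hc, commutatorElement_def]; group
  rw [commutatorElement_def, e, ← mul_inv_rev]
  exact inv_mem (Z.turn.sq_Q Z.card hcQ)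

/-- For `p ∈ A ∩ Q` outside `⟨u⟩`, `A` has index two in `C_S(p)`. -/
theorem outside {p : G} (hp : p ∈ Q) (hpA : p ∈ Z.A) (hpZ : p ∉ zpowers u) :
    x * p * x⁻¹ ∉ Z.A ∧
      ∀ g ∈ (S : Subgroup G), Commute g p → g ∈ Z.A ∨ (x * p * x⁻¹)⁻¹ * g ∈ Z.A := by
  have hp2 : p * p = 1 := (Z.qA_mem hp (Z.mem_A.1 hpA).2.1 (Z.mem_A.1 hpA).2.2.1).2
  set p1 := x * p * x⁻¹ with hp1
  have hp1Q : p1 ∈ Q := F.inv _ hp
  have hfix : ∀ e ∈ Z.A, ⁅s, e⁆ ∈ zpowers u := fun e he => by
    rw [(commutatorElement_eq_one_iff_commute.2 (Z.mem_A.1 he).2.2.2.symm :)]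
    exact one_mem _
  have hout : p1 ∉ Z.A := fun hin => hpZ (T.fixed_s hp (hfix p hpA) (hfix p1 hin))
  refine ⟨hout, fun g hgS hgp => ?_⟩
  have hsp : Commute s p := (Z.mem_A.1 hpA).2.2.2.symm
  have hp1p : Commute p1 p := (h.commute_conj F.le_C F.three F.inv hp hp2).symm
  -- an element of `Q` commuting with `p`
  have hsplit : ∀ q ∈ Q, Commute q p → q ∈ Z.A ∨ p1⁻¹ * q ∈ Z.A := by
    intro q hq hqp
    by_cases hqA : q ∈ Z.A
    · exact Or.inl hqA
    refine Or.inr ?_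
    have hm := mul_mem (inv_mem hp1Q) hq
    obtain ⟨i, hi, hz⟩ := Z.qA hp (Z.mem_A.1 hpA).2.1 (Z.mem_A.1 hpA).2.2.1
    have hcomm : ∀ r ∈ Q, Commute r p → ⁅i, r⁆ = 1 := fun r hr hrp => by
      refine commutatorElement_eq_one_iff_commute.2 ?_
      rw [show i = p * (i⁻¹ * p)⁻¹ by group]
      exact hrp.symm.mul_left (h.Z_comm (T.Q_le hr) hz).symm.inv_left
    have hva : ∀ r ∈ Q, ⁅v * a, r⁆ = ⁅v, r⁆ * ⁅a, r⁆ := fun r hr => by
      rw [comm_mul_left, (h.Z_comm F.vC (Z.plane Z.aQ hr)).eq, mul_inv_cancel_right]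
      exact (h.Z_comm (h.Z_le (F.plane r hr)) (Z.plane Z.aQ hr)).eq.symm
    -- a single character separates
    have hsame : ∀ r ∈ Q, Commute r p → r ∉ Z.A → (⁅v, r⁆, ⁅a, r⁆) ≠ ((1 : G), (1 : G)) :=
      fun r hr _ hrA e => hrA (Z.qA_mem hr
        (commutatorElement_eq_one_iff_commute.1 (congrArg Prod.fst e)).symm
        (commutatorElement_eq_one_iff_commute.1 (congrArg Prod.snd e)).symm).1
    have hiv : i = v ∨ i = a ∨ i = v * a := by
      rcases hi with rfl | h'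
      · exact absurd (by simpa using hz) hpZ
      · exact h'
    have eq_vals : ⁅v, q⁆ = ⁅v, p1⁆ ∧ ⁅a, q⁆ = ⁅a, p1⁆ := by
      have n1 := hsame q hq hqp hqA
      have n2 := hsame p1 hp1Q hp1p hout
      have c1 := hcomm q hq hqp
      have c2 := hcomm p1 hp1Q hp1p
      rcases h.mem_Z_iff.1 (F.plane q hq) with a1 | a1 <;>
        rcases h.mem_Z_iff.1 (Z.plane Z.aQ hq) with b1 | b1 <;>
        rcases h.mem_Z_iff.1 (F.plane p1 hp1Q) with a2 | a2 <;>
        rcases h.mem_Z_iff.1 (Z.plane Z.aQ hp1Q) with b2 | b2 <;>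
        rcases hiv with e | e | e <;>
        simp [e, hva q hq, hva p1 hp1Q, a1, b1, a2, b2, h.u_ne, h.u2] at c1 c2 n1 n2 ⊢
    refine (Z.qA_mem hm (commutatorElement_eq_one_iff_commute.1 ?_).symm
      (commutatorElement_eq_one_iff_commute.1 ?_).symm).1
    · have := F.comm_mul (a := v) hp1Q (F.plane _ hm)
      rw [mul_inv_cancel_left, eq_vals.1] at this
      exact mul_eq_left.1 this.symm
    · have := F.comm_mul (a := a) hp1Q (Z.plane Z.aQ hm)
      rw [mul_inv_cancel_left, eq_vals.2] at this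
      exact mul_eq_left.1 this.symm
  rcases T.index g hgS with hq | hq
  · exact hsplit g hq hgp
  · rcases hsplit _ hq (hsp.inv_left.mul_left hgp) with e | e
    · exact Or.inl (by simpa using mul_mem Z.sA e)
    · refine Or.inr ?_
      rw [show p1⁻¹ * g = ⁅p1⁻¹, s⁆ * (s * (p1⁻¹ * (s⁻¹ * g))) by
        simp only [commutatorElement_def]; group]
      exact mul_mem (Z.commS (inv_mem hp1Q)) (mul_mem Z.sA e)

theorem card_S : Nat.card (S : Subgroup G) = 64 := by
  refine le_antisymm ?_ ?_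
  · have := T.card_le_two (le_refl (S : Subgroup G))
    rw [inf_eq_right.2 T.le_S, Z.card] at this
    exact this
  · obtain ⟨k, hk⟩ := card_dvd_of_le T.le_S
    have hne : k ≠ 1 := fun e => by
      rw [e, mul_one] at hk
      exact T.s_not (eq_of_le_of_card_ge T.le_S hk.le ▸ T.s_mem)
    have hk0 : k ≠ 0 := fun e => by
      rw [e, mul_zero] at hk
      exact (Nat.card_pos (α := (S : Subgroup G))).ne' hk
    rw [hk, Z.card]
    omega

theorem card_A : Nat.card Z.A ≤ 16 ∧ 16 ≤ Nat.card Z.A := by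
  have hAR : Z.A ≤ F.R := fun g hg => F.mem_R.2 ⟨(Z.mem_A.1 hg).1, (Z.mem_A.1 hg).2.1⟩
  have hR : Nat.card F.R = 32 := by
    have := F.card_R
    rw [Z.card_S] at this
    omega
  obtain ⟨hout, hsplit⟩ := Z.outside F.v_mem Z.vA F.v_not_Z
  have h1 : Nat.card F.R ≤ 2 * Nat.card Z.A := by
    refine card_le_two_mul fun g hg k hk hgA hkA => ?_
    have a1 := (hsplit g (F.mem_R.1 hg).1 (F.mem_R.1 hg).2).resolve_left hgA
    have a2 := (hsplit k (F.mem_R.1 hk).1 (F.mem_R.1 hk).2).resolve_left hkA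
    have := mul_mem (inv_mem a1) a2
    convert this using 1
    group
  obtain ⟨k, hk⟩ := card_dvd_of_le hAR
  have hne : k ≠ 1 := fun e => by
    rw [e, mul_one] at hk
    exact hout ((eq_of_le_of_card_ge hAR hk.le).symm ▸ Z.turn.w_R)
  have hk0 : k ≠ 0 := fun e => by rw [e, mul_zero] at hk; omega
  have := Nat.mul_le_mul_left (Nat.card Z.A) (show 2 ≤ k by omega)
  omega

theorem invar {p y' : G} {F' : Frame h Q S p} (Y' : Turn T F' y') (hpA : p ∈ Z.A) :
    Invar y' Z.A := by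
  classical
  have hAR : Z.A ≤ F'.R := fun g hg => F'.mem_R.2 ⟨(Z.mem_A.1 hg).1, Z.A_comm hg hpA⟩
  obtain ⟨-, hsplit⟩ := Z.outside F'.v_mem hpA F'.v_not_Z
  have hdiff : ∀ g ∈ F'.R, ∀ k ∈ F'.R, g ∉ Z.A → k ∉ Z.A → g⁻¹ * k ∈ Z.A := by
    intro g hg k hk hgA hkA
    have a1 := (hsplit g (F'.mem_R.1 hg).1 (F'.mem_R.1 hg).2).resolve_left hgA
    have a2 := (hsplit k (F'.mem_R.1 hk).1 (F'.mem_R.1 hk).2).resolve_left hkA
    have := mul_mem (inv_mem a1) a2
    convert this using 1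
    group
  set B := Z.A.map (MulAut.conj y').toMonoidHom with hB
  have hBR : B ≤ F'.R := by
    rintro _ ⟨g, hg, rfl⟩
    exact Y'.yR g (hAR hg)
  intro g hg
  refine by_contra fun hgA => ?_
  set b0 := y' * g * y'⁻¹
  have hb0 : b0 ∈ B := ⟨g, hg, rfl⟩
  have hcard : 8 ≤ Nat.card (B ⊓ Z.A : Subgroup G) := by
    have h1 : Nat.card B ≤ 2 * Nat.card (B ⊓ Z.A : Subgroup G) := by
      refine card_le_two_mul fun g hg k hk hgI hkI => mem_inf.2 ⟨mul_mem (inv_mem hg) hk,
        hdiff g (hBR hg) k (hBR hk) (fun e => hgI (mem_inf.2 ⟨hg, e⟩))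
          fun e => hkI (mem_inf.2 ⟨hk, e⟩)⟩
    have h2 : Nat.card B = Nat.card Z.A := card_map_of_injective (MulAut.conj y').injective
    have := Z.card_A
    omega
  let K4 : Finset G := {1, u, p, p * u}
  have hsub : ∀ c : (B ⊓ Z.A : Subgroup G), (c : G) ∈ K4 := by
    intro c
    obtain ⟨hcB, hcA⟩ := mem_inf.1 c.2
    have hcb : Commute b0 (c : G) := by
      obtain ⟨g', hg', e⟩ := hcB
      rw [← e]
      exact (Z.A_comm hg hg').map (MulAut.conj y').toMonoidHom
    have hcR : ∀ r ∈ F'.R, Commute r (c : G) := fun r hr => by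
      by_cases hrA : r ∈ Z.A
      · exact Z.A_comm hrA hcA
      · have := hcb.mul_left (Z.A_comm (hdiff b0 (hBR hb0) r hr hgA hrA) hcA)
        rwa [mul_inv_cancel_left] at this
    have hcQ : (c : G) ∈ Q := Y'.mem_Q_of (hAR hcA) (by
      rw [(commutatorElement_eq_one_iff_commute.2 (hcR _ Y'.w_R) :)]
      exact one_mem _)
    have hc2 := (Z.qA_mem hcQ (Z.mem_A.1 hcA).2.1 (Z.mem_A.1 hcA).2.2.1).2
    have := F'.inV_iff.1 (F'.center_R (hAR hcA) hc2 hcR)
    simpa [K4] using this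
  have h4 : Nat.card (B ⊓ Z.A : Subgroup G) ≤ K4.card := by
    rw [← Fintype.card_coe, ← Nat.card_eq_fintype_card]
    exact Nat.card_le_card_of_injective (fun c : (B ⊓ Z.A : Subgroup G) => (⟨c, hsub c⟩ : K4))
      fun a b e => Subtype.ext (congrArg (fun q : K4 => (q : G)) e)
  have : K4.card ≤ 4 := Finset.card_le_four
  omega

theorem A_sq {g : G} (hg : g ∈ Z.A) : g * g = 1 := by
  have hy := Z.invar Z.turn Z.vA
  have hval : ∀ {k}, k ∈ Z.A → k * k = 1 ∨ k * k = s * s := fun {k} hk => by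
    obtain ⟨q, hq, hqA, hq2, rfl | rfl⟩ := Z.A_cases hk
    · exact Or.inl hq2
    · refine Or.inr ?_
      rw [(Z.A_comm hqA Z.sA).mul_mul_mul_comm, hq2, mul_one]
  have hs : s * s = 1 := by
    rcases h.mem_Z_iff.1 T.s2 with e | e
    · exact e
    exfalso
    have e1 : y * s * y⁻¹ * (y * s * y⁻¹) = v := by
      rw [show y * s * y⁻¹ * (y * s * y⁻¹) = y * (s * s) * y⁻¹ by group, e, Z.turn.yu]
    rcases hval (hy s Z.sA) with e' | e' <;> rw [e1] at e'
    · exact Involution.ne_one F.v_ord e'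
    · exact F.v_ne (e'.trans e)
  rcases hval hg with e | e
  · exact e
  · exact e.trans hs

theorem S_normalizes : (S : Subgroup G) ≤ normalizer (Z.A : Set G) := by
  have hQ : ∀ q ∈ Q, q ∈ normalizer (Z.A : Set G) := fun q hq => by
    refine mem_normalizer_of_invar fun g hg => ?_
    obtain ⟨k, hkQ, hkA, -, rfl | rfl⟩ := Z.A_cases hg
    · rw [show q * g * q⁻¹ = ⁅q, g⁆ * g by simp [commutatorElement_def]]
      exact mul_mem (Z.Z_le_A (Z.plane hq hkQ)) hkA
    · rw [show q * (s * k) * q⁻¹ = ⁅q, s⁆ * s * (⁅q, k⁆ * k) by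
        simp only [commutatorElement_def]; group]
      exact mul_mem (mul_mem (Z.commS hq) Z.sA) (mul_mem (Z.Z_le_A (Z.plane hq hkQ)) hkA)
  intro g hg
  rcases T.index g hg with hq | hq
  · exact hQ g hq
  · have := mul_mem (le_normalizer Z.sA) (hQ _ hq)
    rwa [mul_inv_cancel_left] at this

theorem contra : False := by
  classical
  haveI : Fact (Nat.Prime 2) := ⟨Nat.prime_two⟩
  set N := normalizer (Z.A : Set G) with hN
  have hAN : Z.A ≤ N := le_normalizer
  haveI : (Z.A.subgroupOf N).Normal := normal_in_normalizer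
  let E := Z.A.subgroupOf N
  let α : N →* MulAut E := MulAut.conjNormal
  have hα : ∀ (g : N) (e : E), (((α g e : E) : N) : G) = (g : G) * ((e : N) : G) * (g : G)⁻¹ :=
    fun g e => by simp only [α, MulAut.conjNormal_apply]; rfl
  have hα1 : ∀ g : N, (∀ k ∈ Z.A, Commute (g : G) k) → α g = 1 := fun g hg =>
    MulEquiv.ext fun e => Subtype.ext (Subtype.ext (by
      rw [hα, (hg _ (mem_subgroupOf.1 e.2)).eq, mul_inv_cancel_right]
      rfl))
  have hαA : ∀ g : N, (g : G) ∈ Z.A → α g = 1 := fun g hg => hα1 g fun k hk => Z.A_comm hg hk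
  have hαZ : ∀ g : N, (g : G) ∈ zpowers u → α g = 1 := fun g hg => hαA g (Z.Z_le_A hg)
  have hSN := Z.S_normalizes
  have hQN : Q ≤ N := T.le_S.trans hSN
  let uE : E := ⟨⟨u, hQN T.u_mem⟩, mem_subgroupOf.2 (Z.Z_le_A (mem_zpowers u))⟩
  let π : N →* α.range := α.rangeRestrict
  have hπ : ∀ {g k : N}, α g = α k → π g = π k := fun e => Subtype.ext e
  let qN : ∀ q ∈ Q, N := fun q hq => ⟨q, hQN hq⟩
  let sN : N := ⟨s, hAN Z.sA⟩
  have hs1 : π sN = 1 := Subtype.ext (hαA sN Z.sA)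
  let P : Sylow 2 α.range := (S.subtype hSN).mapSurjective α.rangeRestrict_surjective
  have hPmem : ∀ p ∈ (P : Subgroup α.range), ∃ q, ∃ hq : q ∈ Q, p = π (qN q hq) := by
    intro p hp
    obtain ⟨g, hg, rfl⟩ := (hp : p ∈ (S.subtype hSN : Subgroup N).map α.rangeRestrict)
    rcases T.index _ (show (g : G) ∈ (S : Subgroup G) from hg) with hq | hq
    · exact ⟨g, hq, rfl⟩
    · refine ⟨_, hq, ?_⟩
      have hg' : g = sN * qN _ hq := Subtype.ext (by simp [sN, qN])
      calc α.rangeRestrict g = π (sN * qN _ hq) := congrArg π hg'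
        _ = π (qN _ hq) := by rw [map_mul, hs1, one_mul]
  have hQP : ∀ q (hq : q ∈ Q), π (qN q hq) ∈ (P : Subgroup α.range) := fun q hq =>
    (mem_map_of_mem α.rangeRestrict
      (show qN q hq ∈ (S.subtype hSN : Subgroup N) from T.le_S hq) :)
  have habel : ∀ q (hq : q ∈ Q) k (hk : k ∈ Q), Commute (π (qN q hq)) (π (qN k hk)) := by
    intro q hq k hk
    rw [← commutatorElement_eq_one_iff_commute, ← map_commutatorElement]
    exact Subtype.ext (hαZ _ (Z.plane hq hk))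
  have hπsq : ∀ q (hq : q ∈ Q), π (qN q hq) * π (qN q hq) = 1 := fun q hq => by
    rw [← map_mul]; exact Subtype.ext (hαZ _ (Z.turn.sq_Q Z.card hq))
  -- points fixed by `P`
  have hfixP : ∀ e : E, (∀ q (hq : q ∈ Q), α (qN q hq) e = e) → ((e : N) : G) ∈ zpowers u := by
    intro e he
    have hc : ∀ q ∈ Q, Commute q ((e : N) : G) := fun q hq => by
      have := congrArg (fun z : E => ((z : N) : G)) (he q hq)
      rw [hα] at this
      exact mul_inv_eq_iff_eq_mul.1 this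
    have heA := mem_subgroupOf.1 e.2
    have heR : ((e : N) : G) ∈ F.R := F.mem_R.2 ⟨(Z.mem_A.1 heA).1, (Z.mem_A.1 heA).2.1⟩
    have heQ : ((e : N) : G) ∈ Q := Z.turn.mem_Q_of heR (by
      rw [(commutatorElement_eq_one_iff_commute.2 (hc _ F.w_mem) :)]
      exact one_mem _)
    exact T.center_eq (by rw [Z.card]) _ ⟨heQ, Z.A_sq heA, hc⟩
  -- the stabilizer of `u`
  have hstab : ∀ k : α.range, (k : MulAut E) uE = uE → k ∈ (P : Subgroup α.range) := by
    rintro ⟨_, g, rfl⟩ hk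
    have hgu : (g : G) ∈ Cu u := mem_Cu.2 (mul_inv_eq_iff_eq_mul.1 (by
      have := congrArg (fun e : E => ((e : N) : G)) hk
      rw [hα] at this
      exact this))
    obtain ⟨d, hd, q, hq, i, hg⟩ := T.cover _ hgu
    obtain ⟨e', he', hge⟩ : ∃ e', (e' = 1 ∨ e' = s) ∧ (g : G) = d * q * x ^ i * e' :=
      hg.elim (fun e => ⟨1, Or.inl rfl, by rw [e, mul_one]⟩) fun e => ⟨s, Or.inr rfl, e⟩
    have he'A : e' ∈ Z.A := by rcases he' with rfl | rfl; exacts [one_mem _, Z.sA]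
    have hxi : x ^ i = 1 := by
      by_contra hne
      set m := x ^ i * v * (x ^ i)⁻¹ with hm
      have hmQ : m ∈ Q := T.Q_normal _ (pow_mem h.x_mem i) _ F.v_mem
      have hgv : (g : G) * v * (g : G)⁻¹ ∈ Z.A := (mem_normalizer_iff.1 g.2 v).1 Z.vA
      have he'v : e' * v * e'⁻¹ = v := by
        rw [(Z.A_comm he'A Z.vA).eq, mul_inv_cancel_right]
      rw [show (g : G) * v * (g : G)⁻¹ = d * (q * (x ^ i * (e' * v * e'⁻¹) * (x ^ i)⁻¹) * q⁻¹) * d⁻¹ by
          rw [hge]; group, he'v, ← hm,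
        (T.D_cent d hd _ (mul_mem (mul_mem hq hmQ) (inv_mem hq))).eq, mul_inv_cancel_right,
        show q * m * q⁻¹ = ⁅q, m⁆ * m by simp [commutatorElement_def]] at hgv
      have hmA : m ∈ Z.A := by
        have := mul_mem (inv_mem (Z.Z_le_A (Z.plane hq hmQ))) hgv
        rwa [inv_mul_cancel_left] at this
      have hma := commutatorElement_eq_one_iff_commute.2 (Z.mem_A.1 hmA).2.2.1
      have hx2 : x ^ i = x ∨ x ^ i = x * x := by
        rcases mem_zpowers_three h.ordx (pow_mem (mem_zpowers x) i) with e | e | e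
        · exact absurd e hne
        · exact Or.inl e
        · exact Or.inr (e.trans (inv_eq_of_mul_eq_one_right (by rw [← mul_assoc, ← pow_three', h.x3])))
      rcases hx2 with e | e <;> rw [hm, e] at hma
      · rw [Z.wa] at hma; exact h.u_ne hma
      · rw [show x * x * v * (x * x)⁻¹ = x * (x * v * x⁻¹) * x⁻¹ by group, F.planeXW Z.aQ, Z.wa,
          (commutatorElement_eq_one_iff_commute.2 Z.av.symm :), one_mul] at hma
        exact h.u_ne hma
    rw [hxi, mul_one] at hge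
    have hdN : d ∈ N := by
      rw [show d = (g : G) * e'⁻¹ * q⁻¹ by rw [hge]; group]
      exact mul_mem (mul_mem g.2 (inv_mem (hAN he'A))) (inv_mem (hQN hq))
    have hd1 : α ⟨d, hdN⟩ = 1 := by
      have hds : Commute d s := by
        refine (commutatorElement_eq_one_iff_commute.1 ?_)
        have hm : ⁅d, s⁆ ∈ Z.A := by
          rw [commutatorElement_def]
          exact mul_mem ((mem_normalizer_iff.1 hdN s).1 Z.sA) (inv_mem Z.sA)
        have hmD : ⁅d, s⁆ ∈ D := by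
          rw [show ⁅d, s⁆ = d * (s * d⁻¹ * s⁻¹) by simp only [commutatorElement_def]; group]
          exact mul_mem hd (T.D_normal s T.sC _ (inv_mem hd))
        refine orderOf_eq_one_iff.1 (Nat.eq_one_of_dvd_coprimes ?_
          (Subgroup.orderOf_dvd_natCard D hmD)
          (Subgroup.orderOf_dvd_natCard (S : Subgroup G) (Z.mem_A.1 hm).1))
        rw [Z.card_S, show (64 : ℕ) = 2 ^ 6 from rfl]
        exact (Nat.coprime_two_right.2 T.D_odd).pow_right 6
      refine hα1 _ fun k hk => ?_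
      obtain ⟨q', hq', -, -, rfl | rfl⟩ := Z.A_cases hk
      · exact T.D_cent d hd _ hq'
      · exact hds.mul_right (T.D_cent d hd _ hq')
    have : g = ⟨d, hdN⟩ * qN q hq * ⟨e', hAN he'A⟩ := Subtype.ext hge
    show π g ∈ _
    rw [this, map_mul, map_mul, show π ⟨d, hdN⟩ = 1 from Subtype.ext hd1,
      show π ⟨e', hAN he'A⟩ = 1 from Subtype.ext (hαA _ he'A), one_mul, mul_one]
    exact hQP q hq
  have hP : normalizer ((P : Subgroup α.range) : Set α.range) ≤
      centralizer ((P : Subgroup α.range) : Set α.range) := by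
    intro k hk
    have hku : ((k : MulAut E) uE) = uE := by
      have hz := hfixP ((k : MulAut E) uE) fun q hq => by
        obtain ⟨q', hq', e⟩ := hPmem _ ((mem_normalizer_iff''.1 hk _).1 (hQP q hq))
        have h1 : π (qN q hq) * k = k * π (qN q' hq') := by rw [← e]; group
        have h2 : α (qN q' hq') uE = uE := Subtype.ext (Subtype.ext (by
          rw [hα]
          show q' * u * q'⁻¹ = u
          rw [(mem_Cu.1 (T.Q_le hq')).eq, mul_inv_cancel_right]))
        show ((π (qN q hq) : α.range) : MulAut E) ((k : MulAut E) uE) = (k : MulAut E) uE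
        rw [← MulAut.mul_apply, ← Subgroup.coe_mul, h1, Subgroup.coe_mul, MulAut.mul_apply]
        exact congrArg _ h2
      rcases h.mem_Z_iff.1 hz with e | e
      · exfalso
        have : (k : MulAut E) uE = 1 := Subtype.ext (Subtype.ext e)
        rw [map_eq_one_iff _ (k : MulAut E).injective] at this
        exact h.u_ne (congrArg (fun e : E => ((e : N) : G)) this)
      · exact Subtype.ext (Subtype.ext e)
    obtain ⟨q, hq, rfl⟩ := hPmem k (hstab k hku)
    refine mem_centralizer_iff.2 fun p hp => ?_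
    obtain ⟨q', hq', rfl⟩ := hPmem p hp
    exact (habel q' hq' q hq).eq
  set K := (MonoidHom.transferSylow P hP).ker
  have hK2 : ¬ 2 ∣ Nat.card K := MonoidHom.not_dvd_card_ker_transferSylow P hP
  have hKodd : Odd (Nat.card K) := Nat.odd_iff.2 (by omega)
  have hKn : K.Normal := inferInstance
  have hKP : ∀ k ∈ K, (k : MulAut E) uE = uE → k = 1 := by
    intro k hk hku
    obtain ⟨n, hn⟩ := IsPGroup.iff_card.1 P.isPGroup'
    refine orderOf_eq_one_iff.1 (Nat.eq_one_of_dvd_coprimes ?_ (Subgroup.orderOf_dvd_natCard K hk)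
      (Subgroup.orderOf_dvd_natCard (P : Subgroup α.range) (hstab k hku)))
    rw [hn]; exact (Nat.coprime_two_right.2 hKodd).pow_right n
  have hK27 : Nat.card K < 27 := by
    have h1 : Nat.card K ≤ Nat.card Z.A := by
      rw [← Nat.card_congr (subgroupOfEquivOfLe hAN).toEquiv]
      refine Nat.card_le_card_of_injective (fun k : K => ((k : α.range) : MulAut E) uE) fun k l e => ?_
      have : (((l : α.range)⁻¹ * (k : α.range) : α.range) : MulAut E) uE = uE := by
        rw [Subgroup.coe_mul, MulAut.mul_apply, show ((k : α.range) : MulAut E) uE = _ from e,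
          InvMemClass.coe_inv, MulAut.inv_apply_self]
      exact Subtype.ext (inv_mul_eq_one.1 (hKP _ (mul_mem (inv_mem l.2) k.2) this)).symm
    have := Z.card_A
    omega
  -- an element of `K` for each involution
  have getk : ∀ p, p ∈ Q → p ∈ Z.A → p ∉ zpowers u → ∀ (hp1 : x * p * x⁻¹ ∈ Q),
      ∃ k ∈ K, k ≠ 1 ∧ Commute k (π (qN _ hp1)) := by
    intro p hpQ hpA hpZ hp1
    have hps : ⁅s, p⁆ ∈ zpowers u := by
      rw [(commutatorElement_eq_one_iff_commute.2 (Z.mem_A.1 hpA).2.2.2.symm :)]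
      exact one_mem _
    obtain ⟨p', hp', hp'2, hz, hnorm, hsp'⟩ :=
      T.normalise hpQ (Z.qA_mem hpQ (Z.mem_A.1 hpA).2.1 (Z.mem_A.1 hpA).2.2.1).2 hps
    have hp'A : p' ∈ Z.A := by
      have := mul_mem hpA (Z.Z_le_A hz); rwa [mul_inv_cancel_left] at this
    have hp'Z : p' ∉ zpowers u := fun e => hpZ (by
      have := mul_mem e (inv_mem hz)
      rwa [show p' * (p⁻¹ * p')⁻¹ = p by group] at this)
    have hp'pl : ∀ g ∈ (S : Subgroup G), ⁅p', g⁆ ∈ zpowers u := by
      intro g hg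
      rcases T.index g hg with hq | hq
      · exact Z.plane hp' hq
      · rw [show g = s * (s⁻¹ * g) by group, comm_mul_right,
          (commutatorElement_eq_one_iff_commute.2 (mul_inv_eq_iff_eq_mul.1 hsp').symm :), one_mul,
          (h.Z_comm T.sC (Z.plane hp' hq)).eq, mul_inv_cancel_right]
        exact Z.plane hp' hq
    have F' : Frame h Q S p' := ⟨T.le_S, T.S_le, T.inv, T.u_mem,
      Involution.orderOf_of_sq hp'2 fun e => hp'Z (e ▸ one_mem _), hp', fun e => hp'Z (e ▸ mem_zpowers u),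
      fun g hg => Z.plane hp' hg, hp'pl, F.centerQ, F.centerS⟩
    obtain ⟨y', y3, yu, yv, yuv, yR⟩ := F'.exists_cycle
    have Y' : Turn T F' y' := ⟨hsp', hnorm, y3, yu, yv, yuv, yR⟩
    have hinv := Z.invar Y' hp'A
    have hy'N : y' ∈ N := mem_normalizer_of_invar hinv
    set k := π ⟨y', hy'N⟩
    refine ⟨k, ?_, fun e => F'.v_ne ?_, ?_⟩
    · have hk3 : k ^ 3 = 1 := by
        rw [← map_pow, show (⟨y', hy'N⟩ : N) ^ 3 = 1 from Subtype.ext (by simpa using y3), map_one]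
      rw [MonoidHom.mem_ker, ← orderOf_eq_one_iff]
      obtain ⟨n, hn⟩ := IsPGroup.iff_card.1 P.isPGroup'
      have h2 := orderOf_dvd_natCard (MonoidHom.transferSylow P hP k)
      rw [hn] at h2
      exact Nat.eq_one_of_dvd_coprimes ((Nat.Coprime.pow_left n (by norm_num : Nat.Coprime 2 3)))
        h2 ((orderOf_map_dvd _ _).trans (orderOf_dvd_of_pow_eq_one hk3))
    · have := congrArg (fun m : α.range => ((((m : MulAut E) uE : E) : N) : G)) e
      simp only [k, π, MonoidHom.coe_rangeRestrict, hα, OneMemClass.coe_one, MulAut.one_apply] at this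
      exact (yu.symm.trans this)
    · -- `y'` fixes the image of `x p x⁻¹`
      obtain ⟨hout, hsplit⟩ := Z.outside hp' hp'A hp'Z
      set p1 := x * p' * x⁻¹ with hp1'
      have hp1Q : p1 ∈ Q := F.inv _ hp'
      have hp1R : p1 ∈ F'.R := Y'.w_R
      have hm := Y'.yR _ hp1R
      have hmA : y' * p1 * y'⁻¹ ∉ Z.A := fun e => hout (by
        have := invar_le_conj hinv e
        rwa [show y'⁻¹ * (y' * p1 * y'⁻¹) * y' = p1 by group] at this)
      have hd := (hsplit _ (F'.mem_R.1 hm).1 (F'.mem_R.1 hm).2).resolve_left hmA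
      have hxz : x * (p⁻¹ * p') * x⁻¹ ∈ Z.A := Z.Z_le_A (by rw [h.Z_x hz]; exact hz)
      have e1 : π (qN p1 hp1Q) = π (qN _ hp1) := by
        refine hπ ?_
        rw [show qN p1 hp1Q = qN _ hp1 * ⟨x * (p⁻¹ * p') * x⁻¹, hAN hxz⟩ from
          Subtype.ext (by simp only [qN, p1, Subgroup.coe_mul]; group), map_mul,
          hαA ⟨x * (p⁻¹ * p') * x⁻¹, hAN hxz⟩ hxz, mul_one]
      rw [← e1]
      show k * _ = _ * k
      rw [← map_mul, ← map_mul, show (⟨y', hy'N⟩ : N) * qN p1 hp1Q =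
        qN p1 hp1Q * ⟨p1⁻¹ * (y' * p1 * y'⁻¹), hAN hd⟩ * ⟨y', hy'N⟩ from
          Subtype.ext (by simp only [qN, Subgroup.coe_mul]; group), map_mul, map_mul,
        show π ⟨p1⁻¹ * (y' * p1 * y'⁻¹), hAN hd⟩ = 1 from Subtype.ext (hαA _ hd), mul_one, ← map_mul]
  set w := x * v * x⁻¹ with hw
  set a1 := x * a * x⁻¹ with ha1
  have hwQ : w ∈ Q := F.w_mem
  have ha1Q : a1 ∈ Q := F.inv _ Z.aQ
  set i := π (qN w hwQ) with hi'
  set j := π (qN a1 ha1Q) with hj'
  have haZ : a ∉ zpowers u := fun e => h.u_ne (by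
    rw [← Z.wa]; exact commutatorElement_eq_one_iff_commute.2 (h.Z_comm (T.Q_le hwQ) e))
  have hvaZ : v * a ∉ zpowers u := fun e => h.u_ne (by
    rw [← Z.wa, show a = v⁻¹ * (v * a) by group, F.comm_mul (inv_mem F.v_mem)
      (Z.plane hwQ (T.Z_le e)),
      (commutatorElement_eq_one_iff_commute.2 (h.Z_comm (T.Q_le hwQ) e) :), mul_one]
    exact commutatorElement_eq_one_iff_commute.2 F.vw_comm.symm.inv_right)
  have hva1 : ⁅v, a1⁆ = u := by
    have e' : ⁅x * w * x⁻¹, a1⁆ = u := by rw [ha1, ← conj_comm, Z.wa, h.x_conj_u]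
    have e2 : ⁅w, a1⁆ = 1 := by
      rw [hw, ha1, ← conj_comm, (commutatorElement_eq_one_iff_commute.2 Z.av.symm :), mul_one,
        mul_inv_cancel]
    rw [hw, F.planeXW ha1Q, ← hw, e2, mul_one] at e'
    exact e'
  have haa1 : ⁅a, a1⁆ = 1 :=
    commutatorElement_eq_one_iff_commute.2 (h.commute_conj F.le_C F.three F.inv Z.aQ Z.a2)
  have hvw : ⁅v, w⁆ = 1 := commutatorElement_eq_one_iff_commute.2 F.vw_comm
  have haw : ⁅a, w⁆ = u := by rw [← commutatorElement_inv, Z.wa, h.u_inv]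
  refine no_three_fixed (K := K) hKn hKodd hK27 (i := i) (j := j) (hπsq w hwQ) (hπsq a1 ha1Q)
    (habel w hwQ a1 ha1Q) ?_ (getk v F.v_mem Z.vA F.v_not_Z hwQ) (getk a Z.aQ Z.aA haZ ha1Q) ?_
  · intro k hk hki hkj
    refine hKP k hk ?_
    have hqfix : ∀ q (hq : q ∈ Q), Commute k (π (qN q hq)) := by
      intro q hq
      have hcl : ∃ r ∈ ({1, w, a1, w * a1} : Set G), r ∈ Q ∧ ⁅v, r⁆ = ⁅v, q⁆ ∧ ⁅a, r⁆ = ⁅a, q⁆ := by
        rcases h.mem_Z_iff.1 (F.plane q hq) with e1 | e1 <;>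
          rcases h.mem_Z_iff.1 (Z.plane Z.aQ hq) with e2 | e2
        · exact ⟨1, by simp, one_mem _, by simp [e1], by simp [e2]⟩
        · exact ⟨w, by simp, hwQ, hvw.trans e1.symm, haw.trans e2.symm⟩
        · exact ⟨a1, by simp, ha1Q, hva1.trans e1.symm, haa1.trans e2.symm⟩
        · exact ⟨w * a1, by simp, mul_mem hwQ ha1Q,
            by rw [F.comm_mul hwQ (F.plane _ ha1Q), hvw, hva1, one_mul, e1],
            by rw [F.comm_mul hwQ (Z.plane Z.aQ ha1Q), haw, haa1, mul_one, e2]⟩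
      obtain ⟨r, hr, hrQ, c1, c2⟩ := hcl
      have hm := mul_mem (inv_mem hrQ) hq
      have hA : r⁻¹ * q ∈ Z.A := (Z.qA_mem hm (commutatorElement_eq_one_iff_commute.1 (by
          have := F.comm_mul (a := v) hrQ (F.plane _ hm)
          rw [mul_inv_cancel_left, c1] at this
          exact mul_eq_left.1 this.symm)).symm (commutatorElement_eq_one_iff_commute.1 (by
          have := F.comm_mul (a := a) hrQ (Z.plane Z.aQ hm)
          rw [mul_inv_cancel_left, c2] at this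
          exact mul_eq_left.1 this.symm)).symm).1
      rw [show qN q hq = qN r hrQ * qN _ hm from Subtype.ext (by simp [qN]), map_mul,
        show π (qN _ hm) = 1 from Subtype.ext (hαA _ hA), mul_one]
      rcases hr with rfl | rfl | rfl | rfl
      · rw [show qN 1 hrQ = 1 from rfl, map_one]; exact Commute.one_right k
      · exact hki
      · exact hkj
      · rw [show qN _ hrQ = qN w hwQ * qN a1 ha1Q from rfl, map_mul]
        exact hki.mul_right hkj
    have hz := hfixP ((k : MulAut E) uE) fun q hq => by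
      have h2 : α (qN q hq) uE = uE := Subtype.ext (Subtype.ext (by
        rw [hα]
        show q * u * q⁻¹ = u
        rw [(mem_Cu.1 (T.Q_le hq)).eq, mul_inv_cancel_right]))
      show ((π (qN q hq) : α.range) : MulAut E) ((k : MulAut E) uE) = (k : MulAut E) uE
      rw [← MulAut.mul_apply, ← Subgroup.coe_mul, (hqfix q hq).symm.eq, Subgroup.coe_mul,
        MulAut.mul_apply]
      exact congrArg _ h2
    rcases h.mem_Z_iff.1 hz with e | e
    · exfalso
      have : (k : MulAut E) uE = 1 := Subtype.ext (Subtype.ext e)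
      rw [map_eq_one_iff _ (k : MulAut E).injective] at this
      exact h.u_ne (congrArg (fun e : E => ((e : N) : G)) this)
    · exact Subtype.ext (Subtype.ext e)
  · obtain ⟨k, hk, hk1, hkc⟩ := getk (v * a) (mul_mem F.v_mem Z.aQ) (mul_mem Z.vA Z.aA) hvaZ
      (F.inv _ (mul_mem F.v_mem Z.aQ))
    refine ⟨k, hk, hk1, ?_⟩
    rw [hi', hj', ← map_mul, show qN w hwQ * qN a1 ha1Q = qN _ (F.inv _ (mul_mem F.v_mem Z.aQ)) from
      Subtype.ext (by simp only [qN, w, a1, Subgroup.coe_mul]; group)]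
    exact hkc

end Quad

namespace Top

variable {h : Hyp u x} {Q D : Subgroup G} {S : Sylow 2 G} {s : G} (T : Top h Q D S s)
include T

theorem card_lt : Nat.card Q < 32 := by
  by_contra hlt
  obtain ⟨v, F, y, Y⟩ := T.exists_turn (by omega)
  have hQ := T.card_eq (by omega)
  obtain ⟨a, ha, ha2, hwa, hav, hsa⟩ := Y.exists_fourth hQ
  exact Quad.contra (F := F) (y := y) (a := a) ⟨Y, hQ, ha, ha2, hwa, hav, hsa⟩

end Top

end Cfsg.Agent.SelfCentSix
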