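import Cfsg.Agent.Lib.SelfCentSix.Tools
import Mathlib.GroupTheory.GroupAction.ConjAct

/-!
# Plane involutions

`exists_plane` : an `x`-invariant 2-subgroup `Q ∋ u` of `C_G(u)` with an involution other than `u` has
an involution `v ≠ u` central modulo `⟨u⟩`; so does one of order greater than 8 (`exists_plane'`).
`exists_bottom` : a normal subgroup of `Q` not in `⟨u⟩` has such an element, of square in `⟨u⟩`.
-/

set_option autoImplicit false
set_option linter.unusedSectionVars false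
set_option linter.style.haveILetI false

namespace Cfsg.Agent.SelfCentSix

open Subgroup SelfCentThree
open scoped commutatorElement

theorem exists_central_mem {K : Type*} [Group K] [Finite K] (hK : IsPGroup 2 K) {N : Subgroup K}
    [N.Normal] (hN : N ≠ ⊥) : ∃ z ∈ N, z ≠ 1 ∧ z ∈ center K := by
  haveI : Fact (Nat.Prime 2) := ⟨Nat.prime_two⟩
  have hdvd : 2 ∣ Nat.card N := by
    obtain ⟨k, hk⟩ := IsPGroup.iff_card.1 (hK.to_subgroup N)
    rcases k with _ | k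
    · exact absurd (card_eq_one.1 (by rw [hk, pow_zero])) hN
    · rw [hk]; exact dvd_pow_self 2 k.succ_ne_zero
  have hP : IsPGroup 2 (ConjAct K) := hK
  obtain ⟨b, hb, hb1⟩ := hP.exists_fixed_point_of_prime_dvd_card_of_fixed_point N hdvd
    (a := (1 : N)) (fun g => smul_one g)
  refine ⟨b, b.2, fun e => hb1 (Subtype.ext e.symm), mem_center_iff.2 fun g => ?_⟩
  have := congrArg Subtype.val (hb (ConjAct.toConjAct g))
  rw [ConjAct.Subgroup.val_conj_smul, ConjAct.toConjAct_smul] at this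
  exact mul_inv_eq_iff_eq_mul.1 this

variable {G : Type*} [Group G] [Finite G] {u x : G}

theorem exists_bottom (h : Hyp u x) {Q N : Subgroup G} (hQ : IsPGroup 2 Q) (hQC : Q ≤ Cu u)
    (hu : u ∈ Q) (hN : N ≤ Q) (hNn : ∀ g ∈ Q, ∀ n ∈ N, g * n * g⁻¹ ∈ N) (huN : u ∈ N)
    (hne : ∃ n ∈ N, n ∉ zpowers u) :
    ∃ b ∈ N, b ∉ zpowers u ∧ b * b ∈ zpowers u ∧ ∀ g ∈ Q, ⁅b, g⁆ ∈ zpowers u := by
  haveI : Fact (Nat.Prime 2) := ⟨Nat.prime_two⟩
  have hZQ : zpowers u ≤ Q := zpowers_le.2 hu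
  haveI : ((zpowers u).subgroupOf Q).Normal := ⟨fun a ha g => by
    rw [mem_subgroupOf] at ha ⊢
    rw [Subgroup.coe_mul, Subgroup.coe_mul, InvMemClass.coe_inv, (h.Z_comm (hQC g.2) ha).eq,
      mul_inv_cancel_right]
    exact ha⟩
  haveI : (N.subgroupOf Q).Normal := ⟨fun a ha g => hNn g g.2 a ha⟩
  set f := QuotientGroup.mk' ((zpowers u).subgroupOf Q)
  haveI : ((N.subgroupOf Q).map f).Normal :=
    Normal.map inferInstance f (QuotientGroup.mk'_surjective _)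
  have hK : IsPGroup 2 (Q ⧸ (zpowers u).subgroupOf Q) := hQ.to_quotient _
  obtain ⟨z, hzN, hz1, hzc⟩ := exists_central_mem hK (N := (N.subgroupOf Q).map f) (fun e => by
    obtain ⟨n, hn, hnz⟩ := hne
    refine hnz ?_
    have hm : f ⟨n, hN hn⟩ ∈ (N.subgroupOf Q).map f := mem_map_of_mem _ hn
    rw [e, mem_bot] at hm
    exact mem_subgroupOf.1 ((QuotientGroup.eq_one_iff _).1 hm))
  obtain ⟨j, hj⟩ := exists_orderOf_eq_prime_pow_iff.2 (hK z)
  have hj0 : j ≠ 0 := fun e => hz1 (orderOf_eq_one_iff.1 (by rw [hj, e, pow_zero]))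
  obtain ⟨j, rfl⟩ := Nat.exists_eq_succ_of_ne_zero hj0
  have hb1 : z ^ 2 ^ j ≠ 1 := pow_ne_one_of_lt_orderOf (pow_ne_zero _ two_ne_zero)
    (by rw [hj]; exact Nat.pow_lt_pow_right one_lt_two j.lt_succ_self)
  have hb2 : z ^ 2 ^ j * z ^ 2 ^ j = 1 := by
    rw [← pow_add, ← two_mul, ← pow_succ', ← hj, pow_orderOf_eq_one]
  obtain ⟨b, hb, hbe⟩ := pow_mem hzN (2 ^ j)
  have hbc : f b ∈ center (Q ⧸ (zpowers u).subgroupOf Q) := hbe ▸ pow_mem hzc _
  refine ⟨b, hb, fun e => hb1 ?_, ?_, fun g hg => ?_⟩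
  · rw [← hbe]
    exact (QuotientGroup.eq_one_iff b).2 (mem_subgroupOf.2 e)
  · rw [← hbe, ← map_mul] at hb2
    exact mem_subgroupOf.1 ((QuotientGroup.eq_one_iff _).1 hb2)
  · have hc : ⁅f b, f ⟨g, hg⟩⁆ = 1 :=
      commutatorElement_eq_one_iff_commute.2 (mem_center_iff.1 hbc (f ⟨g, hg⟩)).symm
    rw [← map_commutatorElement] at hc
    exact mem_subgroupOf.1 ((QuotientGroup.eq_one_iff _).1 hc)

theorem exists_plane' (h : Hyp u x) {Q : Subgroup G} (hQ : IsPGroup 2 Q) (hQC : Q ≤ Cu u)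
    (hinv : Invar x Q) (hu : u ∈ Q)
    (hi : (∃ i ∈ Q, orderOf i = 2 ∧ i ≠ u) ∨ 8 < Nat.card Q) :
    ∃ v ∈ Q, orderOf v = 2 ∧ v ≠ u ∧ ∀ g ∈ Q, ⁅v, g⁆ ∈ zpowers u := by
  classical
  by_contra hne
  push Not at hne
  obtain ⟨i, hiQ, hiZ⟩ : ∃ i ∈ Q, i ∉ zpowers u := by
    rcases hi with ⟨i, hiQ, hi2, hiu⟩ | h8
    · exact ⟨i, hiQ, fun e => (h.mem_Z_iff.1 e).elim (Involution.ne_one hi2) hiu⟩
    · by_contra hall
      push Not at hall
      have := card_le_of_le (H := Q) (K := zpowers u) hall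
      rw [Nat.card_zpowers, h.ordu] at this
      omega
  obtain ⟨a, haQ, haZ, ha2, hap⟩ := exists_bottom h hQ hQC hu le_rfl
    (fun g hg n hn => mul_mem (mul_mem hg hn) (inv_mem hg)) hu ⟨i, hiQ, hiZ⟩
  -- such elements have square `u`
  let Z0 : G → Prop := fun b => b ∈ Q ∧ b ∉ zpowers u ∧ b * b ∈ zpowers u ∧
    ∀ g ∈ Q, ⁅b, g⁆ ∈ zpowers u
  have sq : ∀ {b}, Z0 b → b * b = u := by
    rintro b ⟨bQ, bZ, b2, bp⟩
    rcases h.mem_Z_iff.1 b2 with e | e
    · exfalso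
      obtain ⟨g, hg, hg'⟩ := hne b bQ (Involution.orderOf_of_sq e fun e' => bZ (e' ▸ one_mem _))
        (fun e' => bZ (e' ▸ mem_zpowers u))
      exact hg' (bp g hg)
    · exact e
  have ha : Z0 a := ⟨haQ, haZ, ha2, hap⟩
  have cm : ∀ {b c g : G}, Z0 b → c ∈ Q → g ∈ Q → ⁅b, c * g⁆ = ⁅b, c⁆ * ⁅b, g⁆ := by
    intro b c g hb hc hg
    have e : ⁅b, c * g⁆ = ⁅b, c⁆ * (c * ⁅b, g⁆ * c⁻¹) := by simp only [commutatorElement_def]; group
    rw [e, (h.Z_comm (hQC hc) (hb.2.2.2 g hg)).eq, mul_inv_cancel_right]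
  have ha1Q : x * a * x⁻¹ ∈ Q := hinv a haQ
  have haxZ : x * a * x⁻¹ ∉ zpowers u := fun e => haZ (by
    rw [show a = x⁻¹ * (x * a * x⁻¹) * x by group, mul_assoc, ← (h.Z_comm h.x_mem e).eq,
      inv_mul_cancel_left]
    exact e)
  have ha1 : Z0 (x * a * x⁻¹) := ⟨ha1Q, haxZ, by
      rw [show x * a * x⁻¹ * (x * a * x⁻¹) = x * (a * a) * x⁻¹ by group, h.Z_x ha2]; exact ha2,
    fun g hg => by
      have := hap _ (invar_le_conj hinv hg)
      have e : ⁅x * a * x⁻¹, g⁆ = x * ⁅a, x⁻¹ * g * x⁆ * x⁻¹ := by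
        simp only [commutatorElement_def]; group
      rw [e, h.Z_x this]; exact this⟩
  set a1 := x * a * x⁻¹ with ha1def
  have h3 := not_three_dvd_of_two hQ
  have hcomm : ⁅a, a1⁆ = u := by
    have hm := h.cube hQC h3 hinv haQ
    rw [← ha1def] at hm
    set a2 := x * a1 * x⁻¹ with ha2def
    have hc := hap a1 ha1Q
    have e2 : a2 * a2 = u := by
      rw [ha2def, show x * a1 * x⁻¹ * (x * a1 * x⁻¹) = x * (a1 * a1) * x⁻¹ by group, sq ha1,
        h.x_conj_u]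
    have e4 : (a * a1) * (a * a1) = u := by
      set z := a * a1 * a2 with hz
      have hzc : Commute a2⁻¹ z := h.Z_comm (inv_mem (hQC (hinv a1 ha1Q))) hm
      have ea : a * a1 = z * a2⁻¹ := by rw [hz]; group
      rw [ea, hzc.mul_mul_mul_comm, ← mul_inv_rev, e2, h.u_inv,
        show z * z = 1 by rcases h.mem_Z_iff.1 hm with e | e <;> rw [e] <;> simp [h.u2], one_mul]
    have e5 : (a * a1) * (a * a1) = ⁅a, a1⁆⁻¹ * (a * a) * (a1 * a1) := by
      have e : a1 * a = ⁅a, a1⁆⁻¹ * (a * a1) := by simp only [commutatorElement_def]; group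
      calc (a * a1) * (a * a1) = a * (a1 * a) * a1 := by group
        _ = (a * ⁅a, a1⁆⁻¹) * (a * a1) * a1 := by rw [e]; group
        _ = (⁅a, a1⁆⁻¹ * a) * (a * a1) * a1 := by rw [(h.Z_comm (hQC haQ) (inv_mem hc)).eq]
        _ = _ := by group
    rw [e4, sq ha, sq ha1, mul_assoc, h.u2, mul_one] at e5
    rw [← inv_inv ⁅a, a1⁆, ← e5, h.u_inv]
  have hcomm' : ⁅a1, a⁆ = u := by rw [← commutatorElement_inv, hcomm, h.u_inv]
  have hu1 : ∀ b, Z0 b → b ≠ u := fun b hb e => hb.2.1 (e ▸ mem_zpowers u)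
  -- adjusting to the centralizer of `a` and `a1`
  have adj : ∀ g ∈ Q, ∃ k ∈ ({1, a, a1, a * a1} : Set G),
      Commute (g * k) a ∧ Commute (g * k) a1 := by
    intro g hg
    have z0 : ⁅a, a⁆ = 1 := commutatorElement_self a
    have z1 : ⁅a1, a1⁆ = 1 := commutatorElement_self a1
    have key : ∀ k ∈ Q, ⁅a, g⁆ * ⁅a, k⁆ = 1 → ⁅a1, g⁆ * ⁅a1, k⁆ = 1 →
        Commute (g * k) a ∧ Commute (g * k) a1 := fun k hk e1 e2 => by
      rw [← cm ha hg hk, commutatorElement_eq_one_iff_commute] at e1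
      rw [← cm ha1 hg hk, commutatorElement_eq_one_iff_commute] at e2
      exact ⟨e1.symm, e2.symm⟩
    rcases h.mem_Z_iff.1 (hap g hg) with p | p <;> rcases h.mem_Z_iff.1 (ha1.2.2.2 g hg) with q | q
    · exact ⟨1, by simp, key 1 (one_mem _) (by simp [p]) (by simp [q])⟩
    · exact ⟨a, by simp, key a haQ (by simp [p, z0]) (by simp [q, hcomm', h.u2])⟩
    · exact ⟨a1, by simp, key a1 ha1Q (by simp [p, hcomm, h.u2]) (by simp [q, z1])⟩
    · exact ⟨a * a1, by simp, key _ (mul_mem haQ ha1Q)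
        (by rw [cm ha haQ ha1Q, z0, hcomm, p, one_mul, h.u2])
        (by rw [cm ha1 haQ ha1Q, z1, hcomm', q, mul_one, h.u2])⟩
  let N : Subgroup G := Q ⊓ Cu a ⊓ Cu a1
  have hNmem : ∀ g, g ∈ N ↔ g ∈ Q ∧ Commute g a ∧ Commute g a1 := fun g => by
    simp only [N, mem_inf, mem_Cu, and_assoc]
  have noN : ∀ b ∈ N, b ∈ zpowers u := by
    by_contra hN
    push Not at hN
    have hnorm : ∀ g ∈ Q, ∀ n ∈ N, g * n * g⁻¹ ∈ N := by
      intro g hg n hn
      obtain ⟨nQ, n1, n2⟩ := (hNmem n).1 hn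
      have key : ∀ c, Z0 c → Commute n c → Commute (g * n * g⁻¹) c := fun c hc hnc => by
        refine (commutatorElement_eq_one_iff_commute.1 ?_).symm
        rw [cm hc (mul_mem hg nQ) (inv_mem hg), cm hc hg nQ,
          (commutatorElement_eq_one_iff_commute.2 hnc.symm :), mul_one, ← cm hc hg (inv_mem hg),
          mul_inv_cancel, commutatorElement_one_right]
      exact (hNmem _).2 ⟨mul_mem (mul_mem hg nQ) (inv_mem hg), key a ha n1, key a1 ha1 n2⟩
    obtain ⟨b, hbN, hbZ, hb2, hbp⟩ := exists_bottom h hQ hQC hu (fun g hg => ((hNmem g).1 hg).1)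
      hnorm ((hNmem u).2 ⟨hu, (mem_Cu.1 (hQC haQ)).symm, (mem_Cu.1 (hQC ha1Q)).symm⟩) hN
    obtain ⟨bQ, b1, b2⟩ := (hNmem b).1 hbN
    have hb : Z0 b := ⟨bQ, hbZ, hb2, hbp⟩
    have e : (b * a) * (b * a) = 1 := by rw [b1.symm.mul_mul_mul_comm, sq hb, sq ha, h.u2]
    by_cases hba : b * a = 1
    · have : Commute a a1 := by
        rw [eq_inv_of_mul_eq_one_left hba] at b2
        exact Commute.inv_left_iff.1 b2
      rw [(commutatorElement_eq_one_iff_commute.2 this :)] at hcomm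
      exact h.u_ne hcomm.symm
    · obtain ⟨g, hg, hg'⟩ := hne (b * a) (mul_mem bQ haQ) (Involution.orderOf_of_sq e hba) (fun e' => by
        have hb' : b = u * a⁻¹ := by rw [← e']; group
        have hau : Commute a1 u := mem_Cu.1 (hQC ha1Q)
        have : Commute a a1 := by
          have h1 : Commute (u * a⁻¹) a1 := hb' ▸ b2
          have h2 := (hau.symm.inv_left.mul_left h1)
          rw [inv_mul_cancel_left] at h2
          exact Commute.inv_left_iff.1 h2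
        rw [(commutatorElement_eq_one_iff_commute.2 this :)] at hcomm
        exact h.u_ne hcomm.symm)
      refine hg' ?_
      have e2 : ⁅b * a, g⁆ = b * ⁅a, g⁆ * b⁻¹ * ⁅b, g⁆ := by simp only [commutatorElement_def]; group
      rw [e2, (h.Z_comm (hQC bQ) (hap g hg)).eq, mul_inv_cancel_right]
      exact mul_mem (hap g hg) (hbp g hg)
  rcases hi with ⟨i, hiQ, hi2, hiu⟩ | h8
  swap
  · -- `Q` is covered by four cosets of `⟨u⟩`
    let K4 : Finset G := {1, a, a1, a * a1}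
    let Z2 : Finset G := {1, u}
    let F8 : Finset G := (Z2 ×ˢ K4).image fun p => p.1 * p.2⁻¹
    have hsub : ∀ g ∈ Q, g ∈ F8 := fun g hg => by
      obtain ⟨k, hk, hk1, hk2⟩ := adj g hg
      have hkQ : k ∈ Q := by
        rcases hk with rfl | rfl | rfl | rfl
        exacts [one_mem _, haQ, ha1Q, mul_mem haQ ha1Q]
      have hgk := noN (g * k) ((hNmem _).2 ⟨mul_mem hg hkQ, hk1, hk2⟩)
      refine Finset.mem_image.2 ⟨(g * k, k), Finset.mem_product.2 ⟨?_, ?_⟩, by group⟩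
      · simpa [Z2] using h.mem_Z_iff.1 hgk
      · simpa [K4] using hk
    have h1 : Nat.card Q ≤ F8.card := by
      rw [← Fintype.card_coe, ← Nat.card_eq_fintype_card]
      exact Nat.card_le_card_of_injective (fun g : Q => (⟨g, hsub g g.2⟩ : F8))
        fun a b e => Subtype.ext (congrArg (fun p : F8 => (p : G)) e)
    have h2 : F8.card ≤ Z2.card * K4.card := Finset.card_image_le.trans_eq (Finset.card_product _ _)
    have h3 : Z2.card ≤ 2 := Finset.card_le_two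
    have h4 : K4.card ≤ 4 := Finset.card_le_four
    have := Nat.mul_le_mul h3 h4
    omega
  obtain ⟨k, hk, hk1, hk2⟩ := adj i hiQ
  have hkQ : k ∈ Q := by
    rcases hk with rfl | rfl | rfl | rfl
    exacts [one_mem _, haQ, ha1Q, mul_mem haQ ha1Q]
  have hik := noN (i * k) ((hNmem _).2 ⟨mul_mem hiQ hkQ, hk1, hk2⟩)
  -- `i` is central modulo `⟨u⟩`
  obtain ⟨g, hg, hg'⟩ := hne i hiQ hi2 hiu
  refine hg' ?_
  have hkp : ⁅k⁻¹, g⁆ ∈ zpowers u := by
    have hk' : ⁅k, g⁆ ∈ zpowers u := by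
      rcases hk with rfl | rfl | rfl | rfl
      · simp
      · exact hap g hg
      · exact ha1.2.2.2 g hg
      · have e : ⁅a * a1, g⁆ = a * ⁅a1, g⁆ * a⁻¹ * ⁅a, g⁆ := by simp only [commutatorElement_def]; group
        rw [e, (h.Z_comm (hQC haQ) (ha1.2.2.2 g hg)).eq, mul_inv_cancel_right]
        exact mul_mem (ha1.2.2.2 g hg) (hap g hg)
    have e : ⁅k⁻¹, g⁆ = k⁻¹ * ⁅k, g⁆⁻¹ * k := by simp only [commutatorElement_def]; group
    rw [e, mul_assoc, ← (h.Z_comm (hQC hkQ) (inv_mem hk')).eq, inv_mul_cancel_left]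
    exact inv_mem hk'
  have e : ⁅i * k * k⁻¹, g⁆ = (i * k) * ⁅k⁻¹, g⁆ * (i * k)⁻¹ * ⁅i * k, g⁆ := by
    simp only [commutatorElement_def]; group
  rw [mul_inv_cancel_right, (commutatorElement_eq_one_iff_commute.2 (h.Z_comm (hQC hg) hik).symm :),
    mul_one, (h.Z_comm (hQC (mul_mem hiQ hkQ)) hkp).eq, mul_inv_cancel_right] at e
  rw [e]; exact hkp

theorem exists_plane (h : Hyp u x) {Q : Subgroup G} (hQ : IsPGroup 2 Q) (hQC : Q ≤ Cu u)
    (hinv : Invar x Q) (hu : u ∈ Q) (hi : ∃ i ∈ Q, orderOf i = 2 ∧ i ≠ u) :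
    ∃ v ∈ Q, orderOf v = 2 ∧ v ≠ u ∧ ∀ g ∈ Q, ⁅v, g⁆ ∈ zpowers u :=
  exists_plane' h hQ hQC hinv hu (Or.inl hi)

end Cfsg.Agent.SelfCentSix
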