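import Cfsg.Agent.Lib.SelfCentSix.Quot
import Cfsg.Agent.Lib.SelfCentSix.Three
import Cfsg.Agent.Lib.SelfCentSix.Elementary
import Cfsg.Agent.Lib.SelfCentSix.KTwoQuad
import Cfsg.Agent.Lib.SelfCentSix.KTwoFinal
import Cfsg.Agent.Lib.SelfCentSix.Iso
import Cfsg.Agent.Lib.CN.Basic
import Cfsg.Agent.Lib.GWKlein.General.Main
import Cfsg.Agent.Lib.PSL2.Centralizers

/-!
# The nilpotent layer

* `Hyp.klein` : a Sylow subgroup of order four
* `Hyp.layer_three`, `Hyp.layer_six` : a nilpotent normal subgroup with quotient of order 3 or 6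
-/

set_option autoImplicit false
set_option linter.unusedSectionVars false
set_option linter.style.haveILetI false

namespace Cfsg.Agent.SelfCentSix

open Subgroup SelfCentThree

variable {G : Type*} [Group G] [Finite G] {u x : G}

/-- The two parts of the nilpotent layer. -/
structure Parts (u : G) (M Q D : Subgroup G) : Prop where
  Q_le : Q ≤ M
  D_le : D ≤ M
  mem_Q : ∀ a, a ∈ Q ↔ a ∈ M ∧ ∃ n : ℕ, a ^ 2 ^ n = 1
  mem_D : ∀ a, a ∈ D ↔ a ∈ M ∧ Odd (orderOf a)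
  split : ∀ a ∈ M, ∃ d ∈ D, ∃ q ∈ Q, a = d * q
  odd : Odd (Nat.card D)
  cent : ∀ d ∈ D, ∀ q ∈ Q, Commute d q
  two : IsPGroup 2 Q
  nil : Group.IsNilpotent D

theorem exists_parts (u : G) (M : Subgroup G) (hM : Group.IsNilpotent M) :
    ∃ Q D, Parts u M Q D := by
  haveI : Fact (Nat.Prime 2) := ⟨Nat.prime_two⟩
  obtain ⟨P⟩ : Nonempty (Sylow 2 M) := inferInstance
  have h03 : Group.IsNilpotent M ↔
      ∀ (p : ℕ) (_ : Fact p.Prime) (R : Sylow p M), (R : Subgroup M).Normal :=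
    (Group.isNilpotent_of_finite_tfae (G := M)).out 0 3
  haveI hPn : (P : Subgroup M).Normal := h03.1 hM 2 inferInstance P
  obtain ⟨K, hK⟩ := Subgroup.exists_right_complement'_of_coprime P.card_coprime_index
  have hKodd : Odd (Nat.card K) := by
    rw [show Nat.card K = (P : Subgroup M).index from (IsComplement'.symm hK).index_eq_card.symm]
    exact Nat.odd_iff.2 (Nat.two_dvd_ne_zero.1 P.not_dvd_index)
  have hcomm : ∀ k ∈ K, ∀ p ∈ (P : Subgroup M), Commute k p := fun k hk p hp => by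
    haveI := hM
    refine CN.commute_of_isNilpotent ?_
    obtain ⟨n, hn⟩ := IsPGroup.iff_orderOf.1 P.isPGroup' ⟨p, hp⟩
    rw [Subgroup.orderOf_mk] at hn
    rw [hn]
    exact Nat.Coprime.pow_right n (Nat.coprime_two_right.2 (hKodd.of_dvd_nat (orderOf_dvd_natCard K hk)))
  have hsplit : ∀ a : M, ∃ k ∈ K, ∃ p ∈ (P : Subgroup M), a = k * p := fun a => by
    obtain ⟨⟨p, k⟩, e⟩ := hK.surjective a
    exact ⟨k, k.2, p, p.2, by rw [← (show (p : M) * k = a from e), (hcomm _ k.2 _ p.2).eq]⟩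
  refine ⟨(P : Subgroup M).map M.subtype, K.map M.subtype, map_subtype_le _, map_subtype_le _,
    fun a => ?_, fun a => ?_, fun a ha => ?_, ?_, ?_, P.isPGroup'.map _, ?_⟩
  · constructor
    · rintro ⟨p, hp, rfl⟩
      obtain ⟨n, hn⟩ := P.isPGroup' ⟨p, hp⟩
      exact ⟨p.2, n, by simpa using congrArg (fun z : (P : Subgroup M) => ((z : M) : G)) hn⟩
    · rintro ⟨ha, n, hn⟩
      obtain ⟨k, hk, p, hp, e⟩ := hsplit ⟨a, ha⟩
      refine ⟨p, hp, ?_⟩
      have hkn : k = 1 := by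
        have h1 : (⟨a, ha⟩ : M) ^ 2 ^ n = 1 := Subtype.ext (by simpa using hn)
        rw [e, (hcomm k hk p hp).mul_pow] at h1
        have hmem : k ^ 2 ^ n ∈ (P : Subgroup M) := by
          rw [eq_inv_of_mul_eq_one_left h1]; exact inv_mem (pow_mem hp _)
        have h2 : k ^ 2 ^ n = 1 :=
          (Subgroup.disjoint_def.1 hK.disjoint) hmem (pow_mem hk _)
        exact orderOf_eq_one_iff.1 (Nat.eq_one_of_dvd_coprimes
          (Nat.Coprime.pow_left n (Nat.coprime_two_left.2 hKodd))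
          (orderOf_dvd_of_pow_eq_one h2) (orderOf_dvd_natCard K hk))
      rw [hkn, one_mul] at e
      exact congrArg Subtype.val e.symm
  · constructor
    · rintro ⟨k, hk, rfl⟩
      refine ⟨k.2, ?_⟩
      rw [show orderOf (M.subtype k) = orderOf k from Subgroup.orderOf_coe k]
      exact hKodd.of_dvd_nat (orderOf_dvd_natCard K hk)
    · rintro ⟨ha, ho⟩
      obtain ⟨k, hk, p, hp, e⟩ := hsplit ⟨a, ha⟩
      refine ⟨k, hk, ?_⟩
      have hp1 : p = 1 := by
        set n := orderOf a with hn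
        have h1 : (⟨a, ha⟩ : M) ^ n = 1 := Subtype.ext (by simp [hn, pow_orderOf_eq_one])
        rw [e, (hcomm k hk p hp).mul_pow] at h1
        have hmem : p ^ n ∈ K := by
          rw [eq_inv_of_mul_eq_one_right h1]; exact inv_mem (pow_mem hk _)
        have h2 : p ^ n = 1 := (Subgroup.disjoint_def.1 hK.disjoint) (pow_mem hp _) hmem
        obtain ⟨j, hj⟩ := IsPGroup.iff_orderOf.1 P.isPGroup' ⟨p, hp⟩
        rw [Subgroup.orderOf_mk] at hj
        exact orderOf_eq_one_iff.1 (Nat.eq_one_of_dvd_coprimes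
          (Nat.Coprime.pow_left j (Nat.coprime_two_left.2 ho))
          (hj ▸ dvd_rfl) (orderOf_dvd_of_pow_eq_one h2))
      rw [hp1, mul_one] at e
      exact congrArg Subtype.val e.symm
  · obtain ⟨k, hk, p, hp, e⟩ := hsplit ⟨a, ha⟩
    exact ⟨k, ⟨k, hk, rfl⟩, p, ⟨p, hp, rfl⟩, congrArg Subtype.val e⟩
  · rw [card_map_of_injective M.subtype_injective]; exact hKodd
  · rintro _ ⟨k, hk, rfl⟩ _ ⟨p, hp, rfl⟩
    exact (hcomm k hk p hp).map M.subtype
  · haveI := hM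
    exact Group.nilpotent_of_mulEquiv (K.equivMapOfInjective _ M.subtype_injective)

theorem Parts.conj {M Q D : Subgroup G} (P : Parts u M Q D)
    (hM : ∀ c ∈ Cu u, ∀ a ∈ M, c * a * c⁻¹ ∈ M) :
    (∀ c ∈ Cu u, ∀ q ∈ Q, c * q * c⁻¹ ∈ Q) ∧ ∀ c ∈ Cu u, ∀ d ∈ D, c * d * c⁻¹ ∈ D := by
  refine ⟨fun c hc q hq => ?_, fun c hc d hd => ?_⟩
  · obtain ⟨h1, n, h2⟩ := (P.mem_Q q).1 hq
    exact (P.mem_Q _).2 ⟨hM c hc q h1, n, by rw [conj_pow, h2, mul_one, mul_inv_cancel]⟩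
  · obtain ⟨h1, h2⟩ := (P.mem_D d).1 hd
    exact (P.mem_D _).2 ⟨hM c hc d h1, by rwa [Involution.orderOf_conj]⟩

/-- A Klein Sylow subgroup. -/
theorem Hyp.klein (h : Hyp u x) (S : Sylow 2 G) (h4 : Nat.card (S : Subgroup G) = 4)
    (hsq : ∀ a ∈ (S : Subgroup G), a * a = 1) :
    ∃ (F : Type) (_ : Field F) (_ : Fintype F), (Fintype.card F = 11 ∨ Fintype.card F = 13) ∧
      Nonempty (G ≃* Matrix.ProjectiveSpecialLinearGroup (Fin 2) F) := by
  have := HalfClasses.isKleinFour_of_sq h4 hsq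
  obtain ⟨F, iF, iFin, hodd, ⟨e⟩⟩ := GWKlein.dihedral_two G h.simple h.nonab S
    IsKleinFour.nonempty_mulEquiv
  refine ⟨F, iF, iFin, ?_, ⟨e⟩⟩
  obtain ⟨p, hp⟩ := CharP.exists F
  haveI : Fact p.Prime := ⟨(CharP.char_is_prime_or_zero F p).resolve_right (CharP.char_ne_zero_of_finite F p)⟩
  set t := u * x with ht
  have hto : orderOf (e t) = 6 := by
    rw [MulEquiv.orderOf_eq, ht, h.comm.orderOf_mul_eq_mul_orderOf_of_coprime
      (by rw [h.ordu, h.ordx]; norm_num), h.ordu, h.ordx]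
  obtain ⟨y, -, hcy, hy⟩ := PSL2.centralizer_torus (F := F) (x := e t) p (fun hd => by
    rw [hto] at hd
    rcases (Nat.dvd_prime (Fact.out : p.Prime)).1 hd with e' | e'
    · omega
    · exact absurd (e' ▸ (Fact.out : p.Prime)) (by norm_num)) (by rw [hto]; norm_num)
  have hCt : centralizer ({t} : Set G) = zpowers t := by
    refine le_antisymm (fun g hg => ?_) (zpowers_le.2 (mem_centralizer_singleton_iff.2 rfl))
    have hgt : Commute g t := mem_centralizer_singleton_iff.1 hg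
    have hu' : u = t ^ 3 := by
      rw [ht, h.comm.mul_pow, h.x3, mul_one, pow_three, h.u2, mul_one]
    have hx' : x = t ^ 4 := by
      rw [ht, h.comm.mul_pow, show x ^ 4 = x ^ 3 * x from pow_succ x 3, h.x3, one_mul,
        show u ^ 4 = (u * u) * (u * u) by simp only [show (4 : ℕ) = 2 + 2 from rfl, pow_add, sq], h.u2,
        one_mul, one_mul]
    obtain ⟨a, ha, b, hb, rfl⟩ := h.cent g (hu' ▸ hgt.pow_right 3) (hx' ▸ hgt.pow_right 4)
    refine mul_mem ?_ ?_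
    · exact zpowers_le.2 (hu'.symm ▸ pow_mem (mem_zpowers t) 3 : u ∈ zpowers t) ha
    · exact zpowers_le.2 (hx'.symm ▸ pow_mem (mem_zpowers t) 4 : x ∈ zpowers t) hb
  have hy6 : orderOf y = 6 := by
    have h1 : Nat.card (centralizer ({t} : Set G)) =
        Nat.card (centralizer ({e t} : Set (Matrix.ProjectiveSpecialLinearGroup (Fin 2) F))) := by
      refine Nat.card_congr (e.toEquiv.subtypeEquiv fun g => ?_)
      rw [mem_centralizer_singleton_iff, mem_centralizer_singleton_iff]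
      show g * t = t * g ↔ e g * e t = e t * e g
      rw [← map_mul, ← map_mul, e.injective.eq_iff]
    rw [hCt, hcy, Nat.card_zpowers, Nat.card_zpowers] at h1
    rw [← h1, ← MulEquiv.orderOf_eq e]
    exact hto
  rw [hy6, Nat.card_eq_fintype_card] at hy
  obtain ⟨k, hk⟩ := hodd
  have hg : Nat.gcd 2 (Fintype.card F - 1) = 2 := Nat.gcd_eq_left ⟨k, by omega⟩
  rw [hg] at hy
  omega

section layer

variable (h : Hyp u x) (N : Subgroup (Cu u ⧸ Zc u)) [N.Normal] (hN : Group.IsNilpotent N)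
  (h3 : ¬ 3 ∣ Nat.card N)
include h hN h3

theorem Hyp.layer_setup : ∃ M Q D : Subgroup G, M = pre (pr u) N ∧ Parts u M Q D ∧
    ¬ 3 ∣ Nat.card M ∧ u ∈ Q ∧ Q ≤ Cu u ∧
    (∀ c ∈ Cu u, ∀ a ∈ M, c * a * c⁻¹ ∈ M) := by
  have hker : Nat.card (pr u).ker = 2 := by
    rw [pr, QuotientGroup.ker_mk', Nat.card_congr (subgroupOfEquivOfLe h.Z_le).toEquiv,
      Nat.card_zpowers, h.ordu]
  have hnil : Group.IsNilpotent (pre (pr u) N) := by
    haveI := hN
    haveI : Group.IsNilpotent (N.comap (pr u)) := by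
      refine Subgroup.isNilpotent_of_ker_le_center
        (((pr u).comp (N.comap (pr u)).subtype).codRestrict N fun a => a.2) ?_
      intro a ha
      rw [mem_center_iff]
      intro g
      refine Subtype.ext (Subtype.ext ?_)
      have hz : ((a : Cu u) : G) ∈ zpowers u := pr_eq_one.1 (congrArg Subtype.val ha)
      exact (h.Z_comm (g : Cu u).2 hz).eq
    exact Group.nilpotent_of_mulEquiv ((N.comap (pr u)).equivMapOfInjective _ (Cu u).subtype_injective)
  obtain ⟨Q, D, P⟩ := exists_parts u (pre (pr u) N) hnil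
  refine ⟨_, Q, D, rfl, P, ?_, ?_, P.Q_le.trans pre_le, fun c hc a ha => pre_normal hc ha⟩
  · rw [card_pre (QuotientGroup.mk'_surjective _), hker]
    intro hd
    rcases Nat.prime_three.dvd_mul.1 hd with e | e
    · omega
    · exact h3 e
  · refine (P.mem_Q u).2 ⟨coe_mem_pre (a := ⟨u, h.u_mem⟩).2 ?_, 1, by rw [pow_one, sq, h.u2]⟩
    rw [pr_eq_one.2 (mem_zpowers u)]
    exact one_mem N

theorem Hyp.x_not_N : pr u ⟨x, h.x_mem⟩ ∉ N := h.sc.not_mem h3

theorem Hyp.orderOf_xbar : orderOf (QuotientGroup.mk' N (pr u ⟨x, h.x_mem⟩)) = 3 := by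
  refine orderOf_eq_prime (hp := ⟨Nat.prime_three⟩) ?_ fun e => h.x_not_N N hN h3
    ((QuotientGroup.eq_one_iff _).1 e)
  rw [← map_pow, h.sc.cubed, map_one]

theorem Hyp.layer_three (hc : Nat.card ((Cu u ⧸ Zc u) ⧸ N) = 3) : False := by
  haveI : Fact (Nat.Prime 2) := ⟨Nat.prime_two⟩
  obtain ⟨M, Q, D, rfl, P, hM3, huQ, hQC, hMn⟩ := h.layer_setup N hN h3
  obtain ⟨hQn, hDn⟩ := P.conj hMn
  set θ := (QuotientGroup.mk' N).comp (pr u)
  set X := θ ⟨x, h.x_mem⟩ with hX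
  have hcyc : ∀ c : Cu u, ∃ i : ℕ, c * (⟨x, h.x_mem⟩ ^ i)⁻¹ ∈ N.comap (pr u) := by
    intro c
    have htop : zpowers X = ⊤ :=
      eq_top_of_card_eq _ (by rw [Nat.card_zpowers, hc]; exact h.orderOf_xbar N hN h3)
    have hmem : θ c ∈ Submonoid.powers X := by
      rw [mem_powers_iff_mem_zpowers, htop]; exact mem_top _
    obtain ⟨i, hi⟩ := hmem
    refine ⟨i, ?_⟩
    rw [mem_comap, ← QuotientGroup.eq_one_iff]
    show θ (c * (⟨x, h.x_mem⟩ ^ i)⁻¹) = 1
    rw [map_mul, map_inv, map_pow, ← hX, ← hi, mul_inv_cancel]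
  obtain ⟨S, hQS, hSC⟩ := h.exists_sylow_above h.ordu P.two hQC
  have hSQ : (S : Subgroup G) = Q := by
    refine le_antisymm (fun g hg => ?_) hQS
    obtain ⟨n, hn⟩ := S.isPGroup' ⟨g, hg⟩
    have hn' : g ^ 2 ^ n = 1 := by simpa using congrArg Subtype.val hn
    refine (P.mem_Q g).2 ⟨mem_pre.2 ⟨hSC hg, ?_⟩, n, hn'⟩
    rw [← QuotientGroup.eq_one_iff]
    show θ ⟨g, hSC hg⟩ = 1
    refine orderOf_eq_one_iff.1 (Nat.eq_one_of_dvd_coprimes
      (show Nat.Coprime (2 ^ n) 3 from Nat.Coprime.pow_left _ (by norm_num))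
      (orderOf_dvd_of_pow_eq_one ?_) (hc ▸ orderOf_dvd_natCard _))
    rw [← map_pow, show (⟨g, hSC hg⟩ : Cu u) ^ 2 ^ n = 1 from Subtype.ext (by simpa using hn'), map_one]
  have hinv : Invar x (S : Subgroup G) := by rw [hSQ]; exact fun g hg => hQn x h.x_mem g hg
  have hcov : ∀ c ∈ Cu u, ∃ d ∈ D, ∃ q ∈ Q, ∃ i : ℕ, c = d * q * x ^ i := by
    intro c hc'
    obtain ⟨i, hi⟩ := hcyc ⟨c, hc'⟩
    obtain ⟨d, hd, q, hq, e⟩ := P.split _ (coe_mem_pre.2 hi)
    simp only [Subgroup.coe_mul, InvMemClass.coe_inv, SubmonoidClass.coe_pow] at e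
    exact ⟨d, hd, q, hq, i, by rw [← e, inv_mul_cancel_right]⟩
  have HC : Inner h S := by
    intro g hg _
    obtain ⟨d, hd, q, hq, i, rfl⟩ := hcov g hg
    refine ⟨i, q, by rw [hSQ]; exact hq, fun a ha => ?_⟩
    rw [hSQ] at ha
    have hm := mul_mem (mul_mem hq (hQn _ (pow_mem h.x_mem i) a ha)) (inv_mem hq)
    calc d * q * x ^ i * a * (d * q * x ^ i)⁻¹
        = d * (q * (x ^ i * a * (x ^ i)⁻¹) * q⁻¹) * d⁻¹ := by group
      _ = _ := by rw [(P.cent d hd _ hm).eq, mul_inv_cancel_right]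
  have huS : u ∈ (S : Subgroup G) := by rw [hSQ]; exact huQ
  refine h.not_elementary S hSC (h.elementary S hSC hinv huS HC) ?_
  intro c hc'
  rw [hSQ, mem_normalizer_iff]
  refine fun a => ⟨hQn c hc' a, fun ha => ?_⟩
  have := hQn c⁻¹ (inv_mem hc') _ ha
  rwa [show c⁻¹ * (c * a * c⁻¹) * c⁻¹⁻¹ = a by group] at this

theorem Hyp.layer_six (hS3 : Nonempty ((Cu u ⧸ Zc u) ⧸ N ≃* Equiv.Perm (Fin 3))) :
    (∃ (F : Type) (_ : Field F) (_ : Fintype F), (Fintype.card F = 11 ∨ Fintype.card F = 13) ∧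
        Nonempty (G ≃* Matrix.ProjectiveSpecialLinearGroup (Fin 2) F)) ∨
      (∃ (F : Type) (_ : Field F) (_ : Fintype F), Fintype.card F = 3 ∧
        Nonempty (G ≃* Matrix.ProjectiveSpecialLinearGroup (Fin 3) F)) ∨
      Cfsg.Spor.IsoM11 G := by
  haveI : Fact (Nat.Prime 2) := ⟨Nat.prime_two⟩
  obtain ⟨e⟩ := hS3
  have hc : Nat.card ((Cu u ⧸ Zc u) ⧸ N) = 6 := by
    rw [Nat.card_congr e.toEquiv, Nat.card_perm, Nat.card_fin]; rfl
  obtain ⟨M, Q, D, rfl, P, hM3, huQ, hQC, hMn⟩ := h.layer_setup N hN h3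
  obtain ⟨hQn, hDn⟩ := P.conj hMn
  set θ := (QuotientGroup.mk' N).comp (pr u)
  set X := θ ⟨x, h.x_mem⟩ with hX
  have hoX : orderOf X = 3 := h.orderOf_xbar N hN h3
  -- the inverting element
  obtain ⟨s, hsC, hsx, ⟨a, hsa⟩, hs2⟩ : ∃ s ∈ Cu u, s * x * s⁻¹ = x⁻¹ ∧
      (∃ a : ℕ, s ^ 2 ^ a = 1) ∧ s * s ∈ zpowers u := by
    have key : ∀ p : Equiv.Perm (Fin 3), p ^ 3 = 1 → ∃ q, q * p * q⁻¹ * p = 1 := by decide +kernel
    obtain ⟨q, hq⟩ := key (e X) (by rw [← map_pow, show X ^ 3 = 1 from hoX ▸ pow_orderOf_eq_one X, map_one])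
    obtain ⟨n, hn⟩ := (QuotientGroup.mk'_surjective N).comp (QuotientGroup.mk'_surjective (Zc u))
      (e.symm q)
    refine h.exists_invert h3 (n := n) ((QuotientGroup.eq_one_iff _).1 ?_)
    show QuotientGroup.mk' N (pr u n * pr u ⟨x, h.x_mem⟩ * (pr u n)⁻¹ * pr u ⟨x, h.x_mem⟩) = 1
    have hn' : QuotientGroup.mk' N (pr u n) = e.symm q := hn
    rw [map_mul, map_mul, map_mul, map_inv, hn']
    refine e.injective ?_
    show e (e.symm q * X * (e.symm q)⁻¹ * X) = e 1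
    rw [map_mul, map_mul, map_mul, map_inv, e.apply_symm_apply, map_one, hq]
  set σ := θ ⟨s, hsC⟩ with hσ
  have hσX : σ * X * σ⁻¹ = X⁻¹ := by
    rw [hσ, hX, ← map_inv, ← map_mul, ← map_mul, ← map_inv]
    exact congrArg θ (Subtype.ext hsx)
  have hσnot : σ ∉ zpowers X := by
    intro hmem
    obtain ⟨i, hi⟩ := mem_zpowers_iff.1 hmem
    rw [← hi, ((Commute.refl X).zpow_left i).eq, mul_inv_cancel_right] at hσX
    have h2 : X ^ 2 = 1 := by rw [sq]; exact eq_inv_iff_mul_eq_one.1 hσX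
    have := Nat.le_of_dvd two_pos (orderOf_dvd_of_pow_eq_one h2)
    omega
  have hidx : (zpowers X).index = 2 := by
    have := (zpowers X).card_mul_index
    rw [Nat.card_zpowers, hoX, hc] at this
    omega
  have hdich : ∀ y, y ∈ zpowers X ∨ σ⁻¹ * y ∈ zpowers X ∧ y * σ⁻¹ ∈ zpowers X := by
    intro y
    by_cases hy : y ∈ zpowers X
    · exact Or.inl hy
    · exact Or.inr ⟨(mul_mem_iff_of_index_two hidx).2 (iff_of_false (fun e => hσnot (inv_mem_iff.1 e)) hy),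
        (mul_mem_iff_of_index_two hidx).2 (iff_of_false hy fun e => hσnot (inv_mem_iff.1 e))⟩
  have hmemM : ∀ c : Cu u, θ c = 1 → (c : G) ∈ pre (pr u) N := fun c hc =>
    coe_mem_pre.2 ((QuotientGroup.eq_one_iff _).1 hc)
  -- the Sylow subgroup
  set R := Q ⊔ zpowers s
  have hR : IsPGroup 2 R := by
    refine IsPGroup.to_sup_of_normal_left' P.two (fun z => ?_) ?_
    · obtain ⟨i, hi⟩ := mem_zpowers_iff.1 z.2
      refine ⟨a, Subtype.ext ?_⟩
      rw [SubmonoidClass.coe_pow, ← hi, ← zpow_natCast, ← zpow_mul, mul_comm, zpow_mul, zpow_natCast,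
        hsa, one_zpow]
      rfl
    · rw [zpowers_le, mem_normalizer_iff]
      refine fun q => ⟨hQn s hsC q, fun hq => ?_⟩
      have := hQn s⁻¹ (inv_mem hsC) _ hq
      rwa [show s⁻¹ * (s * q * s⁻¹) * s⁻¹⁻¹ = q by group] at this
  obtain ⟨S, hRS, hSC⟩ := h.exists_sylow_above h.ordu hR (sup_le hQC (zpowers_le.2 hsC))
  have hQS : Q ≤ (S : Subgroup G) := le_sup_left.trans hRS
  have hsS : s ∈ (S : Subgroup G) := hRS (le_sup_right (a := Q) (mem_zpowers s))
  have hSQ : ∀ g (hg : g ∈ (S : Subgroup G)), θ ⟨g, hSC hg⟩ ∈ zpowers X → g ∈ Q := by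
    intro g hg hmem
    obtain ⟨n, hn⟩ := S.isPGroup' ⟨g, hg⟩
    have hn' : g ^ 2 ^ n = 1 := by simpa using congrArg Subtype.val hn
    refine (P.mem_Q g).2 ⟨hmemM ⟨g, hSC hg⟩ ?_, n, hn'⟩
    refine orderOf_eq_one_iff.1 (Nat.eq_one_of_dvd_coprimes
      (show Nat.Coprime (2 ^ n) 3 from Nat.Coprime.pow_left _ (by norm_num))
      (orderOf_dvd_of_pow_eq_one ?_) (hoX ▸ orderOf_dvd_of_mem_zpowers hmem))
    rw [← map_pow, show (⟨g, hSC hg⟩ : Cu u) ^ 2 ^ n = 1 from Subtype.ext (by simpa using hn'), map_one]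
  have hindex : ∀ g ∈ (S : Subgroup G), g ∈ Q ∨ s⁻¹ * g ∈ Q := by
    intro g hg
    rcases hdich (θ ⟨g, hSC hg⟩) with hy | ⟨hy, -⟩
    · exact Or.inl (hSQ g hg hy)
    · refine Or.inr (hSQ _ (mul_mem (inv_mem hsS) hg) ?_)
      rw [show (⟨s⁻¹ * g, hSC (mul_mem (inv_mem hsS) hg)⟩ : Cu u) = ⟨s, hsC⟩⁻¹ * ⟨g, hSC hg⟩ from rfl,
        map_mul, map_inv]
      exact hy
  have hsQ : s ∉ Q := fun hs => hσnot (by
    have : θ ⟨s, hsC⟩ = 1 := (QuotientGroup.eq_one_iff _).2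
      (coe_mem_pre (a := ⟨s, hsC⟩).1 (P.Q_le hs))
    rw [hσ, this]; exact one_mem _)
  have T : Top h Q D S s := by
    refine ⟨hQC, hQn, huQ, P.D_le.trans pre_le, hDn, P.odd, P.cent, hQS, hSC, hsS, hsQ, hindex, hsx,
      hs2, fun c hc' => ?_⟩
    have hpow : ∀ y : Cu u, θ y ∈ zpowers X → ∃ d ∈ D, ∃ q ∈ Q, ∃ i : ℕ, (y : G) = d * q * x ^ i := by
      intro y hy
      obtain ⟨i, hi⟩ := mem_powers_iff_mem_zpowers.2 hy
      obtain ⟨d, hd, q, hq, e'⟩ := P.split _ (hmemM (y * (⟨x, h.x_mem⟩ ^ i)⁻¹) (by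
        rw [map_mul, map_inv, map_pow, ← hX, ← hi, mul_inv_cancel]))
      simp only [Subgroup.coe_mul, InvMemClass.coe_inv, SubmonoidClass.coe_pow] at e'
      exact ⟨d, hd, q, hq, i, by rw [← e', inv_mul_cancel_right]⟩
    rcases hdich (θ ⟨c, hc'⟩) with hy | ⟨-, hy⟩
    · obtain ⟨d, hd, q, hq, i, e'⟩ := hpow _ hy
      exact ⟨d, hd, q, hq, i, Or.inl e'⟩
    · obtain ⟨d, hd, q, hq, i, e'⟩ := hpow (⟨c, hc'⟩ * ⟨s, hsC⟩⁻¹) (by rw [map_mul, map_inv]; exact hy)
      refine ⟨d, hd, q, hq, i, Or.inr ?_⟩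
      rw [← e']
      simp
  -- the order of `Q`
  have hbar : Nat.card (Hyp.bar u Q) = 1 ∨ Nat.card (Hyp.bar u Q) = 4 := by
    have hlt := T.card_lt
    have hcQ := (h.card_le_bar hQC).2 huQ
    obtain ⟨k, hk⟩ := IsPGroup.iff_card.1 P.two
    have hb : Nat.card (Hyp.bar u Q) ∈ ({1, 2, 4, 8} : Finset ℕ) := by
      have : k < 5 := by
        by_contra hk5
        have := Nat.pow_le_pow_right (show 0 < 2 by norm_num) (show 5 ≤ k by omega)
        omega
      simp only [Finset.mem_insert, Finset.mem_singleton]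
      interval_cases k <;> omega
    have hmod : ¬ (Nat.card (Hyp.bar u Q) = 2 ∨ Nat.card (Hyp.bar u Q) = 8) := fun hbad => by
      obtain ⟨g, ⟨hg, hg1⟩, hgc⟩ := h.sc.exists_fixed
        (((Hyp.bar u Q : Subgroup (Cu u ⧸ Zc u)) : Set (Cu u ⧸ Zc u)) \ {1})
        (fun g hg => ⟨h.invar_bar T.inv g hg.1, fun e' => hg.2 (conj_eq_one_iff.1 e')⟩) (by
          rw [Set.ncard_sdiff_singleton_of_mem (one_mem (Hyp.bar u Q)), ← Nat.card_coe_set_eq]
          rcases hbad with e' | e' <;> simp only [SetLike.coe_sort_coe] <;> rw [e'] <;> norm_num)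
      exact hg1 (h.sc.eq_one_of_commute (Hyp.not_three_bar hQC T.three) hg hgc)
    simp only [Finset.mem_insert, Finset.mem_singleton] at hb
    omega
  have hcQ := (h.card_le_bar hQC).2 huQ
  rcases hbar with hb | hb
  · left
    have hQ2 : Nat.card Q = 2 := by omega
    have hQZ : Q = zpowers u := (eq_of_le_of_card_ge T.Z_le (by
      rw [hQ2, Nat.card_zpowers, h.ordu])).symm
    have hs1 : s * s = 1 := by
      refine (h.mem_Z_iff.1 hs2).resolve_right fun hsu => ?_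
      obtain ⟨i, hi, hi2, hiu⟩ := h.no_unique S (hQS huQ)
      have hii := Involution.mul_self hi2
      rcases hindex i hi with hm | hm <;> rw [hQZ] at hm
      · exact (h.mem_Z_iff.1 hm).elim (Involution.ne_one hi2) hiu
      · have e' : i = s * (s⁻¹ * i) := by group
        rw [e', (h.Z_comm hsC hm).symm.mul_mul_mul_comm, hsu] at hii
        rcases h.mem_Z_iff.1 hm with e'' | e'' <;> rw [e''] at hii
        · rw [mul_one, mul_one] at hii; exact h.u_ne hii
        · rw [h.u2, mul_one] at hii; exact h.u_ne hii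
    have hsq : ∀ g ∈ (S : Subgroup G), g * g = 1 := by
      have hz : ∀ z ∈ zpowers u, z * z = 1 := fun z hz => by
        rcases h.mem_Z_iff.1 hz with rfl | rfl
        · exact one_mul 1
        · exact h.u2
      intro g hg
      rcases hindex g hg with hm | hm <;> rw [hQZ] at hm
      · exact hz g hm
      · rw [show g = s * (s⁻¹ * g) by group, (h.Z_comm hsC hm).symm.mul_mul_mul_comm, hs1, hz _ hm,
          one_mul]
    refine h.klein S ?_ hsq
    have hle := T.card_le_two (B := (S : Subgroup G)) le_rfl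
    rw [inf_eq_right.2 hQS, hQ2] at hle
    obtain ⟨k, hk⟩ := IsPGroup.iff_card.1 S.isPGroup'
    have hgt : Nat.card Q < Nat.card (S : Subgroup G) := by
      by_contra hle'
      exact hsQ ((eq_of_le_of_card_ge hQS (by omega)) ▸ hsS)
    rw [hQ2, hk] at hgt
    rw [hk] at hle ⊢
    rcases lt_trichotomy k 2 with hlt | rfl | hlt
    · interval_cases k <;> simp at hgt
    · rfl
    · have := Nat.pow_le_pow_right (show 0 < 2 by norm_num) (show 3 ≤ k by omega); omega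
  · right
    exact T.recognise (by omega) P.Q_le P.D_le hMn hM3 P.nil

end layer

end Cfsg.Agent.SelfCentSix
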