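import Cfsg.Agent.Lib.SelfCentSix.A5Case
import Cfsg.Agent.Lib.GLOrder.Basic
import Mathlib.LinearAlgebra.Matrix.ProjectiveSpecialLinearGroup

/-!
# The quotient `PSL(2,7)` does not occur
-/

set_option autoImplicit false
set_option linter.unusedSectionVars false
set_option linter.style.haveILetI false

namespace Cfsg.Agent.SelfCentSix

open Subgroup SelfCentThree
open scoped MatrixGroups

/-- The four-group data with a reflection. -/
structure Data {F : Type*} [Group F] (a b τ σ : F) : Prop where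
  aa : a * a = 1
  bb : b * b = 1
  ab : a * b = b * a
  a1 : a ≠ 1
  b1 : b ≠ 1
  ne : a ≠ b
  t3 : τ ^ 3 = 1
  t1 : τ ≠ 1
  ta : τ * a * τ⁻¹ = b
  tb : τ * b * τ⁻¹ = a * b
  ss : σ * σ = 1
  st : σ * τ * σ⁻¹ = τ⁻¹
  sa : σ * a * σ⁻¹ = a ∨ σ * a * σ⁻¹ = b ∨ σ * a * σ⁻¹ = a * b
  sb : σ * b * σ⁻¹ = a ∨ σ * b * σ⁻¹ = b ∨ σ * b * σ⁻¹ = a * b

/-- A criterion for equality in `PSL(2, 𝔽₇)`. -/
theorem psl_eq {a b : SL(2, ZMod 7)}
    (h : (a⁻¹ * b).1 = 1 ∨ (a⁻¹ * b).1 = -1) :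
    (QuotientGroup.mk a : Matrix.ProjectiveSpecialLinearGroup (Fin 2) (ZMod 7)) = QuotientGroup.mk b := by
  refine QuotientGroup.eq.2 (mem_center_iff.2 fun g => Subtype.ext ?_)
  show g.1 * (a⁻¹ * b).1 = (a⁻¹ * b).1 * g.1
  rcases h with e | e <;> rw [e] <;> simp

/-- A criterion for inequality in `PSL(2, 𝔽₇)`. -/
theorem psl_ne {a b g : SL(2, ZMod 7)} (h : g * (a⁻¹ * b) ≠ (a⁻¹ * b) * g) :
    (QuotientGroup.mk a : Matrix.ProjectiveSpecialLinearGroup (Fin 2) (ZMod 7)) ≠ QuotientGroup.mk b :=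
  fun e => h (mem_center_iff.1 (QuotientGroup.eq.1 e) g)

/-- Two four groups. -/
theorem psl_seven_data : ∃ a b τ σ a' b' τ' σ' : Matrix.ProjectiveSpecialLinearGroup (Fin 2) (ZMod 7),
    Data a b τ σ ∧ Data a' b' τ' σ' ∧ (σ = a' ∨ σ = b' ∨ σ = a' * b') ∧
      σ ≠ 1 ∧ σ ≠ a ∧ σ ≠ b ∧ σ ≠ a * b ∧ σ' ≠ 1 ∧ σ' ≠ a' ∧ σ' ≠ b' ∧ σ' ≠ a' * b' := by
  let m : Fin 7 → Fin 7 → Fin 7 → Fin 7 → Matrix (Fin 2) (Fin 2) (ZMod 7) := fun p q r s => !![p, q; r, s]
  let U : SL(2, ZMod 7) := ⟨m 1 1 0 1, by decide +kernel⟩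
  let L : SL(2, ZMod 7) := ⟨m 1 0 1 1, by decide +kernel⟩
  let A : SL(2, ZMod 7) := ⟨m 0 1 6 0, by decide +kernel⟩
  let B : SL(2, ZMod 7) := ⟨m 2 3 3 5, by decide +kernel⟩
  let T : SL(2, ZMod 7) := ⟨m 0 2 3 1, by decide +kernel⟩
  let S : SL(2, ZMod 7) := ⟨m 1 6 2 6, by decide +kernel⟩
  let A' : SL(2, ZMod 7) := ⟨m 1 2 6 6, by decide +kernel⟩
  let B' : SL(2, ZMod 7) := ⟨m 1 6 2 6, by decide +kernel⟩
  let T' : SL(2, ZMod 7) := ⟨m 2 0 4 4, by decide +kernel⟩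
  let S' : SL(2, ZMod 7) := ⟨m 1 4 3 6, by decide +kernel⟩
  refine ⟨QuotientGroup.mk A, QuotientGroup.mk B, QuotientGroup.mk T, QuotientGroup.mk S,
    QuotientGroup.mk A', QuotientGroup.mk B', QuotientGroup.mk T', QuotientGroup.mk S',
    ⟨?_, ?_, ?_, ?_, ?_, ?_, ?_, ?_, ?_, ?_, ?_, ?_, ?_, ?_⟩,
    ⟨?_, ?_, ?_, ?_, ?_, ?_, ?_, ?_, ?_, ?_, ?_, ?_, ?_, ?_⟩, ?_, ?_, ?_, ?_, ?_, ?_, ?_, ?_, ?_⟩
  all_goals
    try simp only [← QuotientGroup.mk_mul, ← QuotientGroup.mk_inv, ← QuotientGroup.mk_pow,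
      ← QuotientGroup.mk_one]
    first
    | exact psl_eq (by decide +kernel)
    | exact psl_ne (g := U) (by decide +kernel)
    | exact psl_ne (g := L) (by decide +kernel)
    | (left; exact psl_eq (by decide +kernel))
    | (right; left; exact psl_eq (by decide +kernel))
    | (right; right; exact psl_eq (by decide +kernel))

variable {G : Type*} [Group G] [Finite G] {u x : G}

theorem Hyp.small_of_data (h : Hyp u x) {F : Type*} [Group F] (θ : Cu u →* F)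
    (hθ : Function.Surjective θ) (hker : Nat.card θ.ker = 2) (huker : (⟨u, h.u_mem⟩ : Cu u) ∈ θ.ker)
    (hF : Nat.card F = 168) {a b τ σ : F} (hD : Data a b τ σ)
    (hσ : σ ≠ 1 ∧ σ ≠ a ∧ σ ≠ b ∧ σ ≠ a * b) :
    ∃ (x' s : G) (h' : Hyp u x') (S : Sylow 2 G) (hs : s ∈ Cu u),
      Small h' (pre θ (fourSub a b hD.aa hD.bb hD.ab)) S s ∧ θ ⟨s, hs⟩ = σ := by
  haveI : Fact (Nat.Prime 2) := ⟨Nat.prime_two⟩
  obtain ⟨g, hg3, hgτ⟩ := lift_three hθ (by rw [hker]; norm_num)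
    (orderOf_eq_prime (hp := ⟨Nat.prime_three⟩) hD.t3 hD.t1)
  have h' := h.of_three g.2 hg3
  obtain ⟨s, hsσ⟩ := hθ σ
  have hkerZ : ∀ k ∈ θ.ker, ((k : Cu u) : G) ∈ zpowers u := by
    intro k hk
    have hle : (zpowers u).subgroupOf (Cu u) ≤ θ.ker := fun z hz => by
      rcases h.mem_Z_iff.1 (mem_subgroupOf.1 hz) with e | e
      · rw [show z = 1 from Subtype.ext e]; exact one_mem _
      · rw [show z = ⟨u, h.u_mem⟩ from Subtype.ext e]; exact huker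
    have := eq_of_le_of_card_ge hle (by
      rw [hker, Nat.card_congr (subgroupOfEquivOfLe h.Z_le).toEquiv, Nat.card_zpowers, h.ordu])
    exact mem_subgroupOf.1 (this ▸ hk)
  set T := pre θ (fourSub a b hD.aa hD.bb hD.ab) with hT
  have hT8 : Nat.card T = 8 := by rw [hT, card_pre hθ, hker, card_fourSub hD.a1 hD.b1 hD.ne]
  have hconj : ∀ c : Cu u, θ c * a * (θ c)⁻¹ ∈ fourSub a b hD.aa hD.bb hD.ab →
      θ c * b * (θ c)⁻¹ ∈ fourSub a b hD.aa hD.bb hD.ab →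
      ∀ t ∈ T, (c : G) * t * (c : G)⁻¹ ∈ T := fun c h1 h2 t ht => by
    refine pre_conj (fun v hv => ?_) ht
    rcases mem_fourSub.1 hv with rfl | rfl | rfl | rfl
    · rw [mul_one, mul_inv_cancel]; exact one_mem _
    · exact h1
    · exact h2
    · rw [← conj_mul]; exact mul_mem h1 h2
  have hinv : Invar (g : G) T := fun t ht => hconj g
    (mem_fourSub.2 (Or.inr (Or.inr (Or.inl (by rw [hgτ, hD.ta])))))
    (mem_fourSub.2 (Or.inr (Or.inr (Or.inr (by rw [hgτ, hD.tb]))))) t ht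
  have hnorm : ∀ q ∈ T, (s : G) * q * (s : G)⁻¹ ∈ T := fun q hq => hconj s
    (mem_fourSub.2 (Or.inr (by rw [hsσ]; exact hD.sa)))
    (mem_fourSub.2 (Or.inr (by rw [hsσ]; exact hD.sb))) q hq
  have hs2 : (s : G) * (s : G) ∈ zpowers u :=
    hkerZ (s * s) (by rw [MonoidHom.mem_ker, map_mul, hsσ, hD.ss])
  have hsx : (s : G) * (g : G) * (s : G)⁻¹ = (g : G)⁻¹ := by
    have hz := hkerZ (s * g * s⁻¹ * g) (by
      rw [MonoidHom.mem_ker, map_mul, map_mul, map_mul, map_inv, hsσ, hgτ, hD.st, inv_mul_cancel])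
    simp only [Subgroup.coe_mul, InvMemClass.coe_inv] at hz
    rcases h.mem_Z_iff.1 hz with e | e
    · exact eq_inv_of_mul_eq_one_left e
    · exfalso
      have e1 := eq_mul_inv_of_mul_eq e
      have h1 : ((s : G) * (g : G) * (s : G)⁻¹) ^ 3 = 1 := by rw [conj_pow, h'.x3]; group
      rw [e1, h'.comm.inv_right.mul_pow, inv_pow, h'.x3, inv_one, mul_one, pow_three, h.u2, mul_one] at h1
      exact h.u_ne h1
  have hsT : (s : G) ∉ T := fun e => by
    have := coe_mem_pre.1 e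
    rw [hsσ, mem_fourSub] at this
    rcases this with e' | e' | e' | e'
    exacts [hσ.1 e', hσ.2.1 e', hσ.2.2.1 e', hσ.2.2.2 e']
  have hR : IsPGroup 2 (T ⊔ zpowers (s : G) : Subgroup G) := by
    refine IsPGroup.to_sup_of_normal_left' (IsPGroup.of_card (n := 3) hT8) (fun z => ?_) ?_
    · obtain ⟨i, hi⟩ := mem_zpowers_iff.1 z.2
      refine ⟨2, Subtype.ext ?_⟩
      have h4 : (s : G) ^ 4 = 1 := by
        rw [show (4 : ℕ) = 2 * 2 from rfl, pow_mul, sq, sq]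
        rcases h.mem_Z_iff.1 hs2 with e | e <;> rw [e]
        · exact one_mul 1
        · exact h.u2
      rw [SubmonoidClass.coe_pow, ← hi, ← zpow_natCast, ← zpow_mul, mul_comm, zpow_mul,
        zpow_natCast, show (2 : ℕ) ^ 2 = 4 from rfl, h4, one_zpow]
      rfl
    · rw [zpowers_le, mem_normalizer_iff]
      refine fun q => ⟨hnorm q, fun hq => ?_⟩
      have h1 := hnorm _ hq
      have e : (s : G) * ((s : G) * q * (s : G)⁻¹) * (s : G)⁻¹ = ((s : G) * s) * q * ((s : G) * s)⁻¹ := by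
        group
      rw [e] at h1
      have hzT : ∀ z ∈ zpowers u, z ∈ T := fun z hz => by
        rcases h.mem_Z_iff.1 hz with rfl | rfl
        · exact one_mem T
        · exact ker_le_pre huker
      have := mul_mem (mul_mem (inv_mem (hzT _ hs2)) h1) (hzT _ hs2)
      rwa [show ((s : G) * s)⁻¹ * (((s : G) * s) * q * ((s : G) * s)⁻¹) * ((s : G) * s) = q by group]
        at this
  obtain ⟨S, hRS, hSC⟩ := h.exists_sylow_above h.ordu hR (sup_le pre_le (zpowers_le.2 s.2))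
  have hTS : T ≤ (S : Subgroup G) := le_sup_left.trans hRS
  have hsS : (s : G) ∈ (S : Subgroup G) := hRS (le_sup_right (a := T) (mem_zpowers (s : G)))
  have hS16 : Nat.card (S : Subgroup G) = 2 * Nat.card T := by
    obtain ⟨k, hk⟩ := IsPGroup.iff_card.1 S.isPGroup'
    have hd : 2 ^ k ∣ 336 := by
      rw [← hk, show 336 = Nat.card (Cu u) by rw [card_cu hθ, hker, hF]]
      exact card_dvd_of_le hSC
    have hlt : Nat.card T < Nat.card (S : Subgroup G) := by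
      by_contra hle
      exact hsT ((eq_of_le_of_card_ge hTS (by omega)) ▸ hsS)
    rw [hT8, hk] at hlt
    rw [hT8, hk]
    rcases lt_trichotomy k 4 with hl | rfl | hl
    · interval_cases k <;> omega
    · rfl
    · exact absurd ((pow_dvd_pow 2 (show 5 ≤ k by omega)).trans hd) (by norm_num)
  exact ⟨g, s, h', S, s.2, ⟨pre_le, hT8, hinv, ker_le_pre huker, hnorm, hTS, hSC, hsS, hsx, hs2,
    fun q hq => (Classical.em (q ∈ T)).imp_right fun hqT =>
      SC.mul_mem_of_index_two hTS hS16 hsS hsT hq hqT⟩, hsσ⟩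

theorem Hyp.psl_seven (h : Hyp u x)
    (e : Cu u ⧸ Zc u ≃* Matrix.ProjectiveSpecialLinearGroup (Fin 2) (ZMod 7)) : False := by
  obtain ⟨a, b, τ, σ, a', b', τ', σ', hD, hD', hσV, n1, n2, n3, n4, m1, m2, m3, m4⟩ := psl_seven_data
  haveI : Fact (Nat.Prime 7) := ⟨by norm_num⟩
  set θ := e.toMonoidHom.comp (pr u)
  have hθ : Function.Surjective θ := e.surjective.comp (QuotientGroup.mk'_surjective (Zc u))
  have hk : θ.ker = Zc u := by
    ext c
    rw [MonoidHom.mem_ker]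
    show e (pr u c) = 1 ↔ _
    rw [map_eq_one_iff e e.injective, QuotientGroup.mk'_apply, QuotientGroup.eq_one_iff]
  have hker : Nat.card θ.ker = 2 := by
    rw [hk, Nat.card_congr (subgroupOfEquivOfLe h.Z_le).toEquiv, Nat.card_zpowers, h.ordu]
  have huker : (⟨u, h.u_mem⟩ : Cu u) ∈ θ.ker := by rw [hk, mem_subgroupOf]; exact mem_zpowers u
  have hF : Nat.card (Matrix.ProjectiveSpecialLinearGroup (Fin 2) (ZMod 7)) = 168 := by
    rw [GLOrder.card_PSL_two, Nat.card_zmod]; norm_num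
  obtain ⟨x1, s, h1, S, hs, M, hsσ⟩ := h.small_of_data θ hθ hker huker hF hD ⟨n1, n2, n3, n4⟩
  obtain ⟨x2, s', h2, S', -, M', -⟩ := h.small_of_data θ hθ hker huker hF hD' ⟨m1, m2, m3, m4⟩
  obtain ⟨hq', -⟩ := M'.quat
  obtain ⟨-, hs2⟩ := M.quat
  have hsT' : s ∈ pre θ (fourSub a' b' hD'.aa hD'.bb hD'.ab) :=
    coe_mem_pre (a := ⟨s, hs⟩).2 (by rw [hsσ]; exact mem_fourSub.2 (Or.inr hσV))
  have hsZ : s ∉ zpowers u := fun hz => by
    have : θ ⟨s, hs⟩ = 1 := MonoidHom.mem_ker.1 (by rw [hk, mem_subgroupOf]; exact hz)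
    exact n1 (hsσ.symm.trans this)
  exact h.u_ne ((hq' s hsT' hsZ).symm.trans hs2)

end Cfsg.Agent.SelfCentSix
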