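import Cfsg.Agent.EqLemmas

/-!
# No symmetric-group module with a single fixed point of the three-cycle

`no_module` : an elementary abelian 2-group acted on by `x` (order 3), `σ` inverting `x`, and `f` of odd
prime order centralized by `σ`, with `⟨f, x f x⁻¹⟩` abelian, `x` fixed-point-free on it, cannot have
`C(x)` of order at most two unless `f` acts trivially.
-/

set_option autoImplicit false
set_option linter.unusedSectionVars false
set_option linter.style.haveILetI false

namespace Cfsg.Agent.SelfCentSix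

open Subgroup

variable {H E : Type*} [Group H] [Finite H] [CommGroup E] (φ : H →* MulAut E)

/-- The averaging trick at a single element. -/
theorem sum_trick {x : H} (hx : x ^ 3 = 1) (K : Subgroup H) [Fintype K] (hK : ∀ k ∈ K, x * k * x⁻¹ ∈ K)
    (hfpf : ∀ k ∈ K, Commute k x → k = 1) (e : E)
    (hxE : ∀ k ∈ K, φ k e * φ x (φ k e) * φ (x * x) (φ k e) = 1) :
    ∀ j ∈ K, φ j (e ^ Nat.card K) = e ^ Nat.card K := by
  classical
  let T : E → E := fun e' => ∏ k : K, φ (k : H) e'
  have hfix : ∀ e', ∀ j ∈ K, φ j (T e') = T e' := fun e' j hj => by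
    simp only [T, map_prod]
    refine Fintype.prod_equiv (Equiv.mulLeft (⟨j, hj⟩ : K)) _ _ fun k => ?_
    simp
  have key : ∀ (z : H) (_ : ∀ k ∈ K, z * k * z⁻¹ ∈ K) (_ : ∀ k ∈ K, Commute k z → k = 1) (e' : E),
      ∏ k : K, φ ((k : H) * z * (k : H)⁻¹) e' = T (φ z e') := by
    intro z hz hzf e'
    let f : K → K := fun k => ⟨(k : H) * (z * (k : H)⁻¹ * z⁻¹), K.mul_mem k.2 (hz _ (K.inv_mem k.2))⟩
    have hf : Function.Injective f := fun a b h => by
      have h' : (a : H) * (z * (a : H)⁻¹ * z⁻¹) = b * (z * (b : H)⁻¹ * z⁻¹) := congrArg Subtype.val h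
      refine Subtype.ext (inv_mul_eq_one.mp (hzf _ (K.mul_mem (K.inv_mem b.2) a.2) ?_)).symm
      show (b : H)⁻¹ * a * z = z * ((b : H)⁻¹ * a)
      calc (b : H)⁻¹ * a * z = (b : H)⁻¹ * (a * (z * (a : H)⁻¹ * z⁻¹)) * (z * a) := by group
        _ = (b : H)⁻¹ * (b * (z * (b : H)⁻¹ * z⁻¹)) * (z * a) := by rw [h']
        _ = _ := by group
    refine Fintype.prod_bijective f (Finite.injective_iff_bijective.mp hf) _ _ fun k => ?_
    rw [← MulAut.mul_apply, ← map_mul]
    congr 2
    simp only [f]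
    group
  have hrel : ∀ k : K, e * φ ((k : H) * x * (k : H)⁻¹) e * φ ((k : H) * (x * x) * (k : H)⁻¹) e = 1 := by
    intro k
    have h := congrArg (φ (k : H)) (hxE (k : H)⁻¹ (K.inv_mem k.2))
    simp only [map_mul, map_one, map_inv, MulAut.mul_apply, MulAut.apply_inv_self] at h ⊢
    exact h
  have h1 : ∏ k : K, e * φ ((k : H) * x * (k : H)⁻¹) e * φ ((k : H) * (x * x) * (k : H)⁻¹) e = 1 :=
    Finset.prod_eq_one fun k _ => hrel k
  rw [Finset.prod_mul_distrib, Finset.prod_mul_distrib, key x hK hfpf e,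
    key (x * x) (fun k hk => by
      have := hK _ (hK k hk)
      rwa [show x * x * k * (x * x)⁻¹ = x * (x * k * x⁻¹) * x⁻¹ by group]) (fun k hk hc => hfpf k hk (by
        have hxx : x = (x * x) * (x * x) := by
          calc x = x ^ 3 * x := by rw [hx, one_mul]
            _ = _ := by simp only [pow_three, mul_assoc]
        rw [hxx]; exact hc.mul_right hc)) e, Finset.prod_const, Finset.card_univ,
    ← Nat.card_eq_fintype_card, mul_assoc] at h1
  intro j hj
  rw [eq_inv_of_mul_eq_one_left h1, map_inv, map_mul, hfix _ j hj, hfix _ j hj]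

theorem no_module (hE : ∀ e : E, e * e = 1) {x σ f : H} {u : E} {p : ℕ} (hp : p.Prime) (hodd : Odd p)
    (hf : orderOf f = p) (hx : x ^ 3 = 1) (hσ : σ * x * σ⁻¹ = x⁻¹) (hσf : σ * f * σ⁻¹ = f)
    (hc : Commute f (x * f * x⁻¹)) (hf2 : x * (x * f * x⁻¹) * x⁻¹ = (f * (x * f * x⁻¹))⁻¹)
    (hfpf : ∀ a ∈ closure ({f, x * f * x⁻¹} : Set H), Commute a x → a = 1)
    (hfix : ∀ e, φ x e = e → e = 1 ∨ e = u) (hne : ∃ e, φ f e ≠ e) : False := by
  classical
  haveI : Fact p.Prime := ⟨hp⟩
  set f1 := x * f * x⁻¹ with hf1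
  set A := closure ({f, f1} : Set H) with hA
  have hfA : f ∈ A := subset_closure (Set.mem_insert _ _)
  have hf1A : f1 ∈ A := subset_closure (Set.mem_insert_of_mem _ rfl)
  have hf1o : orderOf f1 = p := by
    rw [hf1, show x * f * x⁻¹ = MulAut.conj x f from rfl, MulEquiv.orderOf_eq, hf]
  -- elements of `A`
  have hrep : ∀ a ∈ A, ∃ i j : ℤ, a = f ^ i * f1 ^ j := by
    intro a ha
    induction ha using closure_induction with
    | mem y hy =>
      rcases hy with rfl | rfl
      · exact ⟨1, 0, by simp⟩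
      · exact ⟨0, 1, by simp⟩
    | one => exact ⟨0, 0, by simp⟩
    | mul y z _ _ hy hz =>
      obtain ⟨i, j, rfl⟩ := hy
      obtain ⟨k, l, rfl⟩ := hz
      refine ⟨i + k, j + l, ?_⟩
      rw [zpow_add, zpow_add, ((hc.zpow_zpow k j).symm).mul_mul_mul_comm]
    | inv y _ hy =>
      obtain ⟨i, j, rfl⟩ := hy
      exact ⟨-i, -j, by rw [mul_inv_rev, ← zpow_neg, ← zpow_neg, (hc.zpow_zpow _ _).eq]⟩
  have hcomm : ∀ a ∈ A, ∀ b ∈ A, Commute a b := by
    intro a ha b hb
    obtain ⟨i, j, rfl⟩ := hrep a ha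
    obtain ⟨k, l, rfl⟩ := hrep b hb
    exact ((Commute.zpow_zpow (Commute.refl f) i k).mul_right (hc.zpow_zpow i l)).mul_left
      ((hc.zpow_zpow k j).symm.mul_right (Commute.zpow_zpow (Commute.refl f1) j l))
  have hordA : ∀ a ∈ A, a ^ p = 1 := by
    intro a ha
    obtain ⟨i, j, rfl⟩ := hrep a ha
    rw [(hc.zpow_zpow i j).mul_pow, ← zpow_natCast, ← zpow_mul, mul_comm, zpow_mul, zpow_natCast,
      ← hf, pow_orderOf_eq_one, one_zpow, one_mul, ← zpow_natCast, ← zpow_mul, mul_comm j, zpow_mul,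
      zpow_natCast, hf, ← hf1o, pow_orderOf_eq_one, one_zpow]
  have hord : ∀ a ∈ A, a ≠ 1 → orderOf a = p := fun a ha ha1 =>
    orderOf_eq_prime (hordA a ha) ha1
  -- invariance
  have hxA : ∀ a ∈ A, x * a * x⁻¹ ∈ A := by
    intro a ha
    obtain ⟨i, j, rfl⟩ := hrep a ha
    rw [show x * (f ^ i * f1 ^ j) * x⁻¹ = (x * f ^ i * x⁻¹) * (x * f1 ^ j * x⁻¹) by group,
      ← conj_zpow, ← conj_zpow, hf2]
    exact mul_mem (zpow_mem hf1A i) (zpow_mem (inv_mem (mul_mem hfA hf1A)) j)
  have hx1 : x⁻¹ = x * x := inv_eq_of_mul_eq_one_right (by rw [← mul_assoc, ← pow_three', hx])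
  have hσf1 : σ * f1 * σ⁻¹ ∈ A := by
    rw [hf1, show σ * (x * f * x⁻¹) * σ⁻¹ = (σ * x * σ⁻¹) * (σ * f * σ⁻¹) * (σ * x * σ⁻¹)⁻¹ by group,
      hσ, hσf, hx1, show (x * x) * f * (x * x)⁻¹ = x * (x * f * x⁻¹) * x⁻¹ by group]
    exact hxA _ hf1A
  have hσA : ∀ a ∈ A, σ * a * σ⁻¹ ∈ A := by
    intro a ha
    obtain ⟨i, j, rfl⟩ := hrep a ha
    rw [show σ * (f ^ i * f1 ^ j) * σ⁻¹ = (σ * f ^ i * σ⁻¹) * (σ * f1 ^ j * σ⁻¹) by group,
      ← conj_zpow, ← conj_zpow, hσf]
    exact mul_mem (zpow_mem hfA i) (zpow_mem hσf1 j)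
  -- the cardinality
  have hcardle : Nat.card A ≤ p * p := by
    have hs : Function.Surjective (fun q : zpowers f × zpowers f1 =>
        (⟨(q.1 : H) * q.2, mul_mem (zpowers_le.2 hfA q.1.2) (zpowers_le.2 hf1A q.2.2)⟩ : A)) := by
      rintro ⟨a, ha⟩
      obtain ⟨i, j, rfl⟩ := hrep a ha
      exact ⟨(⟨f ^ i, zpow_mem (mem_zpowers _) _⟩, ⟨f1 ^ j, zpow_mem (mem_zpowers _) _⟩), rfl⟩
    refine (Nat.card_le_card_of_surjective _ hs).trans ?_
    rw [Nat.card_prod, Nat.card_zpowers, Nat.card_zpowers, hf, hf1o]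
  have hgen : ∀ a ∈ A, ∀ b ∈ A, a ≠ 1 → b ∉ zpowers a →
      ∀ c ∈ A, ∃ i j : ℤ, c = a ^ i * b ^ j := by
    intro a ha b hb ha1 hba
    let g : zpowers a × zpowers b → A :=
      fun q => ⟨(q.1 : H) * q.2, mul_mem (zpowers_le.2 ha q.1.2) (zpowers_le.2 hb q.2.2)⟩
    have hinj : Function.Injective g := by
      rintro ⟨⟨c, hc'⟩, ⟨d, hd⟩⟩ ⟨⟨c', hc''⟩, ⟨d', hd'⟩⟩ e
      have e' : c * d = c' * d' := congrArg Subtype.val e
      have hm : d * d'⁻¹ ∈ zpowers a := by
        rw [show d * d'⁻¹ = c⁻¹ * (c * d) * d'⁻¹ by group, e', mul_assoc, mul_assoc, mul_inv_cancel,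
          mul_one]
        exact mul_mem (inv_mem hc') hc''
      have hdd : d * d'⁻¹ = 1 := by
        by_contra hne'
        refine hba ?_
        obtain ⟨i, hi⟩ := mem_zpowers_iff.1 (mul_mem hd (inv_mem hd'))
        have hord' : orderOf (d * d'⁻¹) = p :=
          hord _ (mul_mem (zpowers_le.2 hb hd) (inv_mem (zpowers_le.2 hb hd'))) hne'
        have hb1 : b ≠ 1 := fun e => hba (e ▸ one_mem _)
        have hle : zpowers (d * d'⁻¹) = zpowers b := eq_of_le_of_card_ge
          (zpowers_le.2 (mul_mem hd (inv_mem hd'))) (by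
            rw [Nat.card_zpowers, Nat.card_zpowers, hord', hord b hb hb1])
        exact zpowers_le.2 hm (hle ▸ mem_zpowers b)
      rw [mul_inv_eq_one] at hdd
      subst hdd
      simp [mul_right_cancel e']
    have hb1 : b ≠ 1 := fun e => hba (e ▸ one_mem _)
    have hbij : Function.Bijective g := (Nat.bijective_iff_injective_and_card g).2 ⟨hinj, by
      have h1 := Nat.card_le_card_of_injective g hinj
      rw [Nat.card_prod, Nat.card_zpowers, Nat.card_zpowers, hord a ha ha1, hord b hb hb1] at h1 ⊢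
      omega⟩
    intro c hcA
    obtain ⟨⟨⟨c1, h1⟩, ⟨c2, h2⟩⟩, e⟩ := hbij.2 ⟨c, hcA⟩
    obtain ⟨i, rfl⟩ := mem_zpowers_iff.1 h1
    obtain ⟨j, rfl⟩ := mem_zpowers_iff.1 h2
    exact ⟨i, j, (congrArg Subtype.val e).symm⟩
  have := Fintype.ofFinite A
  have hcardodd : ∀ e : E, e ^ Nat.card A = 1 → e = 1 := by
    intro e he
    have hpg : IsPGroup p A := fun a => ⟨1, Subtype.ext (by simpa using hordA a a.2)⟩
    obtain ⟨k, hk⟩ := IsPGroup.iff_card.1 hpg
    obtain ⟨m, hm⟩ : Odd (Nat.card A) := hk ▸ hodd.pow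
    rw [hm, pow_succ, pow_mul, sq, hE, one_pow, one_mul] at he
    exact he
  let T : E → E := fun e => ∏ a : A, φ (a : H) e
  have Tconj : ∀ g : H, (∀ a ∈ A, g * a * g⁻¹ ∈ A) → ∀ e, φ g (T e) = T (φ g e) := by
    intro g hg e
    simp only [T, map_prod]
    let π : A → A := fun a => ⟨g * a * g⁻¹, hg a a.2⟩
    have hπ : Function.Injective π := fun a b e => Subtype.ext
      (mul_left_cancel (mul_right_cancel (congrArg Subtype.val e)))
    refine Fintype.prod_bijective π (Finite.injective_iff_bijective.mp hπ) _ _ fun a => ?_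
    rw [← MulAut.mul_apply, ← map_mul, ← MulAut.mul_apply, ← map_mul]
    congr 2
    simp only [π]; group
  have Tmul : ∀ e e', T (e * e') = T e * T e' := fun e e' => by
    simp only [T, map_mul, Finset.prod_mul_distrib]
  have T1 : T 1 = 1 := by simp [T]
  have TA : ∀ a ∈ A, ∀ e, T (φ a e) = T e := by
    intro a ha e
    simp only [T]
    refine Fintype.prod_equiv (Equiv.mulRight (⟨a, ha⟩ : A)) _ _ fun b => ?_
    simp
  have fixA : ∀ e, T e = 1 → (∀ a ∈ A, φ a e = e) → e = 1 := by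
    intro e he hfx
    refine hcardodd e ?_
    rw [← he]
    simp only [T]
    rw [Finset.prod_congr rfl fun (a : A) _ => hfx a a.2, Finset.prod_const, Finset.card_univ,
      Nat.card_eq_fintype_card]
  have fixgen : ∀ a ∈ A, ∀ b ∈ A, a ≠ 1 → b ∉ zpowers a → ∀ e, T e = 1 → φ a e = e → φ b e = e →
      e = 1 := by
    intro a ha b hb ha1 hba e he hea heb
    refine fixA e he fun c hcA => ?_
    obtain ⟨i, j, rfl⟩ := hgen a ha b hb ha1 hba c hcA
    have hz : ∀ (g : H), φ g e = e → ∀ i : ℤ, φ (g ^ i) e = e := fun g hg i => by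
      induction i using Int.induction_on with
      | zero => simp
      | succ n ih => rw [zpow_add_one, map_mul, MulAut.mul_apply, hg, ih]
      | pred n ih =>
        rw [zpow_sub_one, map_mul, MulAut.mul_apply]
        conv_lhs => rw [← hg]
        rw [show φ g⁻¹ (φ g e) = (φ g⁻¹ * φ g) e from rfl, ← map_mul, inv_mul_cancel, map_one]
        simpa using ih
    rw [map_mul, MulAut.mul_apply, hz b heb j, hz a hea i]
  -- averaging over a cyclic subgroup
  have avg : ∀ a ∈ A, ∀ e : E, φ a (∏ i ∈ Finset.range p, φ (a ^ i) e) = ∏ i ∈ Finset.range p, φ (a ^ i) e := by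
    intro a ha e
    have h1 : ∏ i ∈ Finset.range p, φ (a ^ (i + 1)) e = ∏ i ∈ Finset.range p, φ (a ^ i) e := by
      have e1 := Finset.prod_range_succ' (fun i => φ (a ^ i) e) p
      rw [Finset.prod_range_succ] at e1
      simp only [hordA a ha, pow_zero] at e1
      exact (mul_right_cancel e1).symm
    rw [map_prod]
    simp only [← MulAut.mul_apply, ← map_mul, ← pow_succ']
    exact h1
  have podd : ∀ e : E, e ^ p = e := fun e => by
    obtain ⟨m, hm⟩ := hodd
    rw [hm, pow_succ, pow_mul, sq, hE, one_pow, one_mul]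
  have Tavg : ∀ a ∈ A, ∀ e, T e = 1 → T (∏ i ∈ Finset.range p, φ (a ^ i) e) = 1 := by
    intro a ha e he
    have : T (∏ i ∈ Finset.range p, φ (a ^ i) e) = ∏ i ∈ Finset.range p, T (φ (a ^ i) e) := by
      induction (Finset.range p) using Finset.induction_on with
      | empty => simp [T1]
      | insert i s hi ih => rw [Finset.prod_insert hi, Finset.prod_insert hi, Tmul, ih]
    rw [this]
    exact Finset.prod_eq_one fun i _ => by rw [TA _ (pow_mem ha i), he]
  -- a vector in the kernel moved by `f`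
  obtain ⟨e0, he0⟩ := hne
  set d0 := e0 * φ f e0
  have hd0 : d0 ≠ 1 := fun h => he0 (by
    rw [eq_inv_of_mul_eq_one_right h, inv_eq_of_mul_eq_one_right (hE e0)])
  have hTd0 : T d0 = 1 := by rw [Tmul, TA f hfA, hE]
  -- a fixed vector
  obtain ⟨a, ha, ha1, c, hcT, hc1, hca⟩ :
      ∃ a ∈ A, a ≠ 1 ∧ ∃ c, T c = 1 ∧ c ≠ 1 ∧ φ a c = c := by
    by_contra hno
    push Not at hno
    have hzero : ∀ a ∈ A, a ≠ 1 → ∀ e, T e = 1 → ∏ i ∈ Finset.range p, φ (a ^ i) e = 1 := by
      intro a ha ha1 e he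
      by_contra hne'
      exact hno a ha ha1 _ (Tavg a ha e he) hne' (avg a ha e)
    have hff1 : f1 ∉ zpowers f := fun hm => by
      obtain ⟨i, hi⟩ := mem_zpowers_iff.1 hm
      -- `x` would centralize `f`
      have h2 : f1 = x⁻¹ * f * x := by
        calc f1 = (σ * f1 * σ⁻¹) := by rw [← hi, ← conj_zpow, hσf]
          _ = _ := by rw [hf1, show σ * (x * f * x⁻¹) * σ⁻¹ = (σ * x * σ⁻¹) * (σ * f * σ⁻¹) *
                (σ * x * σ⁻¹)⁻¹ by group, hσ, hσf, inv_inv]
      have h3 : Commute f x := by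
        have hxx : Commute f (x * x) := by
          show f * (x * x) = x * x * f
          calc f * (x * x) = x * (x⁻¹ * f * x) * x := by group
            _ = x * (x * f * x⁻¹) * x := by rw [← h2]
            _ = x * x * f := by group
        have : x = (x * x) * (x * x) := by
          calc x = x ^ 3 * x := by rw [hx, one_mul]
            _ = _ := by simp only [pow_three, mul_assoc]
        rw [this]; exact hxx.mul_right hxx
      have := hfpf f hfA h3
      rw [this, orderOf_one] at hf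
      exact hp.one_lt.ne hf
    have h1 : ∀ i ∈ Finset.range p, ∏ j ∈ Finset.range p, φ ((f * f1 ^ i) ^ j) d0 = 1 := fun i _ =>
      hzero _ (mul_mem hfA (pow_mem hf1A i)) (fun e => hff1 (by
        have hf1i : f = (f1 ^ i)⁻¹ := eq_inv_of_mul_eq_one_left e
        have hmem : f ∈ zpowers f1 := hf1i ▸ inv_mem (pow_mem (mem_zpowers f1) i)
        have : zpowers f = zpowers f1 := eq_of_le_of_card_ge (zpowers_le.2 hmem)
          (by rw [Nat.card_zpowers, Nat.card_zpowers, hf, hf1o])
        exact this ▸ mem_zpowers f1)) d0 hTd0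
    have h2 := Finset.prod_eq_one h1
    rw [Finset.prod_comm, ← Finset.prod_erase_mul _ _ (Finset.mem_range.2 hp.pos)] at h2
    have h3 : ∀ j ∈ (Finset.range p).erase 0, ∏ i ∈ Finset.range p, φ ((f * f1 ^ i) ^ j) d0 = 1 := by
      intro j hj
      simp only [Finset.mem_erase, Finset.mem_range] at hj
      have e : ∀ i : ℕ, φ ((f * f1 ^ i) ^ j) d0 = φ (f ^ j) (φ ((f1 ^ j) ^ i) d0) := fun i => by
        rw [(hc.pow_right i).mul_pow, map_mul φ, MulAut.mul_apply, ← pow_mul, ← pow_mul, mul_comm i]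
      rw [Finset.prod_congr rfl fun i _ => e i, ← map_prod,
        hzero _ (pow_mem hf1A j) (fun e' => by
          have := Nat.le_of_dvd (Nat.pos_of_ne_zero hj.1) (orderOf_dvd_of_pow_eq_one e')
          omega) d0 hTd0, map_one]
    rw [Finset.prod_eq_one h3, one_mul] at h2
    simp only [pow_zero, map_one, MulAut.one_apply, Finset.prod_const, Finset.card_range] at h2
    exact hd0 ((podd d0).symm.trans h2)
  set a' := x * a * x⁻¹ with ha'
  set a'' := x * a' * x⁻¹ with ha''
  have ha'A : a' ∈ A := hxA a ha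
  have ha''A : a'' ∈ A := hxA a' ha'A
  let Tx : E → E := fun e => e * φ x e * φ x (φ x e)
  have hTx : ∀ e, φ x (Tx e) = Tx e := by
    intro e
    have hxxx : φ x (φ x (φ x e)) = e := by
      rw [← MulAut.mul_apply, ← map_mul, ← MulAut.mul_apply, ← map_mul, mul_assoc, ← pow_three, hx,
        map_one, MulAut.one_apply]
    simp only [Tx, map_mul, hxxx]
    rw [mul_comm (φ x e * φ x (φ x e)) e, ← mul_assoc]
  have hu : ∀ e, Tx e ≠ 1 → Tx e = u := fun e h => (hfix _ (hTx e)).resolve_left h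
  by_cases hline : a' ∈ zpowers a
  · -- an invariant line
    have key : ∀ b ∈ A, b ≠ 1 → x * b * x⁻¹ ∈ zpowers b → ∀ e, T e = 1 → e ≠ 1 → φ b e = e →
        φ b u = u ∧ T u = 1 ∧ u ≠ 1 := by
      intro b hb hb1 hbx e he he1 heb
      have hbinv : ∀ (g : E), φ b g = g → φ b (φ x g) = φ x g := by
        intro g hg
        obtain ⟨i, hi⟩ : x⁻¹ * b * x ∈ zpowers b := by
          obtain ⟨m, hm⟩ := mem_zpowers_iff.1 hbx
          have h2 : x * (x * b * x⁻¹) * x⁻¹ = (b ^ m) ^ m := by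
            rw [← hm, ← conj_zpow, ← hm]
          rw [show x⁻¹ * b * x = x * (x * b * x⁻¹) * x⁻¹ by
            calc x⁻¹ * b * x = x⁻¹ * b * (x⁻¹)⁻¹ := by group
              _ = (x * x) * b * (x * x)⁻¹ := by rw [hx1]
              _ = _ := by group, h2]
          exact zpow_mem (zpow_mem (mem_zpowers b) m) m
        have hz : φ (b ^ i) g = g := by
          clear hi
          induction i using Int.induction_on with
          | zero => simp
          | succ n ih => rw [zpow_add_one, map_mul, MulAut.mul_apply, hg, ih]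
          | pred n ih =>
            rw [zpow_sub_one, map_mul, MulAut.mul_apply]
            conv_lhs => rw [← hg]
            rw [show φ b⁻¹ (φ b g) = (φ b⁻¹ * φ b) g from rfl, ← map_mul, inv_mul_cancel, map_one]
            simpa using ih
        have hi' : b ^ i = x⁻¹ * b * x := hi
        rw [hi'] at hz
        calc φ b (φ x g) = φ x (φ (x⁻¹ * b * x) g) := by
              rw [← MulAut.mul_apply, ← map_mul, ← MulAut.mul_apply, ← map_mul]
              congr 2; group
          _ = φ x g := by rw [hz]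
      obtain ⟨k, hk, hk'⟩ : ∃ k ∈ A, Tx (φ k e) ≠ 1 := by
        by_contra hno
        push Not at hno
        have := sum_trick φ hx A hxA hfpf e (fun k hk => by
          rw [map_mul, MulAut.mul_apply]; exact hno k hk)
        refine he1 (fixA e he fun j hj => ?_)
        obtain ⟨m, hm⟩ : Odd (Nat.card A) := by
          have hpg : IsPGroup p A := fun c => ⟨1, Subtype.ext (by simpa using hordA c c.2)⟩
          obtain ⟨k, hk⟩ := IsPGroup.iff_card.1 hpg
          exact hk ▸ hodd.pow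
        have h' := this j hj
        rwa [hm, pow_succ, pow_mul, sq, hE, one_pow, one_mul] at h'
      have hkb : φ b (φ k e) = φ k e := by
        rw [← MulAut.mul_apply, ← map_mul, (hcomm b hb k hk).eq, map_mul, MulAut.mul_apply, heb]
      have hu' := hu _ hk'
      refine ⟨?_, ?_, hu' ▸ hk'⟩
      · rw [← hu']
        simp only [Tx, map_mul, hkb, hbinv _ hkb, hbinv _ (hbinv _ hkb)]
      · rw [← hu']
        simp only [Tx]
        simp only [Tmul, ← Tconj x hxA, TA k hk, he, map_one, one_mul]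
    obtain ⟨hau, hTu, hu1⟩ := key a ha ha1 hline c hcT hc1 hca
    set a2 := σ * a * σ⁻¹ with ha2
    have ha2A : a2 ∈ A := hσA a ha
    have ha2x : x * a2 * x⁻¹ ∈ zpowers a2 := by
      obtain ⟨m, hm⟩ := mem_zpowers_iff.1 hline
      have hxinv : x⁻¹ * a * x = (a ^ m) ^ m := by
        calc x⁻¹ * a * x = x⁻¹ * a * (x⁻¹)⁻¹ := by group
          _ = (x * x) * a * (x * x)⁻¹ := by rw [hx1]
          _ = x * (x * a * x⁻¹) * x⁻¹ := by group
          _ = (x * a * x⁻¹) ^ m := by rw [conj_zpow, hm]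
          _ = _ := by rw [← ha', ← hm]
      have hσ' : σ⁻¹ * x * σ = x⁻¹ := by
        calc σ⁻¹ * x * σ = σ⁻¹ * (σ * x⁻¹ * σ⁻¹) * σ := by
              rw [show σ * x⁻¹ * σ⁻¹ = (σ * x * σ⁻¹)⁻¹ by group, hσ, inv_inv]
          _ = x⁻¹ := by group
      rw [show x * a2 * x⁻¹ = σ * ((σ⁻¹ * x * σ) * a * (σ⁻¹ * x * σ)⁻¹) * σ⁻¹ by rw [ha2]; group,
        hσ', inv_inv, hxinv, ← conj_zpow, ← conj_zpow]
      exact zpow_mem (zpow_mem (mem_zpowers _) m) m
    have ha21 : a2 ≠ 1 := fun e => ha1 (conj_eq_one_iff.1 e)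
    obtain ⟨hau2, -, -⟩ := key a2 ha2A ha21 ha2x (φ σ c)
      (by rw [← Tconj σ hσA, hcT, map_one]) (fun e => hc1 ((map_eq_one_iff _ (φ σ).injective).1 e))
      (by rw [ha2, map_mul, map_mul, map_inv, MulAut.mul_apply, MulAut.mul_apply,
        MulAut.inv_apply_self, hca])
    by_cases hsame : a2 ∈ zpowers a
    · obtain ⟨m, hm⟩ := mem_zpowers_iff.1 hline
      obtain ⟨n, hn⟩ := mem_zpowers_iff.1 hsame
      have hpow : ∀ (g : H) (k : ℤ), g * a * g⁻¹ = a ^ k → ∀ i : ℤ, g * a ^ i * g⁻¹ = a ^ (k * i) := by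
        intro g k hg i
        rw [← conj_zpow, hg, ← zpow_mul]
      have e1 : x * (σ * a * σ⁻¹) * x⁻¹ = σ * (x * a * x⁻¹) * σ⁻¹ := by
        rw [← ha2, ← ha', ← hn, ← hm, hpow x m hm.symm, hpow σ n hn.symm, mul_comm]
      have hσ' : σ⁻¹ * x * σ = x⁻¹ := by
        calc σ⁻¹ * x * σ = σ⁻¹ * (σ * x⁻¹ * σ⁻¹) * σ := by
              rw [show σ * x⁻¹ * σ⁻¹ = (σ * x * σ⁻¹)⁻¹ by group, hσ, inv_inv]
          _ = x⁻¹ := by group
      have e2 : x⁻¹ * a * x = x * a * x⁻¹ := by
        calc x⁻¹ * a * x = σ⁻¹ * (x * (σ * a * σ⁻¹) * x⁻¹) * σ := by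
              rw [show σ⁻¹ * (x * (σ * a * σ⁻¹) * x⁻¹) * σ = (σ⁻¹ * x * σ) * a * (σ⁻¹ * x * σ)⁻¹ by group,
                hσ', inv_inv]
          _ = x * a * x⁻¹ := by rw [e1]; group
      refine ha1 (hfpf a ha ?_)
      have hxx : Commute a (x * x) := by
        show a * (x * x) = x * x * a
        calc a * (x * x) = x * (x⁻¹ * a * x) * x := by group
          _ = x * x * a := by rw [e2]; group
      have : x = (x * x) * (x * x) := by
        calc x = x ^ 3 * x := by rw [hx, one_mul]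
          _ = _ := by simp only [pow_three, mul_assoc]
      rw [this]; exact hxx.mul_right hxx
    · exact hu1 (fixgen a ha a2 ha2A ha1 hsame u hTu hau hau2)
  · -- three lines
    have hline2 : a'' ∉ zpowers a := fun hm => hline (by
      have hmem : a ∈ zpowers a'' := by
        have ha''1 : a'' ≠ 1 := fun e => ha1 (conj_eq_one_iff.1 (conj_eq_one_iff.1 e))
        have heq : zpowers a'' = zpowers a := eq_of_le_of_card_ge (zpowers_le.2 hm)
          (by rw [Nat.card_zpowers, Nat.card_zpowers, hord a ha ha1, hord a'' ha''A ha''1])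
        exact heq ▸ mem_zpowers a
      obtain ⟨i, hi⟩ := mem_zpowers_iff.1 hmem
      have h4 : x * a'' * x⁻¹ = a := by
        calc x * a'' * x⁻¹ = x ^ 3 * a * (x ^ 3)⁻¹ := by simp only [ha'', ha', pow_three]; group
          _ = a := by rw [hx]; group
      have : a' = a ^ i := by
        calc a' = x * (a'' ^ i) * x⁻¹ := by rw [hi]
          _ = a ^ i := by rw [← conj_zpow, h4]
      exact this ▸ zpow_mem (mem_zpowers a) i)
    have inj : ∀ g, T g = 1 → φ a g = g → Tx g = 1 → g = 1 := by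
      intro g hg hag hgx
      have hTxg : T (φ x g) = 1 := by rw [← Tconj x hxA, hg, map_one]
      have hTxxg : T (φ x (φ x g)) = 1 := by rw [← Tconj x hxA, hTxg, map_one]
      have hf' : φ a' (φ x g) = φ x g := by
        rw [← MulAut.mul_apply, ← map_mul, show a' * x = x * a by rw [ha']; group, map_mul,
          MulAut.mul_apply, hag]
      have hf'' : φ a'' (φ x (φ x g)) = φ x (φ x g) := by
        rw [← MulAut.mul_apply, ← map_mul, show a'' * x = x * a' by rw [ha'']; group, map_mul,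
          MulAut.mul_apply, hf']
      have hzero : ∀ b ∈ A, b ∉ zpowers a → ∀ d, T d = 1 → φ b d = d →
          ∏ i ∈ Finset.range p, φ (a ^ i) d = 1 := by
        intro b hb hba d hd hbd
        refine fixgen a ha b hb ha1 hba _ (Tavg a ha d hd) (avg a ha d) ?_
        rw [map_prod]
        refine Finset.prod_congr rfl fun i _ => ?_
        rw [← MulAut.mul_apply, ← map_mul, (hcomm b hb _ (pow_mem ha i)).eq, map_mul, MulAut.mul_apply,
          hbd]
      have h1 : ∏ i ∈ Finset.range p, φ (a ^ i) (g * φ x g * φ x (φ x g)) = 1 := by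
        change ∏ i ∈ Finset.range p, φ (a ^ i) (Tx g) = 1
        rw [hgx]; simp
      simp only [map_mul, Finset.prod_mul_distrib, hzero a' ha'A hline _ hTxg hf',
        hzero a'' ha''A hline2 _ hTxxg hf'', mul_one] at h1
      have hgi : ∀ i : ℕ, φ (a ^ i) g = g := fun i => by
        induction i with
        | zero => simp
        | succ n ih => rw [pow_succ, map_mul, MulAut.mul_apply, hag, ih]
      simp only [hgi, Finset.prod_const, Finset.card_range, podd] at h1
      exact h1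
    refine hc1 (fixA c hcT fun b hb => ?_)
    have h1 : φ a (φ b c) = φ b c := by
      rw [← MulAut.mul_apply, ← map_mul, (hcomm a ha b hb).eq, map_mul, MulAut.mul_apply, hca]
    have h2 : T (φ b c) = 1 := by rw [TA b hb, hcT]
    have hbc1 : φ b c ≠ 1 := fun e => hc1 ((map_eq_one_iff _ (φ b).injective).1 e)
    have u1 := hu c fun e => hc1 (inj c hcT hca e)
    have u2 := hu (φ b c) fun e => hbc1 (inj _ h2 h1 e)
    have hp' : φ b c * c = 1 := by
      refine inj _ (by rw [Tmul, h2, hcT, one_mul]) (by rw [map_mul, h1, hca]) ?_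
      have e : Tx (φ b c * c) = Tx (φ b c) * Tx c := by
        simp only [Tx, map_mul]
        simp [mul_comm, mul_left_comm, mul_assoc]
      rw [e, u1, u2, hE]
    rw [eq_inv_of_mul_eq_one_left hp', inv_eq_of_mul_eq_one_right (hE c)]

end Cfsg.Agent.SelfCentSix
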