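import Cfsg.Agent.Lib.SelfCentSix.Small

/-!
# Surjections from the centralizer of the involution

* `pre θ V` : the preimage in `G` of a subgroup under `θ : C_G(u) →* F`
* `lift_three` : lifts of elements of order three
* `Hyp.exists_invert` : an element of `C_G(u)` of 2-power order inverting `x`
-/

set_option autoImplicit false
set_option linter.unusedSectionVars false
set_option linter.style.haveILetI false

namespace Cfsg.Agent.SelfCentSix

open Subgroup SelfCentThree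

variable {G : Type*} [Group G] [Finite G] {u x : G} {F : Type*} [Group F]

/-- The preimage in `G`. -/
def pre (θ : Cu u →* F) (V : Subgroup F) : Subgroup G := (V.comap θ).map (Cu u).subtype

theorem mem_pre {θ : Cu u →* F} {V : Subgroup F} {g : G} :
    g ∈ pre θ V ↔ ∃ hg : g ∈ Cu u, θ ⟨g, hg⟩ ∈ V := by
  constructor
  · rintro ⟨a, ha, rfl⟩
    exact ⟨a.2, ha⟩
  · rintro ⟨hg, ha⟩
    exact ⟨⟨g, hg⟩, ha, rfl⟩

theorem pre_le {θ : Cu u →* F} {V : Subgroup F} : pre θ V ≤ Cu u := fun _ hg => (mem_pre.1 hg).1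

theorem coe_mem_pre {θ : Cu u →* F} {V : Subgroup F} {a : Cu u} : (a : G) ∈ pre θ V ↔ θ a ∈ V :=
  mem_pre.trans ⟨fun ⟨_, h⟩ => h, fun h => ⟨a.2, h⟩⟩

theorem card_pre {θ : Cu u →* F} (hθ : Function.Surjective θ) (V : Subgroup F) :
    Nat.card (pre θ V) = Nat.card θ.ker * Nat.card V := by
  rw [pre, card_map_of_injective (Cu u).subtype_injective]
  let f : V.comap θ →* V := (θ.comp (V.comap θ).subtype).codRestrict V fun a => a.2
  have hf : Function.Surjective f := by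
    rintro ⟨v, hv⟩
    obtain ⟨a, rfl⟩ := hθ v
    exact ⟨⟨a, hv⟩, rfl⟩
  rw [← f.ker.card_mul_index, index_ker, MonoidHom.range_eq_top.2 hf, card_top]
  congr 1
  refine Nat.card_congr
    { toFun := fun a => ⟨(a.1 : Cu u), congrArg Subtype.val a.2⟩
      invFun := fun a => ⟨⟨a, by
        show θ a ∈ V
        rw [MonoidHom.mem_ker.1 a.2]; exact one_mem V⟩, Subtype.ext a.2⟩
      left_inv := fun a => rfl
      right_inv := fun a => rfl }

theorem card_cu {θ : Cu u →* F} (hθ : Function.Surjective θ) :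
    Nat.card (Cu u) = Nat.card θ.ker * Nat.card F := by
  rw [← θ.ker.card_mul_index, index_ker, MonoidHom.range_eq_top.2 hθ, card_top]

theorem pre_conj {θ : Cu u →* F} {V : Subgroup F} {c : Cu u}
    (hc : ∀ v ∈ V, θ c * v * (θ c)⁻¹ ∈ V) {a : G} (ha : a ∈ pre θ V) :
    (c : G) * a * (c : G)⁻¹ ∈ pre θ V := by
  obtain ⟨haC, haV⟩ := mem_pre.1 ha
  refine mem_pre.2 ⟨mul_mem (mul_mem c.2 haC) (inv_mem c.2), ?_⟩
  have : θ (c * ⟨a, haC⟩ * c⁻¹) ∈ V := by rw [map_mul, map_mul, map_inv]; exact hc _ haV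
  exact this

theorem pre_normal {θ : Cu u →* F} {V : Subgroup F} [V.Normal] {c : G} (hc : c ∈ Cu u) {a : G}
    (ha : a ∈ pre θ V) : c * a * c⁻¹ ∈ pre θ V :=
  pre_conj (c := ⟨c, hc⟩) (fun v hv => (inferInstance : V.Normal).conj_mem v hv _) ha

theorem ker_le_pre {θ : Cu u →* F} {V : Subgroup F} {a : Cu u} (ha : a ∈ θ.ker) :
    (a : G) ∈ pre θ V := coe_mem_pre.2 (by rw [MonoidHom.mem_ker.1 ha]; exact one_mem V)

/-- Elements of order three lift. -/
theorem lift_three {θ : Cu u →* F} (hθ : Function.Surjective θ) (hker : ¬ 3 ∣ Nat.card θ.ker) {τ : F}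
    (hτ : orderOf τ = 3) : ∃ g : Cu u, orderOf (g : G) = 3 ∧ θ g = τ := by
  obtain ⟨c, rfl⟩ := hθ τ
  set m := Nat.card θ.ker
  obtain ⟨j, hj⟩ : ∃ j, m * m = 3 * j + 1 := by
    refine ⟨m * m / 3, ?_⟩
    have : m % 3 = 1 ∨ m % 3 = 2 := by omega
    have hmm : m * m % 3 = 1 := by
      rcases this with e | e <;> rw [Nat.mul_mod, e]
    omega
  have h3 : (θ c) ^ 3 = 1 := by rw [← hτ, pow_orderOf_eq_one]
  have hc3 : c ^ 3 ∈ θ.ker := by rw [MonoidHom.mem_ker, map_pow, h3]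
  have hθg : θ (c ^ (m * m)) = θ c := by rw [map_pow, hj, pow_succ, pow_mul, h3, one_pow, one_mul]
  refine ⟨c ^ (m * m), ?_, hθg⟩
  rw [Subgroup.orderOf_coe]
  refine orderOf_eq_prime (hp := ⟨Nat.prime_three⟩) ?_ fun e => ?_
  · have h1 := congrArg Subtype.val (pow_card_eq_one' (x := (⟨_, hc3⟩ : θ.ker)))
    simp only [SubgroupClass.coe_pow, OneMemClass.coe_one] at h1
    rw [← pow_mul, mul_comm, pow_mul, pow_mul, show (c ^ 3) ^ m = 1 from h1, one_pow]
  · rw [e, map_one] at hθg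
    rw [← hθg, orderOf_one] at hτ
    omega

/-- The natural image of `x` in the quotient by a subgroup containing `⟨u⟩`. -/
theorem Hyp.exists_invert (h : Hyp u x) {N : Subgroup (Cu u ⧸ Zc u)} (hN : ¬ 3 ∣ Nat.card N)
    [N.Normal] {n : Cu u}
    (hn : pr u n * pr u ⟨x, h.x_mem⟩ * (pr u n)⁻¹ * pr u ⟨x, h.x_mem⟩ ∈ N) :
    ∃ s ∈ Cu u, s * x * s⁻¹ = x⁻¹ ∧ (∃ a : ℕ, s ^ 2 ^ a = 1) ∧ s * s ∈ zpowers u := by
  set X := pr u ⟨x, h.x_mem⟩ with hX
  obtain ⟨g, -, hg⟩ := h.sc.symm.exists_conj_eq hN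
    (fun a ha => (inferInstance : N.Normal).conj_mem a ha _) hn
  rw [← hX, mul_inv_cancel_right] at hg
  obtain ⟨g, rfl⟩ := QuotientGroup.mk'_surjective (Zc u) g
  have e : pr u (g⁻¹ * n) * X * (pr u (g⁻¹ * n))⁻¹ = X⁻¹ := by
    rw [map_mul, map_inv]
    calc (pr u g)⁻¹ * pr u n * X * ((pr u g)⁻¹ * pr u n)⁻¹
        = (pr u g)⁻¹ * (pr u n * X * (pr u n)⁻¹) * pr u g := by group
      _ = _ := by rw [← hg]; group
  set c : G := ((g⁻¹ * n : Cu u) : G) with hcd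
  have hcC : c ∈ Cu u := (g⁻¹ * n).2
  have hz : c * x * c⁻¹ * x ∈ zpowers u := by
    have : pr u ((g⁻¹ * n) * ⟨x, h.x_mem⟩ * (g⁻¹ * n)⁻¹ * ⟨x, h.x_mem⟩) = 1 := by
      rw [map_mul, map_mul (pr u) (g⁻¹ * n * ⟨x, h.x_mem⟩), map_mul (pr u) (g⁻¹ * n), map_inv, ← hX,
        e, inv_mul_cancel]
    exact pr_eq_one.1 this
  have hcx : c * x * c⁻¹ = x⁻¹ := by
    rcases h.mem_Z_iff.1 hz with e' | e'
    · exact eq_inv_of_mul_eq_one_left e'
    · exfalso
      have e1 : c * x * c⁻¹ = u * x⁻¹ := eq_mul_inv_of_mul_eq e'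
      have h1 : (c * x * c⁻¹) ^ 3 = 1 := by rw [conj_pow, h.x3]; group
      rw [e1, h.comm.inv_right.mul_pow, inv_pow, h.x3, inv_one, mul_one, pow_three, h.u2, mul_one] at h1
      exact h.u_ne h1
  have hcc : Commute (c * c) x := mul_inv_eq_iff_eq_mul.1 (by
    calc c * c * x * (c * c)⁻¹ = c * (c * x * c⁻¹) * c⁻¹ := by group
      _ = c * x⁻¹ * c⁻¹ := by rw [hcx]
      _ = (c * x * c⁻¹)⁻¹ := by group
      _ = x := by rw [hcx, inv_inv])
  obtain ⟨a, m, hm, hcm⟩ := Nat.exists_eq_two_pow_mul_odd (orderOf_pos c).ne'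
  obtain ⟨k, rfl⟩ := hm
  refine ⟨c ^ (2 * k + 1), pow_mem hcC _, ?_, ⟨a, ?_⟩, ?_⟩
  · have hk : Commute ((c * c) ^ k) x⁻¹ := (hcc.pow_left k).inv_right
    rw [pow_succ, pow_mul, sq]
    calc (c * c) ^ k * c * x * ((c * c) ^ k * c)⁻¹
        = (c * c) ^ k * (c * x * c⁻¹) * ((c * c) ^ k)⁻¹ := by group
      _ = x⁻¹ := by rw [hcx, hk.eq, mul_inv_cancel_right]
  · rw [← pow_mul, mul_comm, ← hcm, pow_orderOf_eq_one]
  · set s := c ^ (2 * k + 1) with hs
    have hsC : s ∈ Cu u := pow_mem hcC _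
    have hs2 : s ^ 2 ^ a = 1 := by rw [hs, ← pow_mul, mul_comm, ← hcm, pow_orderOf_eq_one]
    have hsx : Commute (s * s) x := by
      rw [hs, ← pow_add, ← two_mul, pow_mul, sq]
      exact Commute.pow_left hcc _
    obtain ⟨z, hz', b, hb, e'⟩ := h.cent _ (mem_Cu.1 (mul_mem hsC hsC)) hsx
    have hb1 : b = 1 := by
      have hzb : Commute z b := (h.Z_comm (zpowers_le.2 h.x_mem hb) hz').symm
      have hb' : b = z⁻¹ * (s * s) := by rw [e', inv_mul_cancel_left]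
      have h8 : b ^ 2 ^ (a + 1) = 1 := by
        have hzz : (z⁻¹) ^ 2 ^ (a + 1) = 1 := by
          have : z⁻¹ * z⁻¹ = 1 := by
            rcases h.mem_Z_iff.1 hz' with rfl | rfl
            · simp
            · rw [h.u_inv, h.u2]
          rw [pow_succ', pow_mul, sq, this, one_pow]
        rw [hb', ((h.Z_comm (mul_mem hsC hsC) (inv_mem hz')).symm).mul_pow, hzz, one_mul,
          (Commute.refl s).mul_pow, show s ^ 2 ^ (a + 1) = 1 by rw [pow_succ, pow_mul, hs2, one_pow],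
          one_mul]
      refine orderOf_eq_one_iff.1 (Nat.eq_one_of_dvd_coprimes
        (Nat.Coprime.pow_left _ (by norm_num)) (orderOf_dvd_of_pow_eq_one h8)
        (h.ordx ▸ orderOf_dvd_of_mem_zpowers hb))
    rw [e', hb1, mul_one]
    exact hz'

end Cfsg.Agent.SelfCentSix
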