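import Cfsg.Agent.Lib.SelfCentSix.Top
import Cfsg.Agent.Lib.SelfCentSix.Frame

/-!
# An invariant subgroup of order eight

* `Hyp.of_three` : every element of order three of `C_G(u)` may replace `x`
* `Hyp.squares` : an `x`-invariant subgroup of order 8 is elementary or has the squares of a quaternion group
* `Small.quat` : under a reflection in a Sylow subgroup of order 16 it is quaternion and the reflection
  has order two
-/

set_option autoImplicit false
set_option linter.unusedSectionVars false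
set_option linter.style.haveILetI false

namespace Cfsg.Agent.SelfCentSix

open Subgroup SelfCentThree
open scoped commutatorElement

variable {G : Type*} [Group G] [Finite G] {u x : G}

theorem Hyp.of_three (h : Hyp u x) {g : G} (hg : g ∈ Cu u) (ho : orderOf g = 3) : Hyp u g := by
  obtain ⟨c, hc, hcase⟩ := h.three_conj hg ho
  refine ⟨h.simple, h.nonab, h.fused, h.ordu, ho, (mem_Cu.1 hg).symm, fun k hku hkg => ?_⟩
  have hcu : c * u * c⁻¹ = u := by rw [(mem_Cu.1 hc).eq, mul_inv_cancel_right]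
  have hx : Commute (c⁻¹ * k * c) x := by
    have hh : Commute k (c * x * c⁻¹) := by
      rcases hcase with e | e
      · exact e ▸ hkg
      · have := (e ▸ hkg : Commute k (c * x⁻¹ * c⁻¹)).inv_right
        rwa [show (c * x⁻¹ * c⁻¹)⁻¹ = c * x * c⁻¹ by group] at this
    show c⁻¹ * k * c * x = x * (c⁻¹ * k * c)
    calc c⁻¹ * k * c * x = c⁻¹ * (k * (c * x * c⁻¹)) * c := by group
      _ = c⁻¹ * ((c * x * c⁻¹) * k) * c := by rw [hh.eq]
      _ = _ := by group
  obtain ⟨a, ha, b, hb, e⟩ :=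
    h.cent _ (mem_Cu.1 (mul_mem (mul_mem (inv_mem hc) (mem_Cu.2 hku)) hc)) hx
  refine ⟨a, ha, c * b * c⁻¹, ?_, ?_⟩
  · obtain ⟨i, rfl⟩ := mem_zpowers_iff.1 hb
    rcases hcase with e' | e'
    · exact mem_zpowers_iff.2 ⟨i, by rw [e', conj_zpow]⟩
    · exact mem_zpowers_iff.2 ⟨-i, by rw [e', conj_zpow, inv_zpow', neg_neg]⟩
  · calc k = c * (c⁻¹ * k * c) * c⁻¹ := by group
      _ = c * a * c⁻¹ * (c * b * c⁻¹) := by rw [e]; group
      _ = _ := by rw [(h.Z_comm hc ha).eq, mul_inv_cancel_right]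

namespace Hyp

section eight

variable (h : Hyp u x) {T : Subgroup G} (hT : T ≤ Cu u) (hcard : Nat.card T = 8) (hinv : Invar x T)
  (huT : u ∈ T)
include h hT hcard hinv huT

theorem three_eight : ¬ 3 ∣ Nat.card T := by rw [hcard]; norm_num

theorem bar_eight : Nat.card (Hyp.bar u T) = 4 := by
  have := (h.card_le_bar hT).2 huT
  omega

theorem sq_mem {q : G} (hq : q ∈ T) : q * q ∈ zpowers u := by
  have h4 := h.bar_eight hT hcard hinv huT
  have hq' : (pr u ⟨q, hT hq⟩) ^ 4 = 1 := by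
    have := pow_card_eq_one' (x := (⟨_, Hyp.pr_mem_bar (a := ⟨q, hT hq⟩) hq⟩ : Hyp.bar u T))
    rw [h4] at this
    simpa using congrArg Subtype.val this
  -- the square is fixed by `x`, as the bar group has at most four elements
  by_contra hne
  have hfix : x * (q * q) * x⁻¹ * (q * q)⁻¹ ∈ zpowers u := by
    set Q0 : Subgroup (Cu u ⧸ Zc u) := zpowers (pr u ⟨q, hT hq⟩)
    have hQ0 : Q0 = Hyp.bar u T := by
      refine eq_of_le_of_card_ge (zpowers_le.2 (Hyp.pr_mem_bar hq)) ?_
      have ho : orderOf (pr u ⟨q, hT hq⟩) = 2 ^ (1 + 1) := by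
        refine orderOf_eq_prime_pow (hp := ⟨Nat.prime_two⟩) (fun e => hne ?_) hq'
        rw [pow_one, sq, ← map_mul, pr_eq_one] at e
        exact e
      rw [Nat.card_zpowers, ho, h4]
      norm_num
    obtain ⟨i, hi⟩ := mem_zpowers_iff.1 (hQ0 ▸ Hyp.pr_mem_bar (a := ⟨x * q * x⁻¹, hT (hinv q hq)⟩)
      (hinv q hq) : pr u ⟨x * q * x⁻¹, hT (hinv q hq)⟩ ∈ Q0)
    set p := pr u ⟨q, hT hq⟩
    have hp4 : p ^ (4 : ℤ) = 1 := by exact_mod_cast hq'
    have e2 : (p ^ i) * (p ^ i) = p * p ∨ (p ^ i) * (p ^ i) = 1 := by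
      rcases Int.even_or_odd i with ⟨k, hk⟩ | ⟨k, hk⟩
      · right
        rw [← zpow_add, hk, show k + k + (k + k) = 4 * k by ring, zpow_mul, hp4, one_zpow]
      · left
        rw [← zpow_add, hk, show 2 * k + 1 + (2 * k + 1) = 4 * k + 2 by ring, zpow_add, zpow_mul, hp4,
          one_zpow, one_mul, zpow_two]
    rw [hi, ← map_mul, ← map_mul, pr_eq, pr_eq_one] at e2
    rcases e2 with e | e
    · change ((x * q * x⁻¹) * (x * q * x⁻¹))⁻¹ * (q * q) ∈ zpowers u at e
      have e' := inv_mem e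
      rw [mul_inv_rev, inv_inv] at e'
      have hc : q * q * ((q * q)⁻¹ * (x * q * x⁻¹ * (x * q * x⁻¹))) * (q * q)⁻¹ ∈ zpowers u := by
        rw [(h.Z_comm (hT (mul_mem hq hq)) e').eq, mul_inv_cancel_right]; exact e'
      convert hc using 1
      group
    · exfalso
      change (x * q * x⁻¹) * (x * q * x⁻¹) ∈ zpowers u at e
      refine hne ?_
      rw [show x * q * x⁻¹ * (x * q * x⁻¹) = x * (q * q) * x⁻¹ by group] at e
      have := h.Z_comm (inv_mem h.x_mem) e
      rwa [show q * q = x⁻¹ * (x * (q * q) * x⁻¹) * x by group, this.eq, inv_mul_cancel_right]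
  exact hne (h.fixed hT (h.three_eight hT hcard hinv huT) hinv (mul_mem hq hq) hfix)

theorem squares : (∀ q ∈ T, q * q = 1) ∨ ∀ q ∈ T, q ∉ zpowers u → q * q = u := by
  by_contra hno
  push Not at hno
  obtain ⟨⟨a, ha, ha2⟩, b, hb, hbZ, hb2⟩ := hno
  have hb1 : b * b = 1 :=
    (h.mem_Z_iff.1 (h.sq_mem hT hcard hinv huT hb)).resolve_right hb2
  have haZ : a ∉ zpowers u := fun e => ha2 (by
    rcases h.mem_Z_iff.1 e with rfl | rfl
    · exact one_mul 1
    · exact h.u2)
  -- the orbit of `b` covers the three nontrivial cosets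
  have h3 := h.three_eight hT hcard hinv huT
  have hbx : x * b * x⁻¹ ∈ T := hinv b hb
  have hb' : x * b * x⁻¹ ∉ zpowers u := fun e => hbZ (by
    rw [show b = x⁻¹ * (x * b * x⁻¹) * x by group, (h.Z_comm (inv_mem h.x_mem) e).eq,
      inv_mul_cancel_right]
    exact e)
  have hne : b⁻¹ * (x * b * x⁻¹) ∉ zpowers u := fun e => hbZ (h.fixed hT h3 hinv hb (by
    have := h.Z_comm (hT hb) e
    rw [show x * b * x⁻¹ * b⁻¹ = b * (b⁻¹ * (x * b * x⁻¹)) * b⁻¹ by group, this.eq,
      mul_inv_cancel_right]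
    exact e))
  set c := x * b * x⁻¹ with hc
  have hc1 : c * c = 1 := by
    rw [hc, show x * b * x⁻¹ * (x * b * x⁻¹) = x * (b * b) * x⁻¹ by group, hb1]; group
  have hbc : Commute b c := by
    rcases h.mem_Z_iff.1 (h.comm_self hT h3 hinv hb) with e | e
    · exact commutatorElement_eq_one_iff_commute.1 e
    · exfalso
      -- then `b c` has order four and is conjugate to an involution modulo the centre
      have hcube := h.cube hT h3 hinv hb
      rw [← hc] at hcube
      set d := x * c * x⁻¹ with hd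
      have hd1 : d * d = 1 := by
        rw [hd, show x * c * x⁻¹ * (x * c * x⁻¹) = x * (c * c) * x⁻¹ by group, hc1]; group
      obtain ⟨z, hz, hz'⟩ : ∃ z ∈ zpowers u, b * c = z * d⁻¹ := ⟨_, hcube, by group⟩
      have h2 : b * c * (b * c) = 1 := by
        rw [hz', (h.Z_comm (inv_mem (hT (hinv c hbx))) hz).mul_mul_mul_comm, ← mul_inv_rev, hd1,
          inv_one, mul_one]
        rcases h.mem_Z_iff.1 hz with rfl | rfl
        · exact one_mul 1
        · exact h.u2
      have : ⁅b, c⁆ = 1 := by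
        rw [commutatorElement_def, inv_eq_of_mul_eq_one_right hb1, inv_eq_of_mul_eq_one_right hc1,
          mul_assoc]
        exact h2
      rw [this] at e
      exact h.u_ne e.symm
  -- `T = {1, b, c, b c} × ⟨u⟩`
  have hmem : a ∈ zpowers u ∨ b⁻¹ * a ∈ zpowers u ∨ c⁻¹ * a ∈ zpowers u ∨ (b * c)⁻¹ * a ∈ zpowers u := by
    by_contra hno
    push Not at hno
    obtain ⟨n1, n2, n3, n4⟩ := hno
    haveI : Fintype (Hyp.bar u T) := Fintype.ofFinite _
    let f : Fin 5 → Hyp.bar u T := fun i =>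
      match i with
      | 0 => 1
      | 1 => ⟨_, Hyp.pr_mem_bar (a := ⟨b, hT hb⟩) hb⟩
      | 2 => ⟨_, Hyp.pr_mem_bar (a := ⟨c, hT hbx⟩) hbx⟩
      | 3 => ⟨_, Hyp.pr_mem_bar (a := ⟨b * c, hT (mul_mem hb hbx)⟩) (mul_mem hb hbx)⟩
      | 4 => ⟨_, Hyp.pr_mem_bar (a := ⟨a, hT ha⟩) ha⟩
    have hbc' : b * c ∉ zpowers u := fun e => hne (by
      rwa [inv_eq_of_mul_eq_one_right hb1])
    have hbc2 : b⁻¹ * (b * c) ∉ zpowers u := by rwa [inv_mul_cancel_left]
    have hbc3 : c⁻¹ * (b * c) ∉ zpowers u := by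
      rwa [hbc.eq, inv_mul_cancel_left]
    have hinj : Function.Injective f := by
      have key : ∀ i j, i < j → f i ≠ f j := by
        intro i j hij e
        have e' := congrArg Subtype.val e
        fin_cases i <;> fin_cases j <;> simp [f] at hij e' <;>
          first
          | exact absurd hij (by decide)
          | (rw [eq_comm, ← QuotientGroup.mk'_apply, pr_eq_one] at e'; first
              | exact hbZ e' | exact hb' e' | exact hbc' e' | exact n1 e')
          | (have e2 := (QuotientGroup.eq).1 e'; rw [mem_subgroupOf] at e2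
             first | exact hne e2 | exact hbc2 e2 | exact hbc3 e2 | exact n2 e2 | exact n3 e2 | exact n4 e2)
      intro i j e
      rcases lt_trichotomy i j with l | l | l
      · exact absurd e (key i j l)
      · exact l
      · exact absurd e.symm (key j i l)
    have := Fintype.card_le_of_injective f hinj
    rw [Fintype.card_fin, ← Nat.card_eq_fintype_card, h.bar_eight hT hcard hinv huT] at this
    omega
  have sq_of : ∀ g ∈ T, g * g = 1 → g⁻¹ * a ∈ zpowers u → a * a = 1 := by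
    intro g hg g2 hz
    rw [show a = g * (g⁻¹ * a) by group, (h.Z_comm (hT hg) hz).symm.mul_mul_mul_comm, g2, one_mul]
    rcases h.mem_Z_iff.1 hz with e | e <;> rw [e]
    · exact one_mul 1
    · exact h.u2
  rcases hmem with e | e | e | e
  · exact haZ e
  · exact ha2 (sq_of b hb hb1 e)
  · exact ha2 (sq_of c hbx hc1 e)
  · exact ha2 (sq_of _ (mul_mem hb hbx) (by rw [hbc.symm.mul_mul_mul_comm, hb1, hc1, one_mul]) e)

end eight

end Hyp

/-- An invariant subgroup of order eight with a reflection. -/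
structure Small (h : Hyp u x) (T : Subgroup G) (S : Sylow 2 G) (s : G) : Prop where
  T_le : T ≤ Cu u
  card : Nat.card T = 8
  inv : Invar x T
  u_mem : u ∈ T
  norm : ∀ q ∈ T, s * q * s⁻¹ ∈ T
  le_S : T ≤ (S : Subgroup G)
  S_le : (S : Subgroup G) ≤ Cu u
  s_mem : s ∈ (S : Subgroup G)
  sx : s * x * s⁻¹ = x⁻¹
  s2 : s * s ∈ zpowers u
  index : ∀ g ∈ (S : Subgroup G), g ∈ T ∨ s⁻¹ * g ∈ T

namespace Small

variable {h : Hyp u x} {T : Subgroup G} {S : Sylow 2 G} {s : G} (M : Small h T S s)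
include M

theorem three : ¬ 3 ∣ Nat.card T := h.three_eight M.T_le M.card M.inv M.u_mem

theorem exists_moved : ∃ a ∈ T, ⁅s, a⁆ ∉ zpowers u := by
  by_contra hno
  push Not at hno
  have hT : ∀ e ∈ T, e ∈ zpowers u := by
    intro e he
    have hsC := M.S_le M.s_mem
    have hshift : pr u ⟨s, hsC⟩ * pr u ⟨x, h.x_mem⟩ * (pr u ⟨s, hsC⟩)⁻¹ * (pr u ⟨x, h.x_mem⟩)⁻¹ *
        (pr u ⟨x, h.x_mem⟩)⁻¹ ∈ Hyp.bar u T := by
      simp only [← map_inv, ← map_mul]
      refine Hyp.pr_mem_bar ?_
      show s * x * s⁻¹ * x⁻¹ * x⁻¹ ∈ T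
      rw [M.sx, show x⁻¹ * x⁻¹ * x⁻¹ = (x ^ 3)⁻¹ by simp only [pow_three]; group, h.x3, inv_one]
      exact one_mem _
    refine pr_eq_one.1 (eq_one_of_reflection h.sc (Hyp.not_three_bar M.T_le M.three) (h.invar_bar M.inv)
      hshift (Hyp.pr_mem_bar (a := ⟨e, M.T_le he⟩) he)
      (pr_commute (a := ⟨s, hsC⟩) (b := ⟨e, M.T_le he⟩) (hno e he)).symm ?_)
    have he' := invar_le_conj M.inv he
    have hxs : x * s * x⁻¹ ∈ Cu u := mul_mem (mul_mem h.x_mem hsC) (inv_mem h.x_mem)
    have c2 := (pr_commute (a := ⟨_, hxs⟩) (b := ⟨e, M.T_le he⟩) (by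
      rw [show ⁅x * s * x⁻¹, e⁆ = x * ⁅s, x⁻¹ * e * x⁆ * x⁻¹ by
        simp only [commutatorElement_def]; group, h.Z_x (hno _ he')]
      exact hno _ he')).symm
    rwa [show (⟨x * s * x⁻¹, hxs⟩ : Cu u) = ⟨x, h.x_mem⟩ * ⟨s, hsC⟩ * ⟨x, h.x_mem⟩⁻¹ from rfl,
      map_mul, map_mul, map_inv] at c2
  have := Nat.card_le_card_of_injective (fun e : T => (⟨e, hT e e.2⟩ : zpowers u))
    fun a b e => Subtype.ext (congrArg (fun z : zpowers u => (z : G)) e)
  rw [M.card, Nat.card_zpowers, h.ordu] at this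
  omega

theorem s_not : s ∉ T := fun hs => by
  have hm : ⁅s, x⁆ ∈ T := by
    rw [show ⁅s, x⁆ = s * (x * s⁻¹ * x⁻¹) by simp only [commutatorElement_def]; group]
    exact mul_mem hs (M.inv _ (inv_mem hs))
  rw [commutatorElement_def, M.sx, show x⁻¹ * x⁻¹ = x by
    rw [← mul_inv_rev]; exact inv_eq_of_mul_eq_one_right (by rw [mul_assoc, ← pow_three, h.x3])] at hm
  exact M.three (h.ordx ▸ orderOf_dvd_natCard T hm)

theorem not_elementary (he : ∀ q ∈ T, q * q = 1) : False := by
  have hT : ∀ a ∈ T, ∀ b ∈ T, Commute a b := fun a ha b hb => by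
    have h2 := he _ (mul_mem ha hb)
    show a * b = b * a
    calc a * b = a * (a * b * (a * b)) * b := by rw [h2, mul_one]
      _ = (a * a) * (b * a) * (b * b) := by group
      _ = b * a := by rw [he a ha, he b hb, one_mul, mul_one]
  obtain ⟨a, ha, hz⟩ := M.exists_moved
  set z := ⁅s, a⁆ with hzd
  have hcomm : ∀ b ∈ T, ⁅s, b⁆ ∈ T := fun b hb => by
    rw [commutatorElement_def]; exact mul_mem (M.norm b hb) (inv_mem hb)
  have hzT : z ∈ T := hcomm a ha
  -- the endomorphism `b ↦ ⁅s, b⁆`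
  let f : T →* T :=
    { toFun := fun b => ⟨⁅s, (b : G)⁆, hcomm b b.2⟩
      map_one' := Subtype.ext (commutatorElement_one_right s)
      map_mul' := fun b c => Subtype.ext (by
        show ⁅s, (b : G) * c⁆ = ⁅s, (b : G)⁆ * ⁅s, (c : G)⁆
        rw [comm_mul_right, (hT _ b.2 _ (hcomm c c.2)).eq, mul_inv_cancel_right]) }
  have hsz : ∀ b : T, f (f b) = 1 := by
    intro b
    refine Subtype.ext ?_
    show ⁅s, ⁅s, (b : G)⁆⁆ = 1
    have hz2 : Commute (s * s) b := (h.Z_comm (M.T_le b.2) M.s2).symm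
    have e1 := he _ (M.norm b b.2)
    have hc := hT _ (M.norm b b.2) _ b.2
    rw [commutatorElement_eq_one_iff_commute, commutatorElement_def,
      inv_eq_of_mul_eq_one_right (he b b.2)]
    show s * (s * b * s⁻¹ * b) = s * b * s⁻¹ * b * s
    calc s * (s * b * s⁻¹ * b) = (s * s * b * (s * s)⁻¹) * (s * b * s⁻¹) * s := by group
      _ = b * (s * b * s⁻¹) * s := by rw [hz2.eq, mul_inv_cancel_right]
      _ = _ := by rw [hc.symm.eq]
  have hker : 4 ≤ Nat.card f.ker := by
    let g : Fin 4 → f.ker := fun i =>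
      match i with
      | 0 => 1
      | 1 => ⟨⟨u, M.u_mem⟩, Subtype.ext (commutatorElement_eq_one_iff_commute.2
          (mem_Cu.1 (M.S_le M.s_mem)))⟩
      | 2 => ⟨f ⟨a, ha⟩, hsz _⟩
      | 3 => ⟨⟨u, M.u_mem⟩ * f ⟨a, ha⟩, mul_mem (Subtype.ext
          (commutatorElement_eq_one_iff_commute.2 (mem_Cu.1 (M.S_le M.s_mem)))) (hsz _)⟩
    have hz1 : z ≠ 1 := fun e => hz (e ▸ one_mem _)
    have hzu : z ≠ u := fun e => hz (e ▸ mem_zpowers u)
    have huz : u * z ≠ 1 := fun e => hzu (by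
      rw [← h.u_inv]; exact (eq_inv_of_mul_eq_one_right e))
    have hg : Function.Injective g := by
      intro i j e
      have e' : ((g i : T) : G) = ((g j : T) : G) := by rw [e]
      have hu1 := h.u_ne
      fin_cases i <;> fin_cases j <;> simp [g, f, ← hzd] at e' ⊢ <;>
        first
        | exact hu1 e' | exact hu1 e'.symm | exact hz1 e' | exact hz1 e'.symm
        | exact huz e' | exact huz e'.symm | exact hzu e' | exact hzu e'.symm
    simpa using Nat.card_le_card_of_injective g hg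
  have himg : ∀ b ∈ T, ⁅s, b⁆ = 1 ∨ ⁅s, b⁆ = z := by
    have hc := f.ker.card_mul_index
    rw [index_ker, M.card] at hc
    have hr : Nat.card f.range ≤ 2 := by nlinarith
    intro b hb
    by_contra hne
    push Not at hne
    haveI : Fintype f.range := Fintype.ofFinite _
    let p : Fin 3 → f.range := fun i =>
      match i with
      | 0 => 1
      | 1 => ⟨f ⟨a, ha⟩, _, rfl⟩
      | 2 => ⟨f ⟨b, hb⟩, _, rfl⟩
    have hz1 : z ≠ 1 := fun e => hz (e ▸ one_mem _)
    have hp : Function.Injective p := by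
      intro i j e
      have e' : ((p i : T) : G) = ((p j : T) : G) := by rw [e]
      fin_cases i <;> fin_cases j <;> simp [p, f, ← hzd] at e' ⊢ <;>
        first
        | exact hz1 e' | exact hz1 e'.symm
        | exact hne.1 e' | exact hne.1 e'.symm | exact hne.2 e' | exact hne.2 e'.symm
    have := Nat.card_le_card_of_injective p hp
    rw [Nat.card_fin] at this
    omega
  have hzs : Commute s z := commutatorElement_eq_one_iff_commute.1 (congrArg Subtype.val (hsz ⟨a, ha⟩))
  have hzS : ∀ g ∈ (S : Subgroup G), Commute g z := fun g hg => by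
    rcases M.index g hg with hgT | hgT
    · exact hT g hgT z hzT
    · have := hzs.mul_left (hT _ hgT z hzT)
      rwa [mul_inv_cancel_left] at this
  have hz2 : z * z = 1 := he z hzT
  have hzi : z⁻¹ = z := inv_eq_of_mul_eq_one_right hz2
  -- the commutators of `S` lie in `{1, z}`
  have hsub : ∀ g ∈ (S : Subgroup G), ∀ k ∈ (S : Subgroup G), ⁅g, k⁆ = 1 ∨ ⁅g, k⁆ = z := by
    intro g hg k hk
    have hs' : ∀ b ∈ T, ⁅b, s⁆ = 1 ∨ ⁅b, s⁆ = z := fun b hb => by
      rcases himg b hb with e | e <;> rw [← commutatorElement_inv, e]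
      · exact Or.inl inv_one
      · exact Or.inr hzi
    have hconj : ∀ w, (w = 1 ∨ w = z) → s * w * s⁻¹ = w := fun w hw => by
      rcases hw with rfl | rfl
      · group
      · rw [hzs.eq, mul_inv_cancel_right]
    have hTT : ∀ b ∈ T, ∀ c ∈ T, ⁅b, c⁆ = 1 := fun b hb c hc =>
      commutatorElement_eq_one_iff_commute.2 (hT b hb c hc)
    rcases M.index g hg with hgT | hgT <;> rcases M.index k hk with hkT | hkT
    · exact Or.inl (hTT g hgT k hkT)
    · rw [show k = s * (s⁻¹ * k) by group, comm_mul_right, hTT g hgT _ hkT, mul_one, mul_inv_cancel,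
        mul_one]
      exact hs' g hgT
    · rw [show g = s * (s⁻¹ * g) by group, comm_mul_left, hTT _ hgT k hkT, mul_one, mul_inv_cancel,
        one_mul]
      exact himg k hkT
    · rw [show g = s * (s⁻¹ * g) by group, show k = s * (s⁻¹ * k) by group, comm_mul_left,
        comm_mul_right, hTT _ hgT _ hkT, mul_one, mul_inv_cancel, mul_one, hconj _ (hs' _ hgT),
        comm_mul_right s s, commutatorElement_self, one_mul, hconj _ (himg _ hkT)]
      rcases hs' _ hgT with e | e <;> rcases himg _ hkT with e' | e' <;> rw [e, e'] <;> simp [hz2]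
  obtain ⟨n, hn, e⟩ := exists_normalizer_conj S hzS (fun g hg => mem_Cu.1 (M.S_le hg))
    (h.fused z u (Involution.orderOf_of_sq hz2 fun e => hz (e ▸ one_mem _)) h.ordu)
  rw [hzd, conj_comm] at e
  rcases hsub _ ((mem_normalizer_iff.1 hn s).1 M.s_mem) _ ((mem_normalizer_iff.1 hn a).1 (M.le_S ha))
    with e' | e'
  · exact h.u_ne (e.symm.trans e')
  · exact hz ((e'.symm.trans e) ▸ mem_zpowers u)

theorem quat : (∀ q ∈ T, q ∉ zpowers u → q * q = u) ∧ s * s = 1 := by
  rcases h.squares M.T_le M.card M.inv M.u_mem with he | hq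
  · exact (M.not_elementary he).elim
  refine ⟨hq, ?_⟩
  by_contra hs2
  have hsu : s * s = u := (h.mem_Z_iff.1 M.s2).resolve_left hs2
  -- `s` fixes no element of order four
  have key : ∀ q ∈ T, q ∉ zpowers u → ¬ Commute s q := by
    intro q hqT hqZ hc
    have hq2 := hq q hqT hqZ
    set J := zpowers q
    have hJ : J ≤ T := zpowers_le.2 hqT
    have hq4 : orderOf q = 2 ^ (1 + 1) := by
      refine orderOf_eq_prime_pow (hp := ⟨Nat.prime_two⟩) (fun e => ?_) ?_
      · rw [pow_one, sq, hq2] at e; exact h.u_ne e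
      · rw [show 2 ^ (1 + 1) = 2 + 2 from rfl, pow_add, sq, hq2, h.u2]
    have hJc : Nat.card T = 2 * Nat.card J := by rw [M.card, Nat.card_zpowers, hq4]; norm_num
    have hJs : ∀ e ∈ J, Commute s e := fun e he => by
      obtain ⟨i, rfl⟩ := mem_zpowers_iff.1 he; exact hc.zpow_right i
    obtain ⟨a, ha, haz⟩ := M.exists_moved
    have haJ : a ∉ J := fun e => haz (by
      rw [commutatorElement_eq_one_iff_commute.2 (hJs a e)]; exact one_mem _)
    have hbJ : s * a * s⁻¹ ∉ J := fun e => haJ (by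
      have e' := hJs _ e
      have : a = s * a * s⁻¹ := by
        calc a = s⁻¹ * (s * a * s⁻¹) * s := by group
          _ = s⁻¹ * (s * (s * a * s⁻¹)) := by rw [mul_assoc, ← e'.eq]
          _ = _ := by group
      rwa [← this] at e)
    have hj := SC.mul_mem_of_index_two hJ hJc ha haJ (M.norm a ha) hbJ
    set e := a⁻¹ * (s * a * s⁻¹) with he'
    have hcz : Commute a u := mem_Cu.1 (M.T_le ha)
    have h1 : a = a * e * e := by
      calc a = s * s * a * (s * s)⁻¹ := by rw [hsu, ← hcz.eq, mul_inv_cancel_right]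
        _ = s * (a * e) * s⁻¹ := by rw [he']; group
        _ = (s * a * s⁻¹) * (s * e * s⁻¹) := by group
        _ = _ := by rw [(hJs e hj).eq, mul_inv_cancel_right, he']; group
    have he2 : e * e = 1 := by
      rw [mul_assoc] at h1
      exact (mul_eq_left.1 h1.symm)
    have heZ : e ∈ zpowers u := by
      by_contra hne
      rw [hq e (hJ hj) hne] at he2
      exact h.u_ne he2
    refine haz ?_
    rw [show ⁅s, a⁆ = a * e * a⁻¹ by rw [he', commutatorElement_def]; group,
      (h.Z_comm (M.T_le ha) heZ).eq, mul_inv_cancel_right]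
    exact heZ
  obtain ⟨i, hiS, hi2, hiu⟩ := h.no_unique S (M.le_S M.u_mem)
  have hii := Involution.mul_self hi2
  rcases M.index i hiS with hiT | hiT
  · by_cases hiZ : i ∈ zpowers u
    · exact (h.mem_Z_iff.1 hiZ).elim (Involution.ne_one hi2) hiu
    · rw [hq i hiT hiZ] at hii; exact h.u_ne hii
  set q := s⁻¹ * i with hqd
  have e : s * q * (s * q) = 1 := by rw [hqd, mul_inv_cancel_left]; exact hii
  by_cases hqZ : q ∈ zpowers u
  · rw [(h.Z_comm (M.S_le M.s_mem) hqZ).symm.mul_mul_mul_comm, hsu] at e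
    rcases h.mem_Z_iff.1 hqZ with e' | e' <;> rw [e'] at e
    · rw [one_mul, mul_one] at e; exact h.u_ne e
    · rw [h.u2, mul_one] at e; exact h.u_ne e
  · refine key q hiT hqZ ?_
    have hq2 := hq q hiT hqZ
    show s * q = q * s
    have h1 : s * q = q⁻¹ * s⁻¹ := by rw [← mul_inv_rev]; exact eq_inv_of_mul_eq_one_left e
    have hs' : s⁻¹ = u * s := by
      refine inv_eq_of_mul_eq_one_right ?_
      rw [← mul_assoc, (mem_Cu.1 (M.S_le M.s_mem)).eq, mul_assoc, hsu, h.u2]
    have hq' : q⁻¹ = q * u := by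
      refine inv_eq_of_mul_eq_one_right ?_
      rw [← mul_assoc, hq2, h.u2]
    rw [h1, hs', hq', mul_assoc, ← mul_assoc u, h.u2, one_mul]

end Small

end Cfsg.Agent.SelfCentSix
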