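import Cfsg.Agent.Lib.SelfCentSix.Basic
import Cfsg.Agent.Lib.ZStar.Glauberman

/-!
# Sylow subgroups and fusion for `Hyp`

* `Hyp.exists_sylow` : a Sylow 2-subgroup of `G` inside `C_G(u)`
* `Hyp.exists_sylow_above` : a 2-subgroup centralizing an involution lies in such a Sylow subgroup
* `exists_conj_sylow` : Sylow subgroups of `G` inside a subgroup are conjugate there
* `exists_normalizer_conj` : Burnside's fusion lemma
* `Hyp.no_unique` : a Sylow 2-subgroup has more than one involution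
* `Hyp.eq_one_of_three` : elements of 3-power order of `C_G(u)` centralize no other involution
-/

set_option autoImplicit false
set_option linter.unusedSectionVars false
set_option linter.style.haveILetI false

namespace Cfsg.Agent.SelfCentSix

open Subgroup
open scoped commutatorElement Pointwise

universe u₀

variable {G : Type u₀} [Group G] [Finite G]

theorem exists_normalizer_conj (S : Sylow 2 G) {z z' : G}
    (hz : ∀ s ∈ (S : Subgroup G), Commute s z) (hz' : ∀ s ∈ (S : Subgroup G), Commute s z')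
    (hc : IsConj z z') :
    ∃ n ∈ normalizer ((S : Subgroup G) : Set G), n * z * n⁻¹ = z' := by
  obtain ⟨g, hg⟩ := isConj_iff.1 hc
  haveI : Fact (Nat.Prime 2) := ⟨Nat.prime_two⟩
  have h1 : z ∈ centralizer ((S : Subgroup G) : Set G) := mem_centralizer_iff.2 fun s hs => (hz s hs).eq
  have h2 : g⁻¹⁻¹ * z * g⁻¹ ∈ centralizer ((S : Subgroup G) : Set G) := by
    rw [inv_inv, hg]; exact mem_centralizer_iff.2 fun s hs => (hz' s hs).eq
  obtain ⟨n, hn, e⟩ := Sylow.conj_eq_normalizer_conj_of_mem_centralizer S z g⁻¹ h1 h2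
  refine ⟨n⁻¹, inv_mem hn, ?_⟩
  rw [inv_inv, ← hg, ← e, inv_inv]

theorem card_sylow_eq (S : Sylow 2 G) {T : Subgroup G} (hT : IsPGroup 2 T)
    (hle : Nat.card (S : Subgroup G) ≤ Nat.card T) : ∃ T' : Sylow 2 G, (T' : Subgroup G) = T := by
  haveI : Fact (Nat.Prime 2) := ⟨Nat.prime_two⟩
  obtain ⟨T', hT'⟩ := hT.exists_le_sylow
  refine ⟨T', (eq_of_le_of_card_ge hT' ?_).symm⟩
  rw [T'.card_eq_multiplicity, ← S.card_eq_multiplicity]
  exact hle

/-- Sylow subgroups of `G` inside `H` are conjugate in `H`. -/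
theorem exists_conj_sylow (S T : Sylow 2 G) {H : Subgroup G} (hS : (S : Subgroup G) ≤ H)
    (hT : (T : Subgroup G) ≤ H) :
    ∃ e ∈ H, ∀ s, s ∈ (S : Subgroup G) ↔ e * s * e⁻¹ ∈ (T : Subgroup G) := by
  haveI : Fact (Nat.Prime 2) := ⟨Nat.prime_two⟩
  obtain ⟨e, he⟩ := MulAction.exists_smul_eq H (S.subtype hS) (T.subtype hT)
  refine ⟨e, e.2, fun s => ?_⟩
  have hmem : ∀ a : H, a ∈ (T.subtype hT : Subgroup H) ↔ e⁻¹ * a * e ∈ (S.subtype hS : Subgroup H) := by
    intro a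
    rw [← he]
    show a ∈ (MulAut.conj e • (S.subtype hS : Subgroup H)) ↔ _
    rw [mem_pointwise_smul_iff_inv_smul_mem, ← map_inv, MulAut.smul_def, MulAut.conj_apply, inv_inv]
  constructor
  · intro hs
    have h1 := (hmem (e * ⟨s, hS hs⟩ * e⁻¹)).2 (by
      rw [show e⁻¹ * (e * ⟨s, hS hs⟩ * e⁻¹) * e = (⟨s, hS hs⟩ : H) by group]
      exact hs)
    exact h1
  · intro hs
    have h1 := (hmem ⟨(e : G) * s * (e : G)⁻¹, hT hs⟩).1 hs
    change ((e : G)⁻¹ * ((e : G) * s * (e : G)⁻¹) * (e : G)) ∈ (S : Subgroup G) at h1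
    simpa [mul_assoc] using h1

theorem odd_relIndex (S : Sylow 2 G) {N : Subgroup G} (h : (S : Subgroup G) ≤ N) :
    Odd ((S : Subgroup G).relIndex N) := by
  haveI : Fact (Nat.Prime 2) := ⟨Nat.prime_two⟩
  have := S.not_dvd_index
  rw [← relIndex_mul_index h] at this
  exact Nat.odd_iff.2 (by
    have h2 : ¬ 2 ∣ (S : Subgroup G).relIndex N := fun e => this (Dvd.dvd.mul_right e _)
    omega)

variable {u x : G}

namespace Hyp

theorem two_group_Z (h : Hyp u x) : IsPGroup 2 (zpowers u) :=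
  IsPGroup.of_card (n := 1) (by rw [Nat.card_zpowers, h.ordu, pow_one])

theorem exists_sylow (h : Hyp u x) : ∃ S : Sylow 2 G, (S : Subgroup G) ≤ Cu u := by
  haveI : Fact (Nat.Prime 2) := ⟨Nat.prime_two⟩
  obtain ⟨S, hS⟩ := h.two_group_Z.exists_le_sylow
  haveI : Nontrivial (S : Subgroup G) :=
    ⟨⟨u, hS (mem_zpowers u)⟩, 1, fun e => h.u_ne (congrArg Subtype.val e)⟩
  haveI := S.isPGroup'.center_nontrivial
  haveI : Nontrivial (center (S : Subgroup G)) := inferInstance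
  obtain ⟨z, hz⟩ := exists_prime_orderOf_dvd_card' (G := center (S : Subgroup G)) 2 (by
    obtain ⟨k, hk0, hk⟩ := ((S.isPGroup'.to_subgroup (center (S : Subgroup G))).nontrivial_iff_card).1
      inferInstance
    rw [hk]; exact dvd_pow_self 2 hk0.ne')
  have hz2 : orderOf ((z : (S : Subgroup G)) : G) = 2 := by
    rw [orderOf_coe, orderOf_coe, hz]
  obtain ⟨g, hg⟩ := isConj_iff.1 (h.fused _ _ hz2 h.ordu)
  obtain ⟨T, hT⟩ := card_sylow_eq S (T := (S : Subgroup G).map (MulAut.conj g).toMonoidHom)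
    (S.isPGroup'.map _) (by rw [card_map_of_injective (MulAut.conj g).injective])
  refine ⟨T, ?_⟩
  rw [hT]
  rintro _ ⟨s, hs, rfl⟩
  have hc : (z : (S : Subgroup G)) * ⟨s, hs⟩ = ⟨s, hs⟩ * (z : (S : Subgroup G)) :=
    (mem_center_iff.1 z.2 ⟨s, hs⟩).symm
  have hc' : ((z : (S : Subgroup G)) : G) * s = s * (z : (S : Subgroup G)) := congrArg Subtype.val hc
  refine mem_Cu.2 ?_
  show g * s * g⁻¹ * u = u * (g * s * g⁻¹)
  rw [← hg]
  calc g * s * g⁻¹ * (g * (z : (S : Subgroup G)) * g⁻¹) = g * (s * (z : (S : Subgroup G))) * g⁻¹ := by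
        group
    _ = g * ((z : (S : Subgroup G)) * s) * g⁻¹ := by rw [hc']
    _ = _ := by group

theorem exists_sylow_above (h : Hyp u x) {v : G} (hv : orderOf v = 2) {R : Subgroup G}
    (hR : IsPGroup 2 R) (hRv : R ≤ Cu v) :
    ∃ T : Sylow 2 G, R ≤ (T : Subgroup G) ∧ (T : Subgroup G) ≤ Cu v := by
  haveI : Fact (Nat.Prime 2) := ⟨Nat.prime_two⟩
  obtain ⟨S, hS⟩ := h.exists_sylow
  obtain ⟨g, hg⟩ := isConj_iff.1 (h.fused u v h.ordu hv)
  obtain ⟨S', hS'⟩ := card_sylow_eq S (T := (S : Subgroup G).map (MulAut.conj g).toMonoidHom)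
    (S.isPGroup'.map _) (by rw [card_map_of_injective (MulAut.conj g).injective])
  have hS'v : (S' : Subgroup G) ≤ Cu v := by
    rw [hS']
    rintro _ ⟨s, hs, rfl⟩
    refine mem_Cu.2 ?_
    have hc : s * u = u * s := mem_Cu.1 (hS hs)
    show g * s * g⁻¹ * v = v * (g * s * g⁻¹)
    rw [← hg]
    calc g * s * g⁻¹ * (g * u * g⁻¹) = g * (s * u) * g⁻¹ := by group
      _ = g * (u * s) * g⁻¹ := by rw [hc]
      _ = _ := by group
  obtain ⟨T', hT'⟩ := (hR.of_equiv (subgroupOfEquivOfLe hRv).symm).exists_le_sylow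
  obtain ⟨T, hT⟩ := card_sylow_eq S' (T := (T' : Subgroup (Cu v)).map (Cu v).subtype)
    (T'.isPGroup'.map _) (by
      rw [card_map_of_injective (Cu v).subtype_injective, T'.card_eq_multiplicity,
        ← (S'.subtype hS'v).card_eq_multiplicity, Sylow.coe_subtype,
        Nat.card_congr (subgroupOfEquivOfLe hS'v).toEquiv])
  refine ⟨T, fun r hr => ?_, ?_⟩
  · rw [hT]
    exact ⟨⟨r, hRv hr⟩, hT' (mem_subgroupOf.2 hr), rfl⟩
  · rw [hT]
    rintro _ ⟨a, -, rfl⟩
    exact a.2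

theorem no_unique (h : Hyp u x) (S : Sylow 2 G) (huS : u ∈ (S : Subgroup G)) :
    ∃ i ∈ (S : Subgroup G), orderOf i = 2 ∧ i ≠ u := by
  haveI := h.simple
  haveI : Fact (Nat.Prime 2) := ⟨Nat.prime_two⟩
  by_contra hne
  push Not at hne
  have hiso : IsIsolatedInvolution u :=
    ZStar.isolated_of_sylow S h.ordu huS fun g hg =>
      hne _ hg ((Involution.orderOf_conj g u).trans h.ordu)
  have hO : Cfsg.pPrimeCore 2 G = ⊥ := (Cores.pPrimeCore_normal 2 G).eq_bot_or_eq_top.resolve_right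
    fun e => by
      have hc := Cores.coprime_card_pPrimeCore (G := G) 2
      rw [e, card_top] at hc
      exact Nat.prime_two.coprime_iff_not_dvd.1 hc.symm (h.ordu ▸ orderOf_dvd_natCard u)
  have hcen : u ∈ center G := mem_center_iff.2 fun g => by
    have hg := ZStar.zStar_of_brauerSuzuki ZStar.uniqueInvolution hiso g
    rw [hO, mem_bot] at hg
    calc g * u = (u * g * u⁻¹ * g⁻¹) * (g * u) := by rw [hg, one_mul]
      _ = u * g := by group
  rcases (inferInstance : (center G).Normal).eq_bot_or_eq_top with e | e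
  · exact h.u_ne (mem_bot.1 (e ▸ hcen))
  · exact h.nonab ⟨⟨fun a b => (mem_center_iff.1 (e ▸ mem_top a) b).symm⟩⟩

theorem not_nine (h : Hyp u x) : ¬ 9 ∣ Nat.card (Cu u) := by
  haveI : Fact (Nat.Prime 3) := ⟨Nat.prime_three⟩
  intro h9
  have hX : IsPGroup 3 (zpowers (⟨x, h.x_mem⟩ : Cu u)) :=
    IsPGroup.of_card (n := 1) (by
      rw [Nat.card_zpowers, ← orderOf_coe, h.ordx, pow_one])
  obtain ⟨P, hP⟩ := hX.exists_le_sylow
  have hmemP : ∀ g : P, Commute ((g : Cu u) : G) x → ((g : Cu u) : G) ∈ zpowers x := by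
    intro g hg
    obtain ⟨a, ha, b, hb, e⟩ := h.cent _ (mem_Cu.1 (g : Cu u).2) hg
    obtain ⟨n, hn⟩ := P.isPGroup' g
    have hn' : ((g : Cu u) : G) ^ (3 ^ n) = 1 := by
      simpa using congrArg (fun z : P => ((z : Cu u) : G)) hn
    rcases h.mem_Z_iff.1 ha with e0 | e0
    · simpa [e, e0] using hb
    · exfalso
      rw [e0] at e
      obtain ⟨i, rfl⟩ := mem_zpowers_iff.1 hb
      rw [e, (h.comm.zpow_right i).mul_pow] at hn'
      have ho : Odd (3 ^ n) := Odd.pow (by decide)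
      obtain ⟨m, hm⟩ := ho
      rw [hm, pow_succ, pow_mul, sq, h.u2, one_pow, one_mul] at hn'
      have hu' : u ∈ zpowers x := by
        rw [eq_inv_of_mul_eq_one_left hn']
        exact inv_mem (pow_mem (zpow_mem (mem_zpowers x) i) _)
      have := orderOf_dvd_of_mem_zpowers hu'
      rw [h.ordu, h.ordx] at this
      omega
  have h9P : 9 ≤ Nat.card P := by
    obtain ⟨k, hk⟩ := IsPGroup.iff_card.1 P.isPGroup'
    have hdvd : 3 ^ 2 ∣ Nat.card P :=
      P.pow_dvd_card_of_pow_dvd_card (n := 2) h9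
    exact Nat.le_of_dvd Nat.card_pos hdvd
  haveI : Nontrivial P := Finite.one_lt_card_iff_nontrivial.1 (by omega)
  obtain ⟨z, hz⟩ := @exists_ne _ P.isPGroup'.center_nontrivial (1 : center P)
  have hxP : (⟨x, h.x_mem⟩ : Cu u) ∈ (P : Subgroup (Cu u)) := hP (mem_zpowers _)
  have hzc : ∀ g : P, Commute (((z : P) : Cu u) : G) ((g : Cu u) : G) := fun g =>
    (congrArg (fun w : P => ((w : Cu u) : G)) (mem_center_iff.1 z.2 g)).symm
  have hzx : (((z : P) : Cu u) : G) ∈ zpowers x := hmemP _ (hzc ⟨_, hxP⟩)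
  have hgen : ∀ g : P, Commute ((g : Cu u) : G) x := by
    intro g
    rcases mem_zpowers_three h.ordx hzx with e | e | e
    · exact absurd (Subtype.ext (Subtype.ext (Subtype.ext e))) hz
    · exact e ▸ (hzc g).symm
    · have := (hzc g).symm
      rw [e] at this
      exact Commute.inv_right_iff.1 this
  have hle : Nat.card P ≤ Nat.card (zpowers x) :=
    Nat.card_le_card_of_injective (fun g : P => (⟨((g : Cu u) : G), hmemP g (hgen g)⟩ : zpowers x))
      fun a b e => Subtype.ext (Subtype.ext (congrArg (fun w : zpowers x => (w : G)) e))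
  rw [Nat.card_zpowers, h.ordx] at hle
  omega

theorem three_conj (h : Hyp u x) {g : G} (hg : g ∈ Cu u) (ho : orderOf g = 3) :
    ∃ c ∈ Cu u, g = c * x * c⁻¹ ∨ g = c * x⁻¹ * c⁻¹ := by
  haveI : Fact (Nat.Prime 3) := ⟨Nat.prime_three⟩
  have key : ∀ a : Cu u, orderOf a = 3 →
      ∃ P : Sylow 3 (Cu u), (P : Subgroup (Cu u)) = zpowers a := by
    intro a ha
    obtain ⟨P, hP⟩ := (IsPGroup.of_card (n := 1) (by rw [Nat.card_zpowers, ha, pow_one]) :
      IsPGroup 3 (zpowers a)).exists_le_sylow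
    refine ⟨P, (eq_of_le_of_card_ge hP ?_).symm⟩
    obtain ⟨k, hk⟩ := IsPGroup.iff_card.1 P.isPGroup'
    rw [Nat.card_zpowers, ha, hk]
    by_contra hlt
    have hk2 : 2 ≤ k := by
      by_contra h'
      interval_cases k <;> norm_num at hlt
    refine h.not_nine ((pow_dvd_pow 3 hk2).trans ?_)
    rw [← hk]; exact card_subgroup_dvd_card _
  obtain ⟨P, hP⟩ := key ⟨x, h.x_mem⟩ (by rw [← orderOf_coe]; exact h.ordx)
  obtain ⟨R, hR⟩ := key ⟨g, hg⟩ (by rw [← orderOf_coe]; exact ho)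
  obtain ⟨c, hc⟩ := MulAction.exists_smul_eq (Cu u) P R
  have hmem : (⟨g, hg⟩ : Cu u) ∈ (R : Subgroup (Cu u)) := hR ▸ mem_zpowers _
  rw [← hc] at hmem
  change _ ∈ MulAut.conj c • (P : Subgroup (Cu u)) at hmem
  rw [mem_pointwise_smul_iff_inv_smul_mem, ← map_inv, MulAut.smul_def, MulAut.conj_apply, inv_inv,
    hP] at hmem
  obtain ⟨i, hi⟩ := mem_zpowers_iff.1 hmem
  have hi' : x ^ i = (c : G)⁻¹ * g * (c : G) := by simpa using congrArg Subtype.val hi
  have hg' : g = (c : G) * x ^ i * (c : G)⁻¹ := by rw [hi']; group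
  refine ⟨c, c.2, ?_⟩
  rcases mem_zpowers_three h.ordx (zpow_mem (mem_zpowers x) i) with e | e | e
  · rw [e, mul_one, mul_inv_cancel] at hg'
    rw [hg', orderOf_one] at ho
    omega
  · exact Or.inl (hg'.trans (by rw [e]))
  · exact Or.inr (hg'.trans (by rw [e]))

theorem eq_one_of_three (h : Hyp u x) {v g : G} (hv : orderOf v = 2) (hvu : Commute v u)
    (hne : v ≠ u) (hg : g ∈ Cu u) {n : ℕ} (hn : g ^ (3 ^ n) = 1) (hgv : Commute g v) : g = 1 := by
  haveI : Fact (Nat.Prime 3) := ⟨Nat.prime_three⟩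
  by_contra hg1
  obtain ⟨m, hm⟩ := exists_orderOf_eq_prime_pow_iff.2 ⟨n, hn⟩
  have hm0 : m ≠ 0 := fun e => hg1 (orderOf_eq_one_iff.1 (by rw [hm, e, pow_zero]))
  obtain ⟨j, rfl⟩ := Nat.exists_eq_succ_of_ne_zero hm0
  have ho : orderOf (g ^ 3 ^ j) = 3 := by
    rw [orderOf_pow_of_dvd (pow_ne_zero _ (by norm_num)) (hm ▸ pow_dvd_pow 3 j.le_succ), hm,
      pow_succ', Nat.mul_div_cancel _ (pow_pos (by norm_num) _)]
  have hcv : Commute (g ^ 3 ^ j) v := hgv.pow_left _
  obtain ⟨c, hc, hcase⟩ := h.three_conj (pow_mem hg _) ho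
  have hcx : Commute (c⁻¹ * v * c) x := by
    have hh : Commute v (c * x * c⁻¹) := by
      rcases hcase with e | e
      · exact (e ▸ hcv).symm
      · have := (e ▸ hcv).symm.inv_right
        rwa [show (c * x⁻¹ * c⁻¹)⁻¹ = c * x * c⁻¹ by group] at this
    show c⁻¹ * v * c * x = x * (c⁻¹ * v * c)
    calc c⁻¹ * v * c * x = c⁻¹ * (v * (c * x * c⁻¹)) * c := by group
      _ = c⁻¹ * ((c * x * c⁻¹) * v) * c := by rw [hh.eq]
      _ = _ := by group
  obtain ⟨a, ha, b, hb, e⟩ := h.cent _ (mem_Cu.1 (mul_mem (mul_mem (inv_mem hc) (mem_Cu.2 hvu)) hc)) hcx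
  have hv1 := Involution.mul_self hv
  have h2 : (a * b) * (a * b) = 1 := by
    rw [← e]
    calc c⁻¹ * v * c * (c⁻¹ * v * c) = c⁻¹ * (v * v) * c := by group
      _ = 1 := by rw [hv1]; group
  have hab : Commute a b := by
    obtain ⟨i, rfl⟩ := mem_zpowers_iff.1 ha
    obtain ⟨k, rfl⟩ := mem_zpowers_iff.1 hb
    exact h.comm.zpow_zpow i k
  rw [← sq, hab.mul_pow, show a ^ 2 = 1 by rcases h.mem_Z_iff.1 ha with rfl | rfl <;> simp [sq, h.u2],
    one_mul] at h2
  have hb1 : b = 1 := by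
    rcases mem_zpowers_three h.ordx hb with e' | e' | e'
    · exact e'
    · exfalso
      rw [e'] at h2
      have := Nat.le_of_dvd two_pos (orderOf_dvd_of_pow_eq_one h2)
      rw [h.ordx] at this; omega
    · exfalso
      rw [e', inv_pow, inv_eq_one] at h2
      have := Nat.le_of_dvd two_pos (orderOf_dvd_of_pow_eq_one h2)
      rw [h.ordx] at this; omega
  rw [hb1, mul_one] at e
  have hva : v = a := by
    have hca : c * a * c⁻¹ = a := by rw [(h.Z_comm hc ha).eq, mul_inv_cancel_right]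
    rw [← hca, ← e]; group
  rcases h.mem_Z_iff.1 ha with e' | e'
  · exact Involution.ne_one hv (hva.trans e')
  · exact hne (hva.trans e')

end Hyp

end Cfsg.Agent.SelfCentSix
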