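import Cfsg.Agent.Lib.SelfCentSix.Central

/-!
# The symmetric-group layer: setting and reflection bound

`Top h Q D S s` : `C_G(u)` is covered by `D × Q`, powers of `x`, and an element `s` of a Sylow 2-subgroup
`S ⊇ Q` inverting `x`.

* `Top.reflect`, `Top.bound` : an element of `S ∖ Q` centralizes little of `Q` modulo `⟨u⟩`
-/

set_option autoImplicit false
set_option linter.unusedSectionVars false
set_option linter.style.haveILetI false

namespace Cfsg.Agent.SelfCentSix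

open Subgroup SelfCentThree
open scoped commutatorElement

section generic

variable {K : Type*} [Group K] [Finite K] {X g : K}

theorem eq_one_of_reflection (hX : SC X) {Y : Subgroup K} (h3 : ¬ 3 ∣ Nat.card Y) (hY : Invar X Y)
    (hg : g * X * g⁻¹ * X⁻¹ * X⁻¹ ∈ Y) {e : K} (he : e ∈ Y) (h1 : Commute e g)
    (h2 : Commute e (X * g * X⁻¹)) : e = 1 := by
  obtain ⟨c, hcY, hc⟩ := hX.exists_conj_eq h3 hY hg
  have h := h1.mul_right h2.inv_right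
  rw [show g * (X * g * X⁻¹)⁻¹ = g * X * g⁻¹ * X⁻¹ * X⁻¹ * X by group, ← hc] at h
  have h' := h.map (MulAut.conj c⁻¹).toMonoidHom
  simp only [MulEquiv.coe_toMonoidHom, MulAut.conj_apply, inv_inv,
    show c⁻¹ * (c * X * c⁻¹) * c = X by group] at h'
  have := hX.eq_one_of_commute h3 (Y.mul_mem (Y.mul_mem (Y.inv_mem hcY) he) hcY) h'
  calc e = c * (c⁻¹ * e * c) * c⁻¹ := by group
    _ = 1 := by rw [this]; group

theorem card_sq_le_of_reflection (hX : SC X) {Y : Subgroup K} (h3 : ¬ 3 ∣ Nat.card Y)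
    (hY : Invar X Y) (hg : g * X * g⁻¹ * X⁻¹ * X⁻¹ ∈ Y) {A : Subgroup K} (hA : A ≤ Y)
    (hc : ∀ a ∈ A, Commute a g) : Nat.card A * Nat.card A ≤ Nat.card Y := by
  rw [← Nat.card_prod]
  refine Nat.card_le_card_of_injective (fun p : A × A =>
    (⟨(p.1 : K) * (X * (p.2 : K) * X⁻¹), Y.mul_mem (hA p.1.2) (hY _ (hA p.2.2))⟩ : Y)) ?_
  rintro ⟨⟨a, ha⟩, ⟨b, hb⟩⟩ ⟨⟨a', ha'⟩, ⟨b', hb'⟩⟩ e
  replace e : a * (X * b * X⁻¹) = a' * (X * b' * X⁻¹) := congrArg Subtype.val e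
  have e2 : a'⁻¹ * a = X * (b' * b⁻¹) * X⁻¹ := by
    calc a'⁻¹ * a = a'⁻¹ * (a * (X * b * X⁻¹)) * (X * b * X⁻¹)⁻¹ := by group
      _ = _ := by rw [e]; group
  have hm := A.mul_mem (A.inv_mem ha') ha
  have h1 := eq_one_of_reflection hX h3 hY hg (hA hm) (hc _ hm) (by
    rw [e2]
    simpa using (hc _ (A.mul_mem hb' (A.inv_mem hb))).map (MulAut.conj X).toMonoidHom)
  have e3 : a = a' := (inv_mul_eq_one.1 h1).symm
  subst e3
  have e4 : b = b' := mul_left_cancel (mul_right_cancel (mul_left_cancel e))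
  subst e4
  rfl

end generic

variable {G : Type*} [Group G] [Finite G] {u x : G}

theorem pr_commute {u : G} {a b : Cu u} (h : ⁅(a : G), (b : G)⁆ ∈ zpowers u) :
    Commute (pr u a) (pr u b) := by
  rw [← commutatorElement_eq_one_iff_commute, ← map_commutatorElement, pr_eq_one]
  exact h

theorem comm_symm_mem {a b u : G} (h : ⁅a, b⁆ ∈ zpowers u) : ⁅b, a⁆ ∈ zpowers u := by
  rw [← commutatorElement_inv]; exact inv_mem h

theorem Hyp.card_le_bar (h : Hyp u x) {A : Subgroup G} (hA : A ≤ Cu u) :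
    Nat.card A ≤ 2 * Nat.card (Hyp.bar u A) ∧
      (u ∈ A → Nat.card A = 2 * Nat.card (Hyp.bar u A)) := by
  set f := (pr u).comp (inclusion hA) with hf
  have hrange : f.range = Hyp.bar u A := by
    ext q
    constructor
    · rintro ⟨a, rfl⟩
      exact Hyp.pr_mem_bar (a := inclusion hA a) a.2
    · rintro ⟨c, hc, rfl⟩
      exact ⟨⟨c, mem_subgroupOf.1 hc⟩, rfl⟩
  have hcard := card_eq_card_quotient_mul_card_subgroup f.ker
  rw [Nat.card_congr (QuotientGroup.quotientKerEquivRange f).toEquiv, hrange] at hcard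
  have hker : ∀ a : A, a ∈ f.ker ↔ (a : G) ∈ zpowers u := fun a => by
    rw [MonoidHom.mem_ker, hf, MonoidHom.comp_apply, pr_eq_one]
    rfl
  have hle : Nat.card f.ker ≤ 2 := by
    rw [← show Nat.card (zpowers u) = 2 by rw [Nat.card_zpowers, h.ordu]]
    exact Nat.card_le_card_of_injective (fun a : f.ker => (⟨_, (hker _).1 a.2⟩ : zpowers u))
      fun a b e => Subtype.ext (Subtype.ext (congrArg (fun z : zpowers u => (z : G)) e))
  refine ⟨by rw [hcard, mul_comm 2]; exact Nat.mul_le_mul_left _ hle, fun hu => ?_⟩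
  have hge : 2 ≤ Nat.card f.ker := by
    rw [← show Nat.card (zpowers u) = 2 by rw [Nat.card_zpowers, h.ordu]]
    exact Nat.card_le_card_of_injective
      (fun z : zpowers u => (⟨⟨z, zpowers_le.2 hu z.2⟩, (hker _).2 z.2⟩ : f.ker))
      fun a b e => Subtype.ext (congrArg (fun z : f.ker => ((z : A) : G)) e)
  rw [hcard, le_antisymm hle hge, mul_comm]

/-- The hypotheses. -/
structure Top (h : Hyp u x) (Q D : Subgroup G) (S : Sylow 2 G) (s : G) : Prop where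
  Q_le : Q ≤ Cu u
  Q_normal : ∀ c ∈ Cu u, ∀ q ∈ Q, c * q * c⁻¹ ∈ Q
  u_mem : u ∈ Q
  D_le : D ≤ Cu u
  D_normal : ∀ c ∈ Cu u, ∀ d ∈ D, c * d * c⁻¹ ∈ D
  D_odd : Odd (Nat.card D)
  D_cent : ∀ d ∈ D, ∀ q ∈ Q, Commute d q
  le_S : Q ≤ (S : Subgroup G)
  S_le : (S : Subgroup G) ≤ Cu u
  s_mem : s ∈ (S : Subgroup G)
  s_not : s ∉ Q
  index : ∀ g ∈ (S : Subgroup G), g ∈ Q ∨ s⁻¹ * g ∈ Q
  sx : s * x * s⁻¹ = x⁻¹
  s2 : s * s ∈ zpowers u
  cover : ∀ c ∈ Cu u, ∃ d ∈ D, ∃ q ∈ Q, ∃ i : ℕ, c = d * q * x ^ i ∨ c = d * q * x ^ i * s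

namespace Top

variable {h : Hyp u x} {Q D : Subgroup G} {S : Sylow 2 G} {s : G} (T : Top h Q D S s)
include T

theorem inv : Invar x Q := T.Q_normal x h.x_mem

theorem three : ¬ 3 ∣ Nat.card Q := not_three_dvd_of_two (IsPGroup.to_le S.isPGroup' T.le_S)

theorem Z_le : zpowers u ≤ Q := zpowers_le.2 T.u_mem

theorem sC : s ∈ Cu u := T.S_le T.s_mem

theorem C_le_normalizer : Cu u ≤ normalizer (Q : Set G) := fun c hc =>
  mem_normalizer_iff.2 fun q => ⟨T.Q_normal c hc q, fun hq => by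
    have := T.Q_normal c⁻¹ (inv_mem hc) _ hq
    rwa [show c⁻¹ * (c * q * c⁻¹) * c⁻¹⁻¹ = q by group] at this⟩

theorem mul_mem_Q {g k : G} (hg : g ∈ (S : Subgroup G)) (hk : k ∈ (S : Subgroup G)) (hgQ : g ∉ Q)
    (hkQ : k ∉ Q) : g⁻¹ * k ∈ Q := by
  have a := (T.index g hg).resolve_left hgQ
  have b := (T.index k hk).resolve_left hkQ
  have := Q.mul_mem (Q.inv_mem a) b
  rwa [show (s⁻¹ * g)⁻¹ * (s⁻¹ * k) = g⁻¹ * k by group] at this

theorem mul_inv_mem_Q {g k : G} (hg : g ∈ (S : Subgroup G)) (hk : k ∈ (S : Subgroup G)) (hgQ : g ∉ Q)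
    (hkQ : k ∉ Q) : g * k⁻¹ ∈ Q := by
  have := T.mul_mem_Q (inv_mem hg) (inv_mem hk) (fun e => hgQ (inv_mem_iff.1 e))
    (fun e => hkQ (inv_mem_iff.1 e))
  rwa [inv_inv] at this

theorem card_le_two {B : Subgroup G} (hB : B ≤ (S : Subgroup G)) :
    Nat.card B ≤ 2 * Nat.card (B ⊓ Q : Subgroup G) := by
  classical
  by_cases hBQ : B ≤ Q
  · rw [inf_eq_left.2 hBQ]
    omega
  obtain ⟨k, hkB, hkQ⟩ := SetLike.not_le_iff_exists.1 hBQ
  let f : B → Bool × (B ⊓ Q : Subgroup G) := fun b =>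
    if hb : (b : G) ∈ Q then (false, ⟨b, mem_inf.2 ⟨b.2, hb⟩⟩)
    else (true, ⟨k⁻¹ * b, mem_inf.2 ⟨B.mul_mem (B.inv_mem hkB) b.2,
      T.mul_mem_Q (hB hkB) (hB b.2) hkQ hb⟩⟩)
  have hf : Function.Injective f := by
    intro a b e
    have e1 : (f a).1 = (f b).1 := congrArg Prod.fst e
    have e2 : ((f a).2 : G) = (f b).2 := by rw [e]
    by_cases ha : (a : G) ∈ Q <;> by_cases hb : (b : G) ∈ Q
    all_goals simp only [f, dif_pos, dif_neg, ha, hb, not_false_eq_true, Bool.false_eq_true,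
      Bool.true_eq_false] at e1 e2
    · exact Subtype.ext e2
    · exact Subtype.ext (mul_left_cancel e2)
  have := Nat.card_le_card_of_injective f hf
  simpa [Nat.card_prod] using this

theorem sx_shift {g : G} (hg : g ∈ (S : Subgroup G)) (hgQ : g ∉ Q) :
    g * x * g⁻¹ * x⁻¹ * x⁻¹ ∈ Q := by
  set q := s⁻¹ * g with hq
  have hqQ : q ∈ Q := (T.index g hg).resolve_left hgQ
  have e : s * (q * (x * q⁻¹ * x⁻¹)) * s⁻¹ = g * x * g⁻¹ * x⁻¹ * x⁻¹ := by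
    have hx3 : x⁻¹ * x⁻¹ = x := by
      rw [← mul_inv_rev]
      exact inv_eq_of_mul_eq_one_right (by rw [mul_assoc, ← pow_three, h.x3])
    calc s * (q * (x * q⁻¹ * x⁻¹)) * s⁻¹ = g * x * g⁻¹ * (s * x * s⁻¹)⁻¹ := by rw [hq]; group
      _ = g * x * g⁻¹ * x := by rw [T.sx, inv_inv]
      _ = g * x * g⁻¹ * (x⁻¹ * x⁻¹) := by rw [hx3]
      _ = _ := by group
  rw [← e]
  exact T.Q_normal s T.sC _ (mul_mem hqQ (T.inv _ (inv_mem hqQ)))

theorem bar_shift {g : G} (hg : g ∈ (S : Subgroup G)) (hgQ : g ∉ Q) :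
    pr u ⟨g, T.S_le hg⟩ * pr u ⟨x, h.x_mem⟩ * (pr u ⟨g, T.S_le hg⟩)⁻¹ * (pr u ⟨x, h.x_mem⟩)⁻¹ *
      (pr u ⟨x, h.x_mem⟩)⁻¹ ∈ Hyp.bar u Q := by
  simp only [← map_inv, ← map_mul]
  exact Hyp.pr_mem_bar (T.sx_shift hg hgQ)

/-- An element of `Q` centralized modulo `⟨u⟩` by `g` and its conjugate by `x` lies in `⟨u⟩`. -/
theorem reflect {g e : G} (hg : g ∈ (S : Subgroup G)) (hgQ : g ∉ Q) (he : e ∈ Q)
    (h1 : ⁅g, e⁆ ∈ zpowers u) (h2 : ⁅g, x⁻¹ * e * x⁆ ∈ zpowers u) : e ∈ zpowers u := by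
  have h2' : ⁅x * g * x⁻¹, e⁆ ∈ zpowers u := by
    rw [show ⁅x * g * x⁻¹, e⁆ = x * ⁅g, x⁻¹ * e * x⁆ * x⁻¹ by simp only [commutatorElement_def]; group,
      h.Z_x h2]
    exact h2
  have hxg : x * g * x⁻¹ ∈ Cu u := mul_mem (mul_mem h.x_mem (T.S_le hg)) (inv_mem h.x_mem)
  have c2 := (pr_commute (a := ⟨_, hxg⟩) (b := ⟨e, T.Q_le he⟩) h2').symm
  rw [show (⟨x * g * x⁻¹, hxg⟩ : Cu u) = ⟨x, h.x_mem⟩ * ⟨g, T.S_le hg⟩ * ⟨x, h.x_mem⟩⁻¹ from rfl,
    map_mul, map_mul, map_inv] at c2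
  exact pr_eq_one.1 (eq_one_of_reflection h.sc (Hyp.not_three_bar T.Q_le T.three) (h.invar_bar T.inv)
    (T.bar_shift hg hgQ) (Hyp.pr_mem_bar (a := ⟨e, T.Q_le he⟩) he)
    (pr_commute (a := ⟨g, T.S_le hg⟩) (b := ⟨e, T.Q_le he⟩) h1).symm c2)

theorem fixed_s {e : G} (he : e ∈ Q) (h1 : ⁅s, e⁆ ∈ zpowers u)
    (h2 : ⁅s, x * e * x⁻¹⁆ ∈ zpowers u) : e ∈ zpowers u := by
  have hz := T.reflect T.s_mem T.s_not (T.inv e he) h2
    (by rw [show x⁻¹ * (x * e * x⁻¹) * x = e by group]; exact h1)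
  have e' : e = x⁻¹ * (x * e * x⁻¹) * x := by group
  rw [e', mul_assoc, ← (h.Z_comm h.x_mem hz).eq, inv_mul_cancel_left]
  exact hz

theorem bound {g : G} (hg : g ∈ (S : Subgroup G)) (hgQ : g ∉ Q) {A : Subgroup G} (hA : A ≤ Q)
    (hc : ∀ a ∈ A, ⁅g, a⁆ ∈ zpowers u) : Nat.card A * Nat.card A ≤ 2 * Nat.card Q := by
  have hle := card_sq_le_of_reflection h.sc (Hyp.not_three_bar T.Q_le T.three) (h.invar_bar T.inv)
    (T.bar_shift hg hgQ) (A := Hyp.bar u A)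
    (map_mono fun a ha => mem_subgroupOf.2 (hA (mem_subgroupOf.1 ha)))
    (fun _ ⟨a, ha, e⟩ => e ▸ (pr_commute (a := ⟨g, T.S_le hg⟩) (b := a)
      (hc a (mem_subgroupOf.1 ha))).symm)
  have h1 := (h.card_le_bar (hA.trans T.Q_le)).1
  have h2 := (h.card_le_bar T.Q_le).2 T.u_mem
  calc Nat.card A * Nat.card A
      ≤ (2 * Nat.card (Hyp.bar u A)) * (2 * Nat.card (Hyp.bar u A)) := Nat.mul_le_mul h1 h1
    _ = 4 * (Nat.card (Hyp.bar u A) * Nat.card (Hyp.bar u A)) := by ring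
    _ ≤ 4 * Nat.card (Hyp.bar u Q) := Nat.mul_le_mul_left _ hle
    _ = 2 * Nat.card Q := by omega

theorem omegaCenter_le (h32 : 32 ≤ Nat.card Q) : omegaCenter (S : Subgroup G) ≤ omegaCenter Q := by
  rintro z ⟨hzS, hz2, hzc⟩
  refine ⟨by_contra fun hzQ => ?_, hz2, fun q hq => hzc q (T.le_S hq)⟩
  have := T.bound hzS hzQ le_rfl fun a ha => by
    rw [(commutatorElement_eq_one_iff_commute.2 (hzc a (T.le_S ha)).symm :)]
    exact one_mem _
  have := Nat.le_of_mul_le_mul_right this (by omega)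
  omega

theorem omegaCenter_inv {w : G} (hw : w ∈ omegaCenter Q) {c : G} (hc : c ∈ Cu u) :
    c * w * c⁻¹ ∈ omegaCenter Q := omegaCenter_conj (T.C_le_normalizer hc) hw

end Top

end Cfsg.Agent.SelfCentSix
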