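import Cfsg.Agent.Lib.SelfCentSix.Top
import Cfsg.Agent.Lib.SelfCentSix.Frame
import Cfsg.Agent.Lib.SelfCentSix.Module

/-!
# The symmetric-group layer: `u` is the only central involution

`Top.center_eq` : for `|Q| ≥ 32` the involutions of the center of `Q` lie in `⟨u⟩`.
-/

set_option autoImplicit false
set_option linter.unusedSectionVars false
set_option linter.style.haveILetI false

namespace Cfsg.Agent.SelfCentSix

open Subgroup SelfCentThree
open scoped commutatorElement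

variable {G : Type*} [Group G] [Finite G] {u x : G}

namespace Top

variable {h : Hyp u x} {Q D : Subgroup G} {S : Sylow 2 G} {s : G} (T : Top h Q D S s)
include T

theorem exists_not_fixed {w0 : G} (hw0 : w0 ∈ omegaCenter Q) (hw : w0 ∉ zpowers u) :
    ∃ a ∈ omegaCenter Q, ⁅s, a⁆ ∉ zpowers u := by
  by_contra hne
  push Not at hne
  exact hw (T.fixed_s hw0.1 (hne _ hw0) (hne _ (T.omegaCenter_inv hw0 h.x_mem)))

theorem exists_central {w0 : G} (hw0 : w0 ∈ omegaCenter Q) (hw : w0 ∉ zpowers u) :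
    ∃ z ∈ omegaCenter (S : Subgroup G), z ∉ zpowers u := by
  obtain ⟨a, ha, ha'⟩ := T.exists_not_fixed hw0 hw
  set b := s * a * s⁻¹ with hb
  have hbW : b ∈ omegaCenter Q := T.omegaCenter_inv ha T.sC
  obtain ⟨ha1, ha2, hac⟩ := ha
  have hba : Commute a b := (hbW.2.2 a ha1)
  have hsb : s * b * s⁻¹ = a := by
    calc s * b * s⁻¹ = (s * s) * a * (s * s)⁻¹ := by rw [hb]; group
      _ = a := by rw [(h.Z_comm (T.Q_le ha1) T.s2).symm.eq, mul_inv_cancel_right]
  have hz : a * b ∈ omegaCenter Q := mul_mem ⟨ha1, ha2, hac⟩ hbW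
  refine ⟨a * b, ⟨T.le_S hz.1, hz.2.1, fun g hg => ?_⟩, fun e => ha' ?_⟩
  · rcases T.index g hg with hq | hq
    · exact hz.2.2 g hq
    · have hs : Commute s (a * b) := by
        refine mul_inv_eq_iff_eq_mul.1 ?_
        rw [show s * (a * b) * s⁻¹ = s * a * s⁻¹ * (s * b * s⁻¹) by group, ← hb, hsb, hba.eq]
      have := hs.mul_left (hz.2.2 _ hq)
      rwa [mul_inv_cancel_left] at this
  · rw [commutatorElement_def, inv_eq_of_mul_eq_one_right ha2, ← hb, ← hba.eq]
    exact e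

/-- An element of `N(S)` moving `Q` turns all commutators of the center into one value. -/
theorem bad (h32 : 32 ≤ Nat.card Q) {k : G} (hk : k ∈ normalizer ((S : Subgroup G) : Set G))
    (hbad : ∃ q ∈ Q, k * q * k⁻¹ ∉ Q) :
    ∀ a ∈ omegaCenter Q, ∀ g ∈ (S : Subgroup G), ⁅a, g⁆ = 1 ∨ ⁅a, g⁆ = k⁻¹ * u * k := by
  obtain ⟨q1, hq1, hq1'⟩ := hbad
  set k1 := k * q1 * k⁻¹ with hk1
  have hkS : ∀ g ∈ (S : Subgroup G), k * g * k⁻¹ ∈ (S : Subgroup G) := fun g hg =>
    (mem_normalizer_iff.1 hk g).1 hg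
  have hkS' : ∀ g ∈ (S : Subgroup G), k⁻¹ * g * k ∈ (S : Subgroup G) := fun g hg =>
    (mem_normalizer_iff''.1 hk g).1 hg
  have hk1S : k1 ∈ (S : Subgroup G) := hkS _ (T.le_S hq1)
  intro a ha g hg
  set a' := k * a * k⁻¹ with ha'
  have hcom : ∀ q ∈ Q, Commute a' (k * q * k⁻¹) := fun q hq => by
    simpa [a'] using (ha.2.2 q hq).symm.map (MulAut.conj k).toMonoidHom
  have hcom' : ∀ q, k⁻¹ * q * k ∈ Q → ⁅a', q⁆ = 1 := fun q hq => by
    refine commutatorElement_eq_one_iff_commute.2 ?_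
    have := hcom _ hq
    rwa [show k * (k⁻¹ * q * k) * k⁻¹ = q by group] at this
  have ha'S : a' ∈ (S : Subgroup G) := hkS _ (T.le_S ha.1)
  have ha'Q : a' ∈ Q := by
    by_contra hnQ
    set B := Q.map (MulAut.conj k).toMonoidHom with hB
    have hBS : B ≤ (S : Subgroup G) := by
      rintro _ ⟨q, hq, rfl⟩
      exact hkS _ (T.le_S hq)
    have h1 := T.card_le_two hBS
    rw [show Nat.card B = Nat.card Q from card_map_of_injective (MulAut.conj k).injective] at h1
    have h2 := T.bound ha'S hnQ (A := B ⊓ Q) inf_le_right fun b hb => by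
      obtain ⟨q, hq, rfl⟩ := (mem_inf.1 hb).1
      rw [show (MulAut.conj k).toMonoidHom q = k * q * k⁻¹ from rfl,
        (commutatorElement_eq_one_iff_commute.2 (hcom q hq) :)]
      exact one_mem _
    nlinarith
  have hQ1 : ∀ q ∈ Q, ⁅a', q⁆ ∈ zpowers u := by
    intro q hq
    by_cases hm : k⁻¹ * q * k ∈ Q
    · rw [hcom' q hm]; exact one_mem _
    set c := ⁅a', q⁆ with hc
    have hconst : ∀ q' ∈ Q, k⁻¹ * q' * k ∉ Q → ⁅a', q'⁆ = c := by
      intro q' hq' hm'
      have hmm := T.mul_mem_Q (hkS' _ (T.le_S hq)) (hkS' _ (T.le_S hq')) hm hm'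
      rw [show (k⁻¹ * q * k)⁻¹ * (k⁻¹ * q' * k) = k⁻¹ * (q⁻¹ * q') * k by group] at hmm
      rw [show q' = q * (q⁻¹ * q') by group, comm_mul_right, hcom' _ hmm, mul_one, mul_inv_cancel,
        mul_one]
    have hcQ : c ∈ Q := by
      rw [hc, commutatorElement_def]
      exact mul_mem (mul_mem (mul_mem ha'Q hq) (inv_mem ha'Q)) (inv_mem hq)
    have hs := h.swap T.Q_le T.three T.inv ha'Q (invar_le_conj T.inv hq)
    rw [show x * (x⁻¹ * q * x) * x⁻¹ = q by group, ← hc,
      show ⁅x * a' * x⁻¹, x⁻¹ * q * x⁆ = x * ⁅a', x⁻¹ * (x⁻¹ * q * x) * x⁆ * x⁻¹ by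
        simp only [commutatorElement_def]; group] at hs
    by_cases hm2 : k⁻¹ * (x⁻¹ * (x⁻¹ * q * x) * x) * k ∈ Q
    · rw [hcom' _ hm2] at hs
      simpa using hs
    · rw [hconst _ (invar_le_conj T.inv (invar_le_conj T.inv hq)) hm2] at hs
      refine h.fixed T.Q_le T.three T.inv hcQ ?_
      have hz := inv_mem hs
      rw [mul_inv_rev, inv_inv] at hz
      have e : x * c * x⁻¹ * c⁻¹ = c * (c⁻¹ * (x * c * x⁻¹)) * c⁻¹ := by group
      rw [e, (h.Z_comm (T.Q_le hcQ) hz).eq, mul_inv_cancel_right]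
      exact hz
  have hval : ⁅a', k * g * k⁻¹⁆ ∈ zpowers u := by
    set g' := k * g * k⁻¹
    have hg'S : g' ∈ (S : Subgroup G) := hkS _ hg
    by_cases hgQ : g' ∈ Q
    · exact hQ1 _ hgQ
    · have hq := T.mul_inv_mem_Q hg'S hk1S hgQ hq1'
      rw [show g' = g' * k1⁻¹ * k1 by group, comm_mul_right,
        (commutatorElement_eq_one_iff_commute.2 (hcom q1 hq1) :), mul_one, mul_inv_cancel, mul_one]
      exact hQ1 _ hq
  rw [← conj_comm] at hval
  rcases h.mem_Z_iff.1 hval with e | e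
  · exact Or.inl (conj_eq_one_iff.1 e)
  · refine Or.inr ?_
    rw [← e]; group

theorem exists_mover (h32 : 32 ≤ Nat.card Q) {w0 : G} (hw0 : w0 ∈ omegaCenter Q)
    (hw : w0 ∉ zpowers u) : ∃ n ∈ normalizer (Q : Set G), ¬ Commute n u := by
  obtain ⟨z, hz, hzu⟩ := T.exists_central hw0 hw
  have huW : u ∈ omegaCenter (S : Subgroup G) :=
    ⟨T.le_S T.u_mem, h.u2, fun g hg => mem_Cu.1 (T.S_le hg)⟩
  have good : ∀ {k}, (∀ q ∈ Q, k * q * k⁻¹ ∈ Q) → k ∈ normalizer (Q : Set G) :=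
    fun hk => mem_normalizer_of_invar hk
  have hz2 : orderOf z = 2 := Involution.orderOf_of_sq hz.2.1 fun e => hzu (e ▸ one_mem _)
  obtain ⟨n, hn, en⟩ := exists_normalizer_conj S huW.2.2 hz.2.2 (h.fused u z h.ordu hz2)
  by_cases hnQ : ∀ q ∈ Q, n * q * n⁻¹ ∈ Q
  · refine ⟨n, good hnQ, fun hc => hzu ?_⟩
    rw [← en, hc.eq, mul_inv_cancel_right]; exact mem_zpowers u
  push Not at hnQ
  obtain ⟨a0, ha0, ha0'⟩ := T.exists_not_fixed hw0 hw
  have hc0 : ⁅a0, s⁆ ∉ zpowers u := fun e => ha0' (comm_symm_mem e)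
  set v := n⁻¹ * u * n with hv
  have hv0 : ⁅a0, s⁆ = v := (T.bad h32 hn hnQ a0 ha0 s T.s_mem).resolve_left fun e =>
    hc0 (e ▸ one_mem _)
  have hvW : v ∈ omegaCenter (S : Subgroup G) := by
    have := omegaCenter_conj (inv_mem hn) huW
    rwa [inv_inv] at this
  have hvu : v ∉ zpowers u := hv0 ▸ hc0
  set b := u * v
  have hb : b ∈ omegaCenter (S : Subgroup G) := mul_mem huW hvW
  have hb1 : b ≠ 1 := fun e => hvu (by
    rw [eq_inv_of_mul_eq_one_right e]; exact inv_mem (mem_zpowers u))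
  have hbu : b ≠ u := fun e => hvu (by
    rw [show v = u⁻¹ * b by simp [b], e, inv_mul_cancel]; exact one_mem _)
  obtain ⟨m, hm, em⟩ := exists_normalizer_conj S hb.2.2 huW.2.2
    (h.fused b u (Involution.orderOf_of_sq hb.2.1 hb1) h.ordu)
  have hmb : m⁻¹ * u * m = b := by rw [← em]; group
  refine ⟨m, good (by_contra fun hmQ => ?_), fun hc => hbu ?_⟩
  · push Not at hmQ
    have := (T.bad h32 hm hmQ a0 ha0 s T.s_mem).resolve_left fun e => hc0 (e ▸ one_mem _)
    rw [hv0, hmb] at this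
    exact h.u_ne (mul_eq_right.1 this.symm)
  · rw [← hmb, mul_assoc, ← hc.eq, inv_mul_cancel_left]

theorem center_eq (h32 : 32 ≤ Nat.card Q) : ∀ z ∈ omegaCenter Q, z ∈ zpowers u := by
  classical
  haveI : Fact (Nat.Prime 2) := ⟨Nat.prime_two⟩
  by_contra hne
  push Not at hne
  obtain ⟨w0, hw0, hwZ⟩ := hne
  obtain ⟨n, hn, hnu⟩ := T.exists_mover h32 hw0 hwZ
  set N := normalizer (Q : Set G) with hN
  have hCN := T.C_le_normalizer
  have hWQ : omegaCenter Q ≤ Q := fun _ ha => ha.1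
  have hWN : omegaCenter Q ≤ N := fun _ ha => le_normalizer ha.1
  haveI : ((omegaCenter Q).subgroupOf N).Normal := ⟨fun a ha g => omegaCenter_conj g.2 ha⟩
  let E := ((omegaCenter Q).subgroupOf N)
  letI : CommGroup E :=
    { (inferInstance : Group E) with
      mul_comm := fun a b => Subtype.ext (Subtype.ext
        ((mem_subgroupOf.1 b.2).2.2 _ (mem_subgroupOf.1 a.2).1).eq) }
  let α : N →* MulAut E := MulAut.conjNormal
  have hα : ∀ (g : N) (e : E), (((α g e : E) : N) : G) = (g : G) * ((e : N) : G) * (g : G)⁻¹ :=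
    fun g e => by simp only [α, MulAut.conjNormal_apply]; rfl
  have hα1 : ∀ g : N, (∀ a ∈ omegaCenter Q, Commute (g : G) a) → α g = 1 := fun g hg =>
    MulEquiv.ext fun e => Subtype.ext (Subtype.ext (by
      rw [hα, (hg _ (mem_subgroupOf.1 e.2)).eq, mul_inv_cancel_right]
      rfl))
  let uE : E := ⟨⟨u, hCN h.u_mem⟩,
    mem_subgroupOf.2 ⟨T.u_mem, h.u2, fun q hq => mem_Cu.1 (T.Q_le hq)⟩⟩
  let mkE : ∀ a ∈ omegaCenter Q, E := fun a ha => ⟨⟨a, hWN ha⟩, mem_subgroupOf.2 ha⟩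
  let xN : N := ⟨x, hCN h.x_mem⟩
  let sN : N := ⟨s, hCN T.sC⟩
  set H := α.range
  set X : H := α.rangeRestrict xN with hX
  set σ : H := α.rangeRestrict sN with hσ
  have hX3 : X ^ 3 = 1 := by
    rw [hX, ← map_pow, show xN ^ 3 = 1 from Subtype.ext (by simpa [xN] using h.x3), map_one]
  -- the stabilizer of `u`
  have hstab : ∀ k : H, (k : MulAut E) uE = uE → ∃ i : ℕ, k = X ^ i ∨ k = X ^ i * σ := by
    rintro ⟨_, g, rfl⟩ hk
    have hgu : (g : G) ∈ Cu u := mem_Cu.2 (mul_inv_eq_iff_eq_mul.1 (by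
      have := congrArg (fun e : E => ((e : N) : G)) hk
      rw [hα] at this
      exact this))
    obtain ⟨d, hd, q, hq, i, hg⟩ := T.cover _ hgu
    have hd1 : α ⟨d, hCN (T.D_le hd)⟩ = 1 := hα1 _ fun a ha => T.D_cent d hd a ha.1
    have hq1 : α ⟨q, hCN (T.Q_le hq)⟩ = 1 := hα1 _ fun a ha => ha.2.2 q hq
    refine ⟨i, hg.imp (fun e => Subtype.ext ?_) fun e => Subtype.ext ?_⟩
    · rw [show g = ⟨d, hCN (T.D_le hd)⟩ * ⟨q, hCN (T.Q_le hq)⟩ * xN ^ i from
        Subtype.ext (by simpa [xN] using e)]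
      show α (⟨d, hCN (T.D_le hd)⟩ * ⟨q, hCN (T.Q_le hq)⟩ * xN ^ i) = ((X ^ i : H) : MulAut E)
      rw [map_mul, map_mul, map_pow, hd1, hq1, one_mul, one_mul]
      rfl
    · rw [show g = ⟨d, hCN (T.D_le hd)⟩ * ⟨q, hCN (T.Q_le hq)⟩ * xN ^ i * sN from
        Subtype.ext (by simpa [xN, sN] using e)]
      show α (⟨d, hCN (T.D_le hd)⟩ * ⟨q, hCN (T.Q_le hq)⟩ * xN ^ i * sN) =
        ((X ^ i * σ : H) : MulAut E)
      rw [map_mul, map_mul, map_mul, map_pow, hd1, hq1, one_mul, one_mul]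
      rfl
  have hfix : ∀ e : E, (X : MulAut E) e = e → e = 1 ∨ e = uE := by
    intro e he
    have he' : x * ((e : N) : G) * x⁻¹ = ((e : N) : G) := by
      have := congrArg (fun e : E => ((e : N) : G)) he
      rwa [MonoidHom.coe_rangeRestrict, hα] at this
    have hem := mem_subgroupOf.1 e.2
    rcases h.mem_Z_iff.1 (h.eq_of_commute T.Q_le T.three T.inv hem.1
      (mul_inv_eq_iff_eq_mul.1 he').symm) with e' | e'
    · exact Or.inl (Subtype.ext (Subtype.ext e'))
    · exact Or.inr (Subtype.ext (Subtype.ext e'))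
  have hXu : (X : MulAut E) uE = uE := Subtype.ext (Subtype.ext (by
    rw [MonoidHom.coe_rangeRestrict, hα]; exact h.x_conj_u))
  have hσu : (σ : MulAut E) uE = uE := Subtype.ext (Subtype.ext (by
    rw [MonoidHom.coe_rangeRestrict, hα]
    show s * u * s⁻¹ = u
    rw [(mem_Cu.1 T.sC).eq, mul_inv_cancel_right]))
  have hXne : X ≠ 1 := fun e => by
    have h1 := hfix (mkE w0 hw0) (by rw [e]; rfl)
    rcases h1 with e' | e' <;> refine hwZ (h.mem_Z_iff.2 ?_)
    · exact Or.inl (congrArg (fun e : E => ((e : N) : G)) e')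
    · exact Or.inr (congrArg (fun e : E => ((e : N) : G)) e')
  have hXo : orderOf X = 3 := orderOf_eq_prime (hp := ⟨Nat.prime_three⟩) hX3 hXne
  have hσ2 : σ * σ = 1 := by
    rw [hσ, ← map_mul]
    exact Subtype.ext (hα1 (sN * sN) fun a ha => ha.2.2 _ (T.Z_le T.s2))
  have hσne : σ ≠ 1 := fun e => by
    obtain ⟨a, ha, ha'⟩ := T.exists_not_fixed hw0 hwZ
    refine ha' ?_
    have h1 := congrArg (fun k : H => ((((k : MulAut E) (mkE a ha) : E) : N) : G)) e
    simp only [σ, MonoidHom.coe_rangeRestrict, hα, OneMemClass.coe_one, MulAut.one_apply] at h1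
    change s * a * s⁻¹ = a at h1
    rw [commutatorElement_def, h1, mul_inv_cancel]
    exact one_mem _
  have hσX : σ * X * σ⁻¹ = X⁻¹ := by
    rw [hσ, hX, ← map_inv, ← map_mul, ← map_mul, ← map_inv]
    exact congrArg α.rangeRestrict (Subtype.ext T.sx)
  have hXσ : ¬ Commute X σ := fun hc => by
    rw [hc.symm.eq, mul_inv_cancel_right] at hσX
    have : X ^ 2 = 1 := by rw [sq]; nth_rw 1 [hσX]; exact inv_mul_cancel X
    have := Nat.le_of_dvd two_pos (orderOf_dvd_of_pow_eq_one this)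
    omega
  have hcent : ∀ k : H, Commute k X → k ∈ zpowers X := by
    intro k hk
    have hku : (k : MulAut E) uE = uE := by
      have h1 : (X : MulAut E) ((k : MulAut E) uE) = (k : MulAut E) uE := by
        rw [← MulAut.mul_apply, ← Subgroup.coe_mul, ← hk.eq, Subgroup.coe_mul, MulAut.mul_apply, hXu]
      refine (hfix _ h1).resolve_left fun e => h.u_ne ?_
      exact congrArg (fun e : E => ((e : N) : G)) ((map_eq_one_iff _ (k : MulAut E).injective).1 e)
    rcases hstab k hku with ⟨i, rfl | rfl⟩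
    · exact pow_mem (mem_zpowers X) i
    · refine absurd ?_ hXσ
      have := ((Commute.refl X).pow_left i).inv_left.mul_left hk
      rw [inv_mul_cancel_left] at this
      exact this.symm
  -- the Sylow subgroup
  have hSN : (S : Subgroup G) ≤ N := T.S_le.trans hCN
  let P : Sylow 2 H := (S.subtype hSN).mapSurjective α.rangeRestrict_surjective
  have hPmem : ∀ p ∈ (P : Subgroup H), p = 1 ∨ p = σ := by
    intro p hp
    obtain ⟨g, hg, rfl⟩ := (hp : p ∈ (S.subtype hSN : Subgroup N).map α.rangeRestrict)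
    have hg' : (g : G) ∈ (S : Subgroup G) := hg
    rcases T.index _ hg' with hq | hq
    · exact Or.inl (Subtype.ext (hα1 g fun a ha => ha.2.2 _ hq))
    · refine Or.inr (Subtype.ext ?_)
      rw [show g = sN * ⟨s⁻¹ * g, hCN (T.Q_le hq)⟩ from Subtype.ext (by simp [sN])]
      show α (sN * ⟨s⁻¹ * g, hCN (T.Q_le hq)⟩) = α sN
      rw [map_mul, hα1 ⟨s⁻¹ * g, hCN (T.Q_le hq)⟩ fun a ha => ha.2.2 _ hq, mul_one]
  have hσP : σ ∈ (P : Subgroup H) :=
    (mem_map_of_mem α.rangeRestrict (show sN ∈ (S.subtype hSN : Subgroup N) from T.s_mem) :)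
  have hP : normalizer ((P : Subgroup H) : Set H) ≤ centralizer ((P : Subgroup H) : Set H) := by
    intro k hk
    refine mem_centralizer_iff.2 fun p hp => ?_
    rcases hPmem p hp with rfl | rfl
    · rw [one_mul, mul_one]
    · rcases hPmem _ ((mem_normalizer_iff.1 hk _).1 hσP) with e | e
      · exact absurd (conj_eq_one_iff.1 e) hσne
      · exact (mul_inv_eq_iff_eq_mul.1 e).symm
  have hPc : Nat.card (P : Subgroup H) = 2 := by
    rw [show (P : Subgroup H) = zpowers σ from le_antisymm (fun p hp => by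
      rcases hPmem p hp with rfl | rfl
      exacts [one_mem _, mem_zpowers _]) (zpowers_le.2 hσP), Nat.card_zpowers]
    exact Involution.orderOf_of_sq hσ2 hσne
  set K := (MonoidHom.transferSylow P hP).ker
  have hcomp := MonoidHom.ker_transferSylow_isComplement' P hP
  have hKodd : Odd (Nat.card K) := Nat.odd_iff.2 (by
    have : ¬ 2 ∣ Nat.card K := MonoidHom.not_dvd_card_ker_transferSylow P hP
    omega)
  have hXK : X ∈ K := by
    rw [MonoidHom.mem_ker, ← orderOf_eq_one_iff]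
    have h2 := orderOf_dvd_natCard (MonoidHom.transferSylow P hP X)
    rw [hPc] at h2
    have h3 : orderOf (MonoidHom.transferSylow P hP X) ∣ 3 := hXo ▸ orderOf_map_dvd _ _
    exact Nat.eq_one_of_dvd_coprimes (by norm_num) h2 h3
  set X' : K := ⟨X, hXK⟩ with hX'
  have hX'o : orderOf X' = 3 := by rw [← orderOf_coe, hXo]
  have hX'c : ∀ k : K, Commute k X' → k ∈ zpowers X' := fun k hk => by
    obtain ⟨i, hi⟩ := mem_zpowers_iff.1 (hcent k (congrArg Subtype.val hk.eq))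
    exact mem_zpowers_iff.2 ⟨i, Subtype.ext (by simpa [X'] using hi)⟩
  obtain ⟨F, hF, hFcard⟩ := exists_complement (H := K) hKodd hX'o hX'c
  have hsc : SC X' := ⟨hX'o, hX'c⟩
  have hF3 : ¬ 3 ∣ Nat.card F := fun hd => by
    obtain ⟨g, hg⟩ := exists_prime_orderOf_dvd_card' (hp := ⟨Nat.prime_three⟩) 3 hd
    exact (hF g).1 g.2 (by rw [orderOf_coe, hg])
  have hFX : Invar X' F := fun k hk => (hF _).2 (by
    rw [show X' * k * X'⁻¹ = MulAut.conj X' k from rfl, MulEquiv.orderOf_eq]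
    exact (hF k).1 hk)
  let c : K → K := fun k => ⟨σ * k * σ⁻¹, (inferInstance : K.Normal).conj_mem _ k.2 σ⟩
  have hcF : ∀ k ∈ F, c k ∈ F := fun k hk => (hF _).2 (by
    rw [← orderOf_coe (c k), show ((c k : K) : H) = MulAut.conj σ (k : H) from rfl, MulEquiv.orderOf_eq,
      orderOf_coe]
    exact (hF k).1 hk)
  have hFne : ∃ k ∈ F, k ≠ 1 := by
    by_contra hall
    push Not at hall
    have hK3 : ∀ k ∈ K, (k : H) ∈ zpowers X := by
      have e : Nat.card K = 3 := by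
        rw [hFcard, (Subgroup.eq_bot_iff_forall F).2 hall, Subgroup.card_bot]
      have : zpowers X = K := eq_of_le_of_card_ge (zpowers_le.2 hXK)
        (by rw [Nat.card_zpowers, hXo, e])
      exact fun k hk => this.symm ▸ hk
    obtain ⟨⟨⟨a, ha⟩, ⟨p, hp⟩⟩, e⟩ := hcomp.2 (α.rangeRestrict ⟨n, hn⟩)
    have hu : ((α.rangeRestrict ⟨n, hn⟩ : H) : MulAut E) uE = uE := by
      have hau : (a : MulAut E) uE = uE := by
        have hle : zpowers X ≤ (MulAction.stabilizer (MulAut E) uE).comap H.subtype :=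
          zpowers_le.2 hXu
        exact hle (hK3 a ha)
      rw [← e]
      show ((a * p : H) : MulAut E) uE = uE
      rw [Subgroup.coe_mul, MulAut.mul_apply]
      rcases hPmem p hp with rfl | rfl
      · rw [OneMemClass.coe_one, MulAut.one_apply, hau]
      · rw [hσu, hau]
    have := congrArg (fun e : E => ((e : N) : G)) hu
    rw [MonoidHom.coe_rangeRestrict, hα] at this
    exact hnu (mul_inv_eq_iff_eq_mul.1 this)
  obtain ⟨f0, hf0F, hf0, hf0s⟩ : ∃ f0 ∈ F, f0 ≠ 1 ∧ σ * (f0 : H) * σ⁻¹ = f0 := by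
    by_contra hall
    push Not at hall
    let g : F → F := fun k => ⟨(k : K)⁻¹ * c k, mul_mem (inv_mem k.2) (hcF _ k.2)⟩
    have hg : Function.Injective g := by
      rintro ⟨a, ha⟩ ⟨b, hb⟩ e
      have e' : ((a : H))⁻¹ * (σ * (a : H) * σ⁻¹) = (b : H)⁻¹ * (σ * (b : H) * σ⁻¹) :=
        congrArg (fun k : F => ((k : K) : H)) e
      refine Subtype.ext (inv_mul_eq_one.1 (by_contra fun hne => ?_)).symm
      refine hall (b * a⁻¹) (mul_mem hb (inv_mem ha)) (fun e0 => hne ?_) ?_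
      · have := mul_inv_eq_one.1 e0
        subst this
        exact inv_mul_cancel _
      · simp only [Subgroup.coe_mul, InvMemClass.coe_inv]
        calc σ * ((b : H) * (a : H)⁻¹) * σ⁻¹
            = (b : H) * ((b : H)⁻¹ * (σ * b * σ⁻¹)) * ((a : H)⁻¹ * (σ * a * σ⁻¹))⁻¹ * (a : H)⁻¹ := by
              group
          _ = _ := by rw [← e']; group
    have hinv : ∀ y ∈ F, σ * (y : H) * σ⁻¹ = (y : H)⁻¹ := by
      intro y hy
      obtain ⟨⟨k, hk⟩, e⟩ := Finite.surjective_of_injective hg ⟨y, hy⟩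
      have e' : (k : H)⁻¹ * (σ * (k : H) * σ⁻¹) = y := congrArg (fun k : F => ((k : K) : H)) e
      have hσi : σ⁻¹ = σ := inv_eq_of_mul_eq_one_right hσ2
      rw [← e']
      calc σ * ((k : H)⁻¹ * (σ * (k : H) * σ⁻¹)) * σ⁻¹
          = σ * (k : H)⁻¹ * σ * (k : H) * (σ * σ)⁻¹ := by group
        _ = σ * (k : H)⁻¹ * σ⁻¹ * (k : H) := by rw [hσ2, hσi]; group
        _ = _ := by group
    obtain ⟨k, hk, hk1⟩ := hFne
    refine hk1 (hsc.eq_one_of_commute hF3 hk (Subtype.ext ?_))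
    have h1 := hinv _ (hFX k hk)
    simp only [Subgroup.coe_mul, InvMemClass.coe_inv, X'] at h1
    rw [show σ * (X * (k : H) * X⁻¹) * σ⁻¹ = (σ * X * σ⁻¹) * (σ * k * σ⁻¹) * (σ * X * σ⁻¹)⁻¹ by group,
      hσX, hinv k hk, inv_inv, mul_inv_rev, mul_inv_rev, inv_inv] at h1
    have h2 : Commute ((k : H)⁻¹) (X * X) := by
      show (k : H)⁻¹ * (X * X) = X * X * (k : H)⁻¹
      calc (k : H)⁻¹ * (X * X) = X * (X⁻¹ * (k : H)⁻¹ * X) * X := by group
        _ = X * (X * ((k : H)⁻¹ * X⁻¹)) * X := by rw [h1]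
        _ = _ := by group
    have hXX : X = (X * X) * (X * X) := by
      calc X = X ^ 3 * X := by rw [hX3, one_mul]
        _ = _ := by simp only [pow_three, mul_assoc]
    have h3 : Commute ((k : H)⁻¹) X := by rw [hXX]; exact h2.mul_right h2
    exact (Commute.inv_left_iff.1 h3).eq
  -- an element of prime order
  set p := (orderOf f0).minFac with hp
  have hp' : p.Prime := Nat.minFac_prime fun e => hf0 (orderOf_eq_one_iff.1 e)
  have hpd : p ∣ orderOf f0 := Nat.minFac_dvd _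
  set f := f0 ^ (orderOf f0 / p) with hf
  have hfo : orderOf f = p := by
    rw [hf, orderOf_pow_of_dvd (by
      have := Nat.le_of_dvd (orderOf_pos f0) hpd
      exact (Nat.div_pos this hp'.pos).ne') (Nat.div_dvd_of_dvd hpd),
      Nat.div_div_self hpd (orderOf_pos f0).ne']
  have hfF : f ∈ F := pow_mem hf0F _
  have hpodd : Odd p := hKodd.of_dvd_nat (hfo ▸ orderOf_dvd_natCard f)
  set f1 := X' * f * X'⁻¹
  have hf1F : f1 ∈ F := hFX f hfF
  have r1 := hsc.cube_rel hF3 hFX hfF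
  have r2 := hsc.cube_rel' hF3 hFX hfF
  have e2 : X' * f1 * X'⁻¹ = (f * f1)⁻¹ := eq_inv_of_mul_eq_one_right r1
  have hcK : Commute f f1 := by
    change f * (X' * f1 * X'⁻¹) * f1 = 1 at r2
    rw [e2] at r2
    have e4 : Commute f f1⁻¹ := by
      show f * f1⁻¹ = f1⁻¹ * f
      calc f * f1⁻¹ = f * (f * f1)⁻¹ * f1 * (f1⁻¹ * f) := by group
        _ = f1⁻¹ * f := by rw [r2, one_mul]
    exact inv_inv f1 ▸ e4.inv_right
  have hEsq : ∀ e : E, e * e = 1 := fun e =>
    Subtype.ext (Subtype.ext (mem_subgroupOf.1 e.2).2.1)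
  refine no_module H.subtype hEsq hp' hpodd (x := X) (σ := σ) (f := (f : H)) (u := uE)
    (by rw [orderOf_coe, hfo]) hX3 hσX ?_ (congrArg Subtype.val hcK.eq)
    (congrArg Subtype.val e2) ?_ hfix ?_
  · rw [hf, SubgroupClass.coe_pow, ← conj_pow, hf0s]
  · intro a ha hax
    have hle : closure ({(f : H), X * (f : H) * X⁻¹} : Set H) ≤ F.map K.subtype := by
      rw [closure_le]
      rintro b (rfl | rfl)
      exacts [mem_map_of_mem _ hfF, mem_map_of_mem _ hf1F]
    obtain ⟨b, hb, rfl⟩ := hle ha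
    rw [show b = 1 from hsc.eq_one_of_commute hF3 hb (Subtype.ext hax.eq)]
    rfl
  · by_contra hall
    push Not at hall
    have : (f : H) = 1 := Subtype.ext (MulEquiv.ext hall)
    rw [show f = 1 from Subtype.ext this, orderOf_one] at hfo
    exact hp'.one_lt.ne hfo

end Top

end Cfsg.Agent.SelfCentSix
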