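import Cfsg.Agent.Lib.SelfCentSix.TopCenter

/-!
# The symmetric-group layer: a frame fixed by `s`

* `Top.normalise` : an involution fixed by `s` modulo `⟨u⟩` can be adjusted to be fixed by `s`
* `Top.exists_frame` : for `|Q| ≥ 32` there is a frame whose involution commutes with `s`
-/

set_option autoImplicit false
set_option linter.unusedSectionVars false
set_option linter.style.haveILetI false

namespace Cfsg.Agent.SelfCentSix

open Subgroup SelfCentThree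
open scoped commutatorElement

variable {G : Type*} [Group G] [Finite G] {u x : G}

/-- An involution of an invariant subgroup commutes with its conjugate by `x`. -/
theorem Hyp.commute_conj (h : Hyp u x) {A : Subgroup G} (hA : A ≤ Cu u) (h3 : ¬ 3 ∣ Nat.card A)
    (hx : Invar x A) {a : G} (ha : a ∈ A) (ha2 : a * a = 1) : Commute a (x * a * x⁻¹) := by
  have hm := h.cube hA h3 hx ha
  set a1 := x * a * x⁻¹ with ha1
  set a2 := x * a1 * x⁻¹ with ha2'
  set z := a * a1 * a2 with hz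
  have h11 : a1 * a1 = 1 := by
    rw [ha1, show x * a * x⁻¹ * (x * a * x⁻¹) = x * (a * a) * x⁻¹ by group, ha2, mul_one,
      mul_inv_cancel]
  have h22 : a2 * a2 = 1 := by
    rw [ha2', show x * a1 * x⁻¹ * (x * a1 * x⁻¹) = x * (a1 * a1) * x⁻¹ by group, h11, mul_one,
      mul_inv_cancel]
  have hzc : Commute a2 z := h.Z_comm (hA (hx _ (hx _ ha))) hm
  have hzz : z * z = 1 := by rcases h.mem_Z_iff.1 hm with e | e <;> rw [e] <;> simp [h.u2]
  have e : a * a1 = z * a2 := by rw [hz, mul_assoc, h22, mul_one]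
  have e2 : (a * a1) * (a * a1) = 1 := by
    rw [e, hzc.mul_mul_mul_comm, hzz, h22, one_mul]
  show a * a1 = a1 * a
  calc a * a1 = (a * a1)⁻¹ := (inv_eq_of_mul_eq_one_right e2).symm
    _ = a1⁻¹ * a⁻¹ := mul_inv_rev _ _
    _ = a1 * a := by rw [inv_eq_of_mul_eq_one_right h11, inv_eq_of_mul_eq_one_right ha2]

namespace Top

variable {h : Hyp u x} {Q D : Subgroup G} {S : Sylow 2 G} {s : G} (T : Top h Q D S s)
include T

theorem normalise {p : G} (hp : p ∈ Q) (hp2 : p * p = 1) (hsp : ⁅s, p⁆ ∈ zpowers u) :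
    ∃ v ∈ Q, v * v = 1 ∧ p⁻¹ * v ∈ zpowers u ∧ v * (x * v * x⁻¹) * (x * (x * v * x⁻¹) * x⁻¹) = 1 ∧
      s * v * s⁻¹ = v := by
  have hpu : Commute p u := mem_Cu.1 (T.Q_le hp)
  obtain ⟨v, hv, hv2, hvp, hv1⟩ : ∃ v ∈ Q, v * v = 1 ∧ p⁻¹ * v ∈ zpowers u ∧
      v * (x * v * x⁻¹) * (x * (x * v * x⁻¹) * x⁻¹) = 1 := by
    rcases h.mem_Z_iff.1 (h.cube T.Q_le T.three T.inv hp) with e | e
    · exact ⟨p, hp, hp2, by rw [inv_mul_cancel]; exact one_mem _, e⟩
    · refine ⟨p * u, mul_mem hp T.u_mem, by rw [hpu.symm.mul_mul_mul_comm, hp2, h.u2, one_mul],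
        by rw [inv_mul_cancel_left]; exact mem_zpowers u, ?_⟩
      have e1 : x * (p * u) * x⁻¹ = x * p * x⁻¹ * u := by
        rw [show x * (p * u) * x⁻¹ = x * p * x⁻¹ * (x * u * x⁻¹) by group, h.x_conj_u]
      have e2 : x * (x * p * x⁻¹ * u) * x⁻¹ = x * (x * p * x⁻¹) * x⁻¹ * u := by
        rw [show x * (x * p * x⁻¹ * u) * x⁻¹ = x * (x * p * x⁻¹) * x⁻¹ * (x * u * x⁻¹) by group,
          h.x_conj_u]
      rw [e1, e2]
      set p1 := x * p * x⁻¹
      set p2 := x * p1 * x⁻¹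
      have c1 : Commute u p1 := (mem_Cu.1 (T.Q_le (T.inv _ hp))).symm
      have c2 : Commute u p2 := (mem_Cu.1 (T.Q_le (T.inv _ (T.inv _ hp)))).symm
      calc p * u * (p1 * u) * (p2 * u) = p * (u * p1) * (u * p2) * u := by group
        _ = p * (p1 * u) * (p2 * u) * u := by rw [c1.eq, c2.eq]
        _ = p * p1 * (u * p2) * (u * u) := by group
        _ = p * p1 * p2 * u * (u * u) := by rw [c2.eq]; group
        _ = 1 := by rw [e, h.u2, mul_one]
  refine ⟨v, hv, hv2, hvp, hv1, ?_⟩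
  -- `s` fixes `v`
  set z := p⁻¹ * v with hz
  have hsz : Commute s z := h.Z_comm T.sC hvp
  have hsv : s * v * s⁻¹ = v * (p⁻¹ * (s * p * s⁻¹ * p⁻¹) * p) := by
    have e : s * z * s⁻¹ = z := by rw [hsz.eq, mul_inv_cancel_right]
    have e' : Commute z (p⁻¹ * (s * p * s⁻¹)) :=
      (h.Z_comm (mul_mem (inv_mem (T.Q_le hp))
        (mul_mem (mul_mem T.sC (T.Q_le hp)) (inv_mem T.sC))) hvp).symm
    calc s * v * s⁻¹ = (s * p * s⁻¹) * (s * z * s⁻¹) := by rw [hz]; group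
      _ = p * ((p⁻¹ * (s * p * s⁻¹)) * z) := by rw [e]; group
      _ = p * (z * (p⁻¹ * (s * p * s⁻¹))) := by rw [e'.eq]
      _ = _ := by rw [hz]; group
  set e := p⁻¹ * (s * p * s⁻¹ * p⁻¹) * p with he
  have heZ : e ∈ zpowers u := by
    rw [he, ← commutatorElement_def, mul_assoc, ← (h.Z_comm (T.Q_le hp) hsp).eq, inv_mul_cancel_left]
    exact hsp
  set w := x * v * x⁻¹ with hw
  set w' := x * w * x⁻¹ with hw'
  have hsx1 : s * x⁻¹ * s⁻¹ = x := by
    rw [show s * x⁻¹ * s⁻¹ = (s * x * s⁻¹)⁻¹ by group, T.sx, inv_inv]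
  have hx2 : x⁻¹ * v * x = w' := by
    rw [hw', hw]
    calc x⁻¹ * v * x = x⁻¹ * (x * (x * (x * v * x⁻¹) * x⁻¹) * x⁻¹) * x := by rw [h.conj_thrice]
      _ = _ := by group
  have hsw : s * w * s⁻¹ = w' * e := by
    rw [show s * w * s⁻¹ = (s * x * s⁻¹) * (s * v * s⁻¹) * (s * x * s⁻¹)⁻¹ by rw [hw]; group, T.sx,
      inv_inv, hsv, show x⁻¹ * (v * e) * x = (x⁻¹ * v * x) * (x⁻¹ * (e * x)) by group, hx2,
      ← (h.Z_comm h.x_mem heZ).eq, inv_mul_cancel_left]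
  have hsw' : s * w' * s⁻¹ = w * e := by
    rw [← hx2, show s * (x⁻¹ * v * x) * s⁻¹ = (s * x⁻¹ * s⁻¹) * (s * v * s⁻¹) * (s * x⁻¹ * s⁻¹)⁻¹ by
      group, hsx1, hsv, show x * (v * e) * x⁻¹ = x * v * x⁻¹ * (x * e * x⁻¹) by group, h.Z_x heZ]
  have hvw : Commute v w := h.commute_conj T.Q_le T.three T.inv hv hv2
  have hwQ : w ∈ Q := T.inv _ hv
  have hw'Q : w' ∈ Q := T.inv _ hwQ
  have hww : Commute w w' := h.commute_conj T.Q_le T.three T.inv hwQ (by
    rw [hw, show x * v * x⁻¹ * (x * v * x⁻¹) = x * (v * v) * x⁻¹ by group, hv2, mul_one,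
      mul_inv_cancel])
  have e1 : (v * e) * (w' * e) * (w * e) = 1 := by
    rw [← hsv, ← hsw, ← hsw', show s * v * s⁻¹ * (s * w * s⁻¹) * (s * w' * s⁻¹) =
      s * (v * w * w') * s⁻¹ by group, hv1, mul_one, mul_inv_cancel]
  have hee : e * e = 1 := by rcases h.mem_Z_iff.1 heZ with e' | e' <;> rw [e'] <;> simp [h.u2]
  have he1 : e = 1 := by
    have c1 : Commute e w' := (h.Z_comm (T.Q_le hw'Q) heZ).symm
    have c2 : Commute e w := (h.Z_comm (T.Q_le hwQ) heZ).symm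
    calc e = v * w * w' * e := by rw [hv1, one_mul]
      _ = v * (w * w') * e := by group
      _ = v * (w' * w) * e := by rw [hww.eq]
      _ = v * w' * (e * e) * (w * e) := by rw [hee]; group
      _ = v * (w' * e) * e * (w * e) := by group
      _ = v * (e * w') * e * (w * e) := by rw [c1.eq]
      _ = (v * e) * (w' * e) * (w * e) := by group
      _ = 1 := e1
  rw [hsv, he1, mul_one]

theorem exists_frame (h32 : 32 ≤ Nat.card Q) :
    ∃ v, Frame h Q S v ∧ s * v * s⁻¹ = v ∧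
      v * (x * v * x⁻¹) * (x * (x * v * x⁻¹) * x⁻¹) = 1 := by
  obtain ⟨v0, hv0, hv02, hv0u, hv0p⟩ :=
    exists_plane' h (IsPGroup.to_le S.isPGroup' T.le_S) T.Q_le T.inv T.u_mem (Or.inr (by omega))
  have hcenQ : ∀ z ∈ Q, orderOf z = 2 → (∀ g ∈ Q, Commute g z) → z = u := fun z hz hz2 hc =>
    (h.mem_Z_iff.1 (T.center_eq h32 z ⟨hz, Involution.mul_self hz2, hc⟩)).resolve_left
      (Involution.ne_one hz2)
  have hcenS : ∀ z ∈ (S : Subgroup G), orderOf z = 2 →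
      (∀ g ∈ (S : Subgroup G), Commute g z) → z = u := fun z hz hz2 hc =>
    (h.mem_Z_iff.1 (T.center_eq h32 z (T.omegaCenter_le h32
      ⟨hz, Involution.mul_self hz2, hc⟩))).resolve_left (Involution.ne_one hz2)
  -- plane elements
  let P : G → Prop := fun p => p ∈ Q ∧ p * p = 1 ∧ p ∉ zpowers u ∧ ∀ g ∈ Q, ⁅p, g⁆ ∈ zpowers u
  have hmul : ∀ {a b : G}, a ∈ Q → (∀ g ∈ Q, ⁅a, g⁆ ∈ zpowers u) → (∀ g ∈ Q, ⁅b, g⁆ ∈ zpowers u) →
      ∀ g ∈ Q, ⁅a * b, g⁆ ∈ zpowers u := fun ha hap hbp g hg => by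
    rw [comm_mul_left, (h.Z_comm (T.Q_le ha) (hbp g hg)).eq, mul_inv_cancel_right]
    exact mul_mem (hbp g hg) (hap g hg)
  have hs2 : ∀ a ∈ Q, s * (s * a * s⁻¹) * s⁻¹ = a := fun a ha => by
    rw [show s * (s * a * s⁻¹) * s⁻¹ = (s * s) * a * (s * s)⁻¹ by group,
      (h.Z_comm (T.Q_le ha) T.s2).symm.eq, mul_inv_cancel_right]
  -- the fixed element attached to a plane element
  have hfix : ∀ {p}, P p → p * (s * p * s⁻¹) ∈ Q ∧
      (∀ g ∈ Q, ⁅p * (s * p * s⁻¹), g⁆ ∈ zpowers u) ∧ ⁅s, p * (s * p * s⁻¹)⁆ ∈ zpowers u ∧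
      p * (s * p * s⁻¹) * (p * (s * p * s⁻¹)) ∈ zpowers u := by
    rintro p ⟨hpQ, hp2, hpZ, hpp⟩
    set p' := s * p * s⁻¹ with hp'
    have hp'Q : p' ∈ Q := T.Q_normal s T.sC p hpQ
    have hp'2 : p' * p' = 1 := by
      rw [hp', show s * p * s⁻¹ * (s * p * s⁻¹) = s * (p * p) * s⁻¹ by group, hp2, mul_one,
        mul_inv_cancel]
    have hp'p : ∀ g ∈ Q, ⁅p', g⁆ ∈ zpowers u := fun g hg => by
      have hg' : s⁻¹ * g * s ∈ Q := by
        simpa using T.Q_normal s⁻¹ (inv_mem T.sC) g hg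
      have e := hpp _ hg'
      rw [show ⁅p', g⁆ = s * ⁅p, s⁻¹ * g * s⁆ * s⁻¹ by rw [conj_comm, hp']; group,
        (h.Z_comm T.sC e).eq, mul_inv_cancel_right]
      exact e
    have hpi : p⁻¹ = p := inv_eq_of_mul_eq_one_right hp2
    have hp'i : p'⁻¹ = p' := inv_eq_of_mul_eq_one_right hp'2
    have hsq : p * p' * (p * p') ∈ zpowers u := by
      rw [show p * p' * (p * p') = ⁅p, p'⁆ by rw [commutatorElement_def, hpi, hp'i]; group]
      exact hpp p' hp'Q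
    refine ⟨mul_mem hpQ hp'Q, hmul hpQ hpp hp'p, ?_, hsq⟩
    rw [commutatorElement_def, show s * (p * p') * s⁻¹ = s * p * s⁻¹ * (s * p' * s⁻¹) by group, ← hp',
      hp', hs2 p hpQ, ← hp', mul_inv_rev, hpi, hp'i]
    have e : p' * p * (p' * p) = (p * p' * (p * p'))⁻¹ := by
      rw [mul_inv_rev, mul_inv_rev, hpi, hp'i]
    rw [show p' * p * (p' * p) = (p * p' * (p * p'))⁻¹ from e]
    exact inv_mem hsq
  obtain ⟨p, hp, hsp⟩ : ∃ p, P p ∧ ⁅s, p⁆ ∈ zpowers u := by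
    by_contra hno
    push Not at hno
    have hv : P v0 := ⟨hv0, Involution.mul_self hv02, fun e => (h.mem_Z_iff.1 e).elim
      (Involution.ne_one hv02) hv0u, hv0p⟩
    set w := x * v0 * x⁻¹ with hw
    have hwQ : w ∈ Q := T.inv _ hv0
    have hwZ : w ∉ zpowers u := fun e => hv.2.2.1 (by
      rw [show v0 = x⁻¹ * w * x by rw [hw]; group, mul_assoc, ← (h.Z_comm h.x_mem e).eq,
        inv_mul_cancel_left]
      exact e)
    have hvw : Commute v0 w := h.commute_conj T.Q_le T.three T.inv hv0 hv.2.1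
    have hw2 : w * w = 1 := by
      rw [hw, show x * v0 * x⁻¹ * (x * v0 * x⁻¹) = x * (v0 * v0) * x⁻¹ by group, hv.2.1, mul_one,
        mul_inv_cancel]
    have hwP : P w := ⟨hwQ, hw2, hwZ, fun g hg => by
      have e := hv0p _ (invar_le_conj T.inv hg)
      rw [show ⁅w, g⁆ = x * ⁅v0, x⁻¹ * g * x⁆ * x⁻¹ by rw [conj_comm, hw]; group, h.Z_x e]
      exact e⟩
    obtain ⟨a1, a2, a3, a4⟩ := hfix hv
    obtain ⟨b1, b2, b3, b4⟩ := hfix hwP
    set a := v0 * (s * v0 * s⁻¹) with ha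
    set b := w * (s * w * s⁻¹) with hb
    have notZ : ∀ {p}, P p → p * (s * p * s⁻¹) ∉ zpowers u := fun {p} hp e => hno p hp (by
      rw [commutatorElement_def, inv_eq_of_mul_eq_one_right hp.2.1]
      have := inv_mem e
      rw [mul_inv_rev, inv_eq_of_mul_eq_one_right hp.2.1] at this
      rwa [show (s * p * s⁻¹)⁻¹ * p = s * p * s⁻¹ * p by
        rw [show (s * p * s⁻¹)⁻¹ = s * p⁻¹ * s⁻¹ by group, inv_eq_of_mul_eq_one_right hp.2.1]] at this)
    have ha2 : a * a = u := (h.mem_Z_iff.1 a4).resolve_left fun e =>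
      hno a ⟨a1, e, notZ hv, a2⟩ a3
    have hb2 : b * b = u := (h.mem_Z_iff.1 b4).resolve_left fun e =>
      hno b ⟨b1, e, notZ hwP, b2⟩ b3
    -- `a` and `b` commute
    have hswap := h.swap T.Q_le T.three T.inv a1 b1
    have hab : ⁅a, b⁆ = 1 := by
      have hc : ∀ g ∈ Q, ⁅a, g⁆ ∈ zpowers u := a2
      have hmodr : ∀ g ∈ Q, ∀ z ∈ zpowers u, ⁅a, g * z⁆ = ⁅a, g⁆ := fun g hg z hz => by
        rw [comm_mul_right, (commutatorElement_eq_one_iff_commute.2 (h.Z_comm (T.Q_le a1) hz) :),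
          mul_one, mul_inv_cancel, mul_one]
      have hmul' : ∀ g ∈ Q, ∀ k ∈ Q, ⁅a, g * k⁆ = ⁅a, g⁆ * ⁅a, k⁆ := fun g hg k hk => by
        rw [comm_mul_right, (h.Z_comm (T.Q_le hg) (hc k hk)).eq, mul_inv_cancel_right]
      set b' := x * b * x⁻¹ with hb'
      set b'' := x * b' * x⁻¹ with hb''
      have hb'Q : b' ∈ Q := T.inv _ b1
      have hb''Q : b'' ∈ Q := T.inv _ hb'Q
      have hx2 : x⁻¹ * b * x = b'' := by
        rw [hb'', hb']
        calc x⁻¹ * b * x = x⁻¹ * (x * (x * (x * b * x⁻¹) * x⁻¹) * x⁻¹) * x := by rw [h.conj_thrice]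
          _ = _ := by group
      -- conjugation by `s`
      have hconj : ⁅a, b'⁆ = ⁅a, b''⁆ := by
        have hz := hc b' hb'Q
        have e : ⁅a, b'⁆ = ⁅s * a * s⁻¹, s * b' * s⁻¹⁆ := by
          rw [← conj_comm, (h.Z_comm T.sC hz).eq, mul_inv_cancel_right]
        have za : a⁻¹ * (s * a * s⁻¹) ∈ zpowers u := by
          have e' : a⁻¹ * (s * a * s⁻¹) = a⁻¹ * ⁅s, a⁆ * a := by
            simp only [commutatorElement_def]; group
          rw [e', mul_assoc, ← (h.Z_comm (T.Q_le a1) a3).eq, inv_mul_cancel_left]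
          exact a3
        have zb : b''⁻¹ * (s * b' * s⁻¹) ∈ zpowers u := by
          have hsx1 : s * b' * s⁻¹ = x⁻¹ * (s * b * s⁻¹) * x := by
            rw [hb', show s * (x * b * x⁻¹) * s⁻¹ =
              (s * x * s⁻¹) * (s * b * s⁻¹) * (s * x * s⁻¹)⁻¹ by group, T.sx, inv_inv]
          rw [hsx1, ← hx2,
            show (x⁻¹ * b * x)⁻¹ * (x⁻¹ * (s * b * s⁻¹) * x) = x⁻¹ * (b⁻¹ * ⁅s, b⁆ * b) * x by
              simp only [commutatorElement_def]; group,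
            mul_assoc b⁻¹, ← (h.Z_comm (T.Q_le b1) b3).eq, inv_mul_cancel_left, mul_assoc,
            ← (h.Z_comm h.x_mem b3).eq, inv_mul_cancel_left]
          exact b3
        have hsb : s * b' * s⁻¹ ∈ Q := T.Q_normal s T.sC _ hb'Q
        rw [e, show s * a * s⁻¹ = a * (a⁻¹ * (s * a * s⁻¹)) by group, comm_mul_left,
          (commutatorElement_eq_one_iff_commute.2 (h.Z_comm (T.Q_le hsb) za).symm :), mul_one,
          mul_inv_cancel, one_mul, show s * b' * s⁻¹ = b'' * (b''⁻¹ * (s * b' * s⁻¹)) by group,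
          hmodr _ hb''Q _ zb]
      have hcube := h.cube T.Q_le T.three T.inv b1
      have h1 : ⁅a, b * b' * b''⁆ = 1 :=
        commutatorElement_eq_one_iff_commute.2 (h.Z_comm (T.Q_le a1) hcube)
      rw [hmul' _ (mul_mem b1 hb'Q) _ hb''Q, hmul' _ b1 _ hb'Q, ← hconj, mul_assoc,
        show ⁅a, b'⁆ * ⁅a, b'⁆ = 1 by
          rcases h.mem_Z_iff.1 (hc _ hb'Q) with e | e <;> rw [e] <;> simp [h.u2], mul_one] at h1
      exact h1
    have hab' : Commute a b := commutatorElement_eq_one_iff_commute.1 hab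
    have hab2 : a * b * (a * b) = 1 := by rw [hab'.symm.mul_mul_mul_comm, ha2, hb2, h.u2]
    have hsab : ⁅s, a * b⁆ ∈ zpowers u := by
      rw [comm_mul_right, (h.Z_comm (T.Q_le a1) b3).eq, mul_inv_cancel_right]
      exact mul_mem a3 b3
    refine hno (a * b) ⟨mul_mem a1 b1, hab2, fun e => ?_, hmul a1 a2 b2⟩ hsab
    -- otherwise `s` fixes the class of `v0 w`
    set v' := s * v0 * s⁻¹ with hv'
    set w' := s * w * s⁻¹ with hw'
    have hvwP : P (v0 * w) := ⟨mul_mem hv0 hwQ,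
      by rw [hvw.symm.mul_mul_mul_comm, hv.2.1, hw2, one_mul], fun e' => hwZ (h.fixed T.Q_le T.three
        T.inv hv0 (by
          rw [show x * v0 * x⁻¹ * v0⁻¹ = w * v0⁻¹ from rfl, inv_eq_of_mul_eq_one_right hv.2.1, hvw.eq.symm]
          exact e') |> fun hz => absurd hz hv.2.2.1), hmul hv0 hv.2.2.2 hwP.2.2.2⟩
    refine notZ hvwP ?_
    have hv'Q : v' ∈ Q := T.Q_normal s T.sC _ hv0
    have hc : ⁅w, v'⁆ ∈ zpowers u := hwP.2.2.2 _ hv'Q
    have e' : v0 * w * (s * (v0 * w) * s⁻¹) = v0 * ⁅w, v'⁆ * v0⁻¹ * (a * b) := by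
      rw [ha, hb, show s * (v0 * w) * s⁻¹ = v' * w' by rw [hv', hw']; group]
      simp only [commutatorElement_def]
      group
    rw [e', (h.Z_comm (T.Q_le hv0) hc).eq, mul_inv_cancel_right]
    exact mul_mem hc e
  obtain ⟨hpQ, hp2, hpZ, hpp⟩ := hp
  obtain ⟨v, hv, hv2, hvp, hv1, hsv⟩ := T.normalise hpQ hp2 hsp
  have hvZ : v ∉ zpowers u := fun e => hpZ (by
    rw [show p = v * (p⁻¹ * v)⁻¹ by group]; exact mul_mem e (inv_mem hvp))
  have hvplane : ∀ g ∈ Q, ⁅v, g⁆ ∈ zpowers u := fun g hg => by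
    rw [show v = p * (p⁻¹ * v) by group, comm_mul_left,
      (commutatorElement_eq_one_iff_commute.2 (h.Z_comm (T.Q_le hg) hvp).symm :), mul_one,
      mul_inv_cancel, one_mul]
    exact hpp g hg
  have hv1' : v ≠ 1 := fun e => hvZ (e ▸ one_mem _)
  refine ⟨v, ⟨T.le_S, T.S_le, T.inv, T.u_mem, Involution.orderOf_of_sq hv2 hv1', hv,
    fun e => hvZ (e ▸ mem_zpowers u), hvplane, fun g hg => ?_, hcenQ, hcenS⟩, hsv, hv1⟩
  rcases T.index g hg with hq | hq
  · exact hvplane g hq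
  · have e : ⁅v, s⁆ = 1 :=
      commutatorElement_eq_one_iff_commute.2 (mul_inv_eq_iff_eq_mul.1 hsv).symm
    rw [show g = s * (s⁻¹ * g) by group, comm_mul_right, e, one_mul,
      (h.Z_comm T.sC (hvplane _ hq)).eq, mul_inv_cancel_right]
    exact hvplane _ hq

end Top

end Cfsg.Agent.SelfCentSix
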